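import Mathlib.RingTheory.AdicCompletion.Algebra
import Mathlib.RingTheory.AdicCompletion.Completeness
import Mathlib.RingTheory.Localization.Away.Basic
import Mathlib.RingTheory.Jacobson.Ideal
import Mathlib.RingTheory.Henselian
import Mathlib.Algebra.Ring.Idempotent

/-!
# The map `A[1/t] → Â[1/t]` for bounded `t`-torsion

`Glue ι t`: the map `ι : A → B` is an isomorphism modulo all powers of `t`, the `t`-power torsion of `B` comes from the
`t`-power torsion of `A`, and `t` is in both Jacobson radicals. `glue_adicCompletion`: the `t`-adic completion is such a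
map when the `t`-power torsion of `A` is bounded and `t` is in the Jacobson radical.
-/

set_option autoImplicit false

namespace K89.AwayCompl

/-- `ι : A → B` is an isomorphism modulo powers of `t` and on `t`-power torsion (surjectivity). -/
structure Glue {A B : Type*} [CommRing A] [CommRing B] (ι : A →+* B) (t : A) : Prop where
  surj : ∀ (n : ℕ) (b : B), ∃ (a : A) (c : B), b = ι a + ι t ^ n * c
  inj : ∀ (n : ℕ) (a : A) (c : B), ι a = ι t ^ n * c → ∃ a', a = t ^ n * a'
  tors : ∀ (m : ℕ) (b : B), ι t ^ m * b = 0 → ∃ (a : A) (k : ℕ), b = ι a ∧ t ^ k * a = 0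
  jac : t ∈ (⊥ : Ideal A).jacobson
  jac' : ι t ∈ (⊥ : Ideal B).jacobson

section Completion

variable {A : Type*} [CommRing A] (t : A)

theorem mem_pow_smul_top {M : Type*} [AddCommGroup M] [Module A M] (n : ℕ) (x : M) :
    x ∈ ((Ideal.span {t}) ^ n • (⊤ : Submodule A M)) ↔ ∃ y : M, x = t ^ n • y := by
  rw [Ideal.span_singleton_pow, Submodule.ideal_span_singleton_smul, Submodule.mem_smul_pointwise_iff_exists]
  constructor
  · rintro ⟨y, -, h⟩; exact ⟨y, h.symm⟩
  · rintro ⟨y, h⟩; exact ⟨y, trivial, h.symm⟩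

theorem span_fg : (Ideal.span {t}).FG := ⟨{t}, by simp⟩

theorem surj_completion (n : ℕ) (b : AdicCompletion (Ideal.span {t}) A) :
    ∃ (a : A) (c : AdicCompletion (Ideal.span {t}) A),
      b = algebraMap A (AdicCompletion (Ideal.span {t}) A) a +
        algebraMap A (AdicCompletion (Ideal.span {t}) A) t ^ n * c := by
  obtain ⟨a, ha⟩ := Submodule.Quotient.mk_surjective _ (AdicCompletion.eval (Ideal.span {t}) A n b)
  have h1 : b - algebraMap A (AdicCompletion (Ideal.span {t}) A) a ∈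
      (AdicCompletion.eval (Ideal.span {t}) A n).ker := by
    rw [LinearMap.mem_ker, map_sub, ← ha, sub_eq_zero]
    rfl
  rw [← AdicCompletion.pow_smul_top_eq_ker_eval (span_fg t), mem_pow_smul_top] at h1
  obtain ⟨c, hc⟩ := h1
  refine ⟨a, c, ?_⟩
  rw [Algebra.smul_def, map_pow] at hc
  rw [← hc]
  ring

theorem inj_completion (n : ℕ) (a : A) (c : AdicCompletion (Ideal.span {t}) A)
    (h : algebraMap A (AdicCompletion (Ideal.span {t}) A) a =
        algebraMap A (AdicCompletion (Ideal.span {t}) A) t ^ n * c) : ∃ a', a = t ^ n * a' := by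
  have h1 : algebraMap A (AdicCompletion (Ideal.span {t}) A) a ∈
      (AdicCompletion.eval (Ideal.span {t}) A n).ker := by
    rw [← AdicCompletion.pow_smul_top_eq_ker_eval (span_fg t), mem_pow_smul_top]
    exact ⟨c, by rw [h, Algebra.smul_def, map_pow]⟩
  rw [LinearMap.mem_ker] at h1
  have h2 : (Submodule.Quotient.mk a : A ⧸ ((Ideal.span {t}) ^ n • (⊤ : Submodule A A))) = 0 := h1
  rw [Submodule.Quotient.mk_eq_zero, mem_pow_smul_top] at h2
  obtain ⟨y, hy⟩ := h2
  exact ⟨y, hy⟩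

theorem tors_completion (hbd : ∃ N : ℕ, ∀ a : A, (∃ m : ℕ, t ^ m * a = 0) → t ^ N * a = 0)
    (m : ℕ) (b : AdicCompletion (Ideal.span {t}) A)
    (h : algebraMap A (AdicCompletion (Ideal.span {t}) A) t ^ m * b = 0) :
    ∃ (a : A) (k : ℕ), b = algebraMap A (AdicCompletion (Ideal.span {t}) A) a ∧ t ^ k * a = 0 := by
  obtain ⟨N, hN⟩ := hbd
  set ι := algebraMap A (AdicCompletion (Ideal.span {t}) A) with hι
  have h1 : ∀ n : ℕ, ∃ (a : A) (c : AdicCompletion (Ideal.span {t}) A),
      t ^ N * a = 0 ∧ b = ι a + ι t ^ n * c := by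
    intro n
    obtain ⟨a, c, hc⟩ := surj_completion t n b
    rw [← hι] at hc
    have h2 : ι (t ^ m * a) = ι t ^ (n + m) * (-c) := by
      rw [map_mul, map_pow, pow_add]
      have : ι t ^ m * (ι a + ι t ^ n * c) = 0 := by rw [← hc, h]
      linear_combination this
    obtain ⟨a', ha'⟩ := inj_completion t (n + m) _ _ h2
    refine ⟨a - t ^ n * a', c + ι a', ?_, ?_⟩
    · apply hN
      refine ⟨m, ?_⟩
      rw [mul_sub, ha', pow_add]
      ring
    · rw [hc, map_sub, map_mul, map_pow]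
      ring
  choose a c ha hb using h1
  have h3 : ∀ n, N ≤ n → a n = a N := by
    intro n hn
    have h4 : ι (a n - a N) = ι t ^ N * (c N - ι t ^ (n - N) * c n) := by
      rw [map_sub]
      have h5 := hb n
      have h6 := hb N
      have h7 : ι t ^ n = ι t ^ N * ι t ^ (n - N) := by rw [← pow_add]; congr 1; omega
      rw [h7] at h5
      linear_combination h6 - h5
    obtain ⟨a', ha'⟩ := inj_completion t N _ _ h4
    have h5 : t ^ N * a' = 0 := by
      apply hN
      refine ⟨N + N, ?_⟩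
      rw [pow_add, mul_assoc, ← ha', mul_sub, ha n, ha N, sub_zero]
    rw [h5, sub_eq_zero] at ha'
    exact ha'
  refine ⟨a N, N, ?_, ha N⟩
  rw [← sub_eq_zero]
  apply (inferInstance : IsHausdorff (Ideal.span {t}) (AdicCompletion (Ideal.span {t}) A)).haus
  intro n
  rw [SModEq.zero, mem_pow_smul_top]
  refine ⟨ι t ^ (max n N - n) * c (max n N), ?_⟩
  have h5 := hb (max n N)
  rw [h3 _ (le_max_right _ _)] at h5
  have h6 : ι t ^ (max n N) = ι t ^ n * ι t ^ (max n N - n) := by
    rw [← pow_add]; congr 1; have := le_max_left n N; omega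
  rw [Algebra.smul_def, map_pow, ← hι, ← mul_assoc, ← h6, h5]
  ring

theorem jac_completion : algebraMap A (AdicCompletion (Ideal.span {t}) A) t ∈
    (⊥ : Ideal (AdicCompletion (Ideal.span {t}) A)).jacobson := by
  have h1 : IsAdicComplete ((Ideal.span {t}).map (algebraMap A (AdicCompletion (Ideal.span {t}) A)))
      (AdicCompletion (Ideal.span {t}) A) := by
    rw [IsAdicComplete.map_algebraMap_iff]
    exact AdicCompletion.isAdicComplete (span_fg t)
  exact IsAdicComplete.le_jacobson_bot _ (Ideal.mem_map_of_mem _ (Ideal.mem_span_singleton_self t))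

/-- The completion is a glueing map. -/
theorem glue_adicCompletion (ht : t ∈ (⊥ : Ideal A).jacobson)
    (hbd : ∃ N : ℕ, ∀ a : A, (∃ m : ℕ, t ^ m * a = 0) → t ^ N * a = 0) :
    Glue (algebraMap A (AdicCompletion (Ideal.span {t}) A)) t where
  surj := surj_completion t
  inj := inj_completion t
  tors := tors_completion t hbd
  jac := ht
  jac' := jac_completion t

end Completion

section Away

variable {A B L L' : Type*} [CommRing A] [CommRing B] [CommRing L] [CommRing L'] {ι : A →+* B} {t : A}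
  [Algebra A L] [IsLocalization.Away t L] [Algebra B L'] [IsLocalization.Away (ι t) L']
  {φ : L →+* L'}

theorem isUnit_t : IsUnit (algebraMap A L t) := IsLocalization.Away.algebraMap_isUnit t

theorem exists_away (x : L) : ∃ (a : A) (m : ℕ), x * algebraMap A L t ^ m = algebraMap A L a := by
  obtain ⟨m, a, h⟩ := IsLocalization.Away.surj t x
  exact ⟨a, m, h⟩

/-- elements of `A[1/t]` whose image is in `t^n B` are in `t^n A`. -/
theorem mem_of_map (hG : Glue ι t) (hφ : ∀ a, φ (algebraMap A L a) = algebraMap B L' (ι a)) (n : ℕ) (x : L) (b : B)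
    (h : φ x = algebraMap B L' (ι t) ^ n * algebraMap B L' b) :
    ∃ a : A, x = algebraMap A L t ^ n * algebraMap A L a := by
  obtain ⟨a₀, m, h0⟩ := exists_away (t := t) x
  have h1 : algebraMap B L' (ι a₀) = algebraMap B L' (ι t ^ (n + m) * b) := by
    rw [← hφ, ← h0, map_mul, map_pow, hφ, h, map_mul, map_pow, pow_add]
    ring
  obtain ⟨k, hk⟩ := IsLocalization.Away.exists_of_eq (ι t) h1
  have h2 : ι t ^ k * (ι a₀ - ι t ^ (n + m) * b) = 0 := by rw [mul_sub, hk, sub_self]
  obtain ⟨a₁, l, h3, h4⟩ := hG.tors k _ h2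
  have h5 : ι (a₀ - a₁) = ι t ^ (n + m) * b := by rw [map_sub, ← h3]; ring
  obtain ⟨a', ha'⟩ := hG.inj _ _ _ h5
  have h6 : algebraMap A L a₁ = 0 := by
    have h7 := congrArg (algebraMap A L) h4
    rw [map_mul, map_pow, map_zero] at h7
    exact ((isUnit_t (t := t) (L := L)).pow l).mul_left_cancel (by rw [h7, mul_zero])
  refine ⟨a', ((isUnit_t (t := t) (L := L)).pow m).mul_right_cancel ?_⟩
  have h8 : a₀ = a₁ + t ^ (n + m) * a' := by rw [← ha']; ring
  rw [h0, h8, map_add, h6, zero_add, map_mul, map_pow, pow_add]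
  ring

theorem exists_approx (hG : Glue ι t) (hφ : ∀ a, φ (algebraMap A L a) = algebraMap B L' (ι a)) (n : ℕ) (y : L') :
    ∃ (x : L) (b : B), y = φ x + algebraMap B L' (ι t) ^ n * algebraMap B L' b := by
  obtain ⟨b₀, m, h0⟩ := exists_away (t := ι t) y
  obtain ⟨a, c, hc⟩ := hG.surj (n + m) b₀
  obtain ⟨u, hu⟩ := (isUnit_t (t := t) (L := L)).pow m
  refine ⟨algebraMap A L a * ↑u⁻¹, c, ?_⟩
  apply ((isUnit_t (t := ι t) (L := L')).pow m).mul_right_cancel
  have h1 : φ (↑u⁻¹ : L) * algebraMap B L' (ι t) ^ m = 1 := by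
    rw [← hφ, ← map_pow, ← hu, ← map_mul, Units.inv_mul, map_one]
  rw [h0, hc, map_add, add_mul, map_mul φ, mul_assoc (φ _), h1, mul_one, hφ, map_mul, map_pow, pow_add]
  ring

omit [IsLocalization.Away t L] in
theorem isUnit_one_add (hG : Glue ι t) (a : A) : IsUnit (1 + algebraMap A L t * algebraMap A L a) := by
  have h1 : IsUnit (t * a + 1) := Ideal.mem_jacobson_bot.mp hG.jac a
  rw [← map_mul, ← map_one (algebraMap A L), ← map_add, add_comm]
  exact h1.map _

omit [IsLocalization.Away (ι t) L'] in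
theorem isUnit_one_add' (hG : Glue ι t) (b : B) : IsUnit (1 + algebraMap B L' (ι t) * algebraMap B L' b) := by
  have h1 : IsUnit (ι t * b + 1) := Ideal.mem_jacobson_bot.mp hG.jac' b
  rw [← map_mul, ← map_one (algebraMap B L'), ← map_add, add_comm]
  exact h1.map _

/-- uniqueness of idempotents. -/
theorem idem_unique (hG : Glue ι t) (hφ : ∀ a, φ (algebraMap A L a) = algebraMap B L' (ι a)) (e₁ e₂ : L)
    (h₁ : e₁ * e₁ = e₁) (h₂ : e₂ * e₂ = e₂) (h : φ e₁ = φ e₂) : e₁ = e₂ := by
  obtain ⟨a, ha⟩ := mem_of_map hG hφ 1 (e₁ - e₂) 0 (by rw [map_sub, h, sub_self, map_zero, mul_zero])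
  rw [pow_one] at ha
  have h3 : (e₁ - e₂) * (1 - (e₁ - e₂) * (e₁ - e₂)) = 0 := by
    linear_combination (-e₁ + 3 * e₂ - 1) * h₁ + (1 - 3 * e₁ + e₂) * h₂
  have h4 : IsUnit (1 - (e₁ - e₂) * (e₁ - e₂)) := by
    have h5 := isUnit_one_add (L := L) hG (-(t * a * a))
    have h6 : 1 - (e₁ - e₂) * (e₁ - e₂) = 1 + algebraMap A L t * algebraMap A L (-(t * a * a)) := by
      rw [ha, map_neg, map_mul, map_mul]
      ring
    rw [h6]
    exact h5
  rw [← sub_eq_zero]
  exact h4.mul_left_cancel (by rw [mul_comm, h3, mul_zero])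

omit [IsLocalization.Away (ι t) L'] in
theorem idem_unique' (hG : Glue ι t) (e₁ e₂ : L') (b : B)
    (h₁ : e₁ * e₁ = e₁) (h₂ : e₂ * e₂ = e₂) (h : e₁ - e₂ = algebraMap B L' (ι t) * algebraMap B L' b) :
    e₁ = e₂ := by
  have h3 : (e₁ - e₂) * (1 - (e₁ - e₂) * (e₁ - e₂)) = 0 := by
    linear_combination (-e₁ + 3 * e₂ - 1) * h₁ + (1 - 3 * e₁ + e₂) * h₂
  have h4 : IsUnit (1 - (e₁ - e₂) * (e₁ - e₂)) := by
    have h5 := isUnit_one_add' (L' := L') hG (-(ι t * b * b))
    have h6 : 1 - (e₁ - e₂) * (e₁ - e₂) = 1 + algebraMap B L' (ι t) * algebraMap B L' (-(ι t * b * b)) := by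
      rw [h, map_neg, map_mul, map_mul]
      ring
    rw [h6]
    exact h5
  rw [← sub_eq_zero]
  exact h4.mul_left_cancel (by rw [mul_comm, h3, mul_zero])

/-- Lifting of idempotents. -/
theorem idem_exists [HenselianRing A (Ideal.span {t})]
    (hG : Glue ι t) (hφ : ∀ a, φ (algebraMap A L a) = algebraMap B L' (ι a)) (e : L') (he : e * e = e) :
    ∃ e₀ : L, e₀ * e₀ = e₀ ∧ φ e₀ = e := by
  obtain ⟨b₀, m, h0⟩ := exists_away (t := ι t) e
  set τ := algebraMap B L' (ι t) with hτ
  set s := algebraMap A L t with hs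
  -- approximation with error in `t^(2m+2)`
  obtain ⟨x, b, hx⟩ := exists_approx hG hφ (3 * m + 2) e
  rw [← hτ] at hx
  have hφs : φ s = τ := by rw [hs, hφ]
  -- x² - x is small
  have h1 : φ (x * x - x) = τ ^ (2 * m + 2) * algebraMap B L'
      (- 2 * b₀ * b + ι t ^ (4 * m + 2) * b * b + ι t ^ m * b) := by
    have h2 : φ x = e - τ ^ (3 * m + 2) * algebraMap B L' b := by rw [hx]; ring
    rw [map_sub, map_mul, h2]
    simp only [map_add, map_mul, map_neg, map_pow, map_ofNat, ← h0, ← hτ]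
    have h3 : τ ^ (3 * m + 2) = τ ^ (2 * m + 2) * τ ^ m := by rw [← pow_add]; congr 1; omega
    have h4 : τ ^ (4 * m + 2) = τ ^ (2 * m + 2) * τ ^ m * τ ^ m := by
      rw [← pow_add, ← pow_add]; congr 1; omega
    rw [h3, h4]
    linear_combination he
  obtain ⟨a₁, ha₁⟩ := mem_of_map hG hφ _ _ _ h1
  rw [← hs] at ha₁
  -- the unit 1 + 4 t^k a₁
  have hu : IsUnit (t * (t ^ (2 * m + 1) * 4 * a₁) + 1) := Ideal.mem_jacobson_bot.mp hG.jac _
  obtain ⟨u, hu⟩ := hu
  -- Hensel
  let γ : A := t ^ (2 * m + 2) * a₁ * ↑u⁻¹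
  have hmon : (Polynomial.X ^ 2 - Polynomial.X + Polynomial.C γ : Polynomial A).Monic := by
    monicity!
  obtain ⟨y, hy, hy'⟩ := HenselianRing.is_henselian (I := Ideal.span {t}) _ hmon 0
    (by
      have : (Polynomial.X ^ 2 - Polynomial.X + Polynomial.C γ : Polynomial A).eval 0 = γ := by simp
      rw [this, Ideal.mem_span_singleton]
      exact ⟨t ^ (2 * m + 1) * a₁ * ↑u⁻¹, by simp only [γ]; ring⟩)
    (by simp)
  have hy1 : y * y - y + γ = 0 := by
    have := hy
    simp only [Polynomial.IsRoot.def, Polynomial.eval_add, Polynomial.eval_sub, Polynomial.eval_pow,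
      Polynomial.eval_X, Polynomial.eval_C] at this
    linear_combination this
  rw [sub_zero, Ideal.mem_span_singleton] at hy'
  obtain ⟨y', hy'⟩ := hy'
  -- 1 - y is a unit
  have hv : IsUnit (t * (-y') + 1) := Ideal.mem_jacobson_bot.mp hG.jac _
  obtain ⟨v, hv⟩ := hv
  have hy2 : y = t ^ (2 * m + 2) * (a₁ * ↑u⁻¹ * ↑v⁻¹) := by
    have h5 : y * (v : A) = γ := by rw [hv]; linear_combination y * hy' - hy1
    calc y = y * (v : A) * ↑v⁻¹ := by rw [mul_assoc, Units.mul_inv, mul_one]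
      _ = _ := by rw [h5]; simp only [γ]; ring
  let e₀ : L := x + algebraMap A L y * (1 - 2 * x)
  have hux : (1 + 4 * (x * x - x)) = algebraMap A L (u : A) := by
    rw [ha₁, hu, map_add, map_mul, map_mul, map_mul, map_pow, map_one, map_ofNat, ← hs]
    ring
  have he₀ : e₀ * e₀ = e₀ := by
    have h6 : e₀ * e₀ - e₀ = (x * x - x) + (algebraMap A L y * algebraMap A L y - algebraMap A L y) *
        (1 + 4 * (x * x - x)) := by simp only [e₀]; ring
    have h7 : algebraMap A L y * algebraMap A L y - algebraMap A L y = - algebraMap A L γ := by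
      rw [← map_mul, ← map_sub, ← map_neg]
      congr 1
      linear_combination hy1
    rw [← sub_eq_zero, h6, h7, hux, neg_mul, ← map_mul]
    have h8 : γ * ↑u = t ^ (2 * m + 2) * a₁ := by
      simp only [γ]
      rw [mul_assoc, Units.inv_mul, mul_one]
    rw [h8, ha₁, map_mul, map_pow, ← hs]
    ring
  refine ⟨e₀, he₀, ?_⟩
  have he₀' : φ e₀ * φ e₀ = φ e₀ := by rw [← map_mul, he₀]
  -- closeness
  have hτm : IsUnit (τ ^ m) := (isUnit_t (t := ι t) (L := L')).pow m
  refine idem_unique' hG (φ e₀) e (-(ι t ^ (3 * m + 1) * b) + ι t ^ (m + 1) *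
    ι (a₁ * ↑u⁻¹ * ↑v⁻¹) * (ι t ^ m - 2 * b₀ + 2 * ι t ^ (4 * m + 2) * b)) he₀' he ?_
  have h9 : φ x = e - τ ^ (3 * m + 2) * algebraMap B L' b := by rw [hx]; ring
  have h10 : φ e₀ = φ x + algebraMap B L' (ι y) * (1 - 2 * φ x) := by
    simp only [e₀, map_add, map_mul, map_sub, map_one, map_ofNat, hφ]
  rw [h10, hy2, h9]
  simp only [map_add, map_mul, map_neg, map_pow, map_ofNat, map_sub, ← h0, ← hτ]
  have h3 : τ ^ (3 * m + 2) = τ ^ (2 * m + 2) * τ ^ m := by rw [← pow_add]; congr 1; omega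
  have h4 : τ ^ (4 * m + 2) = τ ^ (2 * m + 2) * τ ^ m * τ ^ m := by
    rw [← pow_add, ← pow_add]; congr 1; omega
  have h5 : τ ^ (3 * m + 1) = τ ^ (2 * m + 1) * τ ^ m := by rw [← pow_add]; congr 1; omega
  have h6 : τ ^ (2 * m + 2) = τ ^ (2 * m + 1) * τ := by rw [← pow_succ]
  have h7 : τ ^ (2 * m + 1) = τ ^ (m + 1) * τ ^ m := by rw [← pow_add]; congr 1; omega
  rw [h3, h4, h5, h6, h7]
  ring

end Away

end K89.AwayCompl
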