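import Groth.Agent.CAlg.K89.AwayCompl
import Mathlib.LinearAlgebra.Matrix.ToLin
import Mathlib.LinearAlgebra.Matrix.NonsingularInverse
import Mathlib.LinearAlgebra.TensorProduct.Pi
import Mathlib.LinearAlgebra.TensorProduct.RightExactness
import Mathlib.Algebra.Module.Projective
import Mathlib.RingTheory.TensorProduct.Basic

/-!
# Finite projective modules over `A[1/t] → Â[1/t]`
-/

set_option autoImplicit false

open scoped TensorProduct

namespace K89.AwayProj

open K89.AwayCompl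

section Fil

variable {B : Type*} (L' : Type*) [CommRing B] [CommRing L'] [Algebra B L'] (g : B) [IsLocalization.Away g L']

/-- the unit `g` of `B[1/g]`. -/
noncomputable def tau : L'ˣ := (IsLocalization.Away.algebraMap_isUnit (S := L') g).unit

theorem tau_coe : (tau L' g : L') = algebraMap B L' g := rfl

/-- the lattice `g^n B` in `B[1/g]`. -/
def Fil (n : ℤ) : AddSubgroup L' where
  carrier := {x | ∃ b : B, x = ((tau L' g ^ n : L'ˣ) : L') * algebraMap B L' b}
  zero_mem' := ⟨0, by simp⟩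
  add_mem' := by
    rintro _ _ ⟨b, rfl⟩ ⟨c, rfl⟩
    exact ⟨b + c, by rw [map_add, mul_add]⟩
  neg_mem' := by
    rintro _ ⟨b, rfl⟩
    exact ⟨-b, by rw [map_neg, mul_neg]⟩

theorem mem_fil (n : ℤ) (x : L') :
    x ∈ Fil L' g n ↔ ∃ b : B, x = ((tau L' g ^ n : L'ˣ) : L') * algebraMap B L' b := Iff.rfl

theorem mul_mem_fil {n m : ℤ} {x y : L'} (hx : x ∈ Fil L' g n) (hy : y ∈ Fil L' g m) :
    x * y ∈ Fil L' g (n + m) := by
  obtain ⟨b, rfl⟩ := hx
  obtain ⟨c, rfl⟩ := hy
  refine ⟨b * c, ?_⟩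
  rw [zpow_add, Units.val_mul, map_mul]
  ring

theorem fil_mono {n m : ℤ} (h : n ≤ m) : Fil L' g m ≤ Fil L' g n := by
  rintro _ ⟨b, rfl⟩
  obtain ⟨k, hk⟩ := Int.le.dest h
  refine ⟨g ^ k * b, ?_⟩
  rw [← hk, zpow_add, Units.val_mul, zpow_natCast, Units.val_pow_eq_pow_val, tau_coe, map_mul, map_pow]
  ring

theorem exists_mem_fil (x : L') : ∃ m : ℕ, x ∈ Fil L' g (-(m : ℤ)) := by
  obtain ⟨a, m, h⟩ := exists_away (t := g) x
  refine ⟨m, a, ?_⟩
  rw [← h, zpow_neg, zpow_natCast, ← tau_coe, ← Units.val_pow_eq_pow_val, mul_comm x, Units.inv_mul_cancel_left]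

/-- matrices with entries in the lattice. -/
def MFil {a b : Type*} (n : ℤ) (X : Matrix a b L') : Prop := ∀ i j, X i j ∈ Fil L' g n

variable {L' g}

theorem MFil.mul {a b c : Type*} [Fintype b] {n m : ℤ} {X : Matrix a b L'} {Y : Matrix b c L'}
    (hX : MFil L' g n X) (hY : MFil L' g m Y) : MFil L' g (n + m) (X * Y) := by
  intro i j
  rw [Matrix.mul_apply]
  exact AddSubgroup.sum_mem _ fun k _ => mul_mem_fil L' g (hX i k) (hY k j)

theorem MFil.mono {a b : Type*} {n m : ℤ} (h : n ≤ m) {X : Matrix a b L'} (hX : MFil L' g m X) :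
    MFil L' g n X := fun i j => fil_mono L' g h (hX i j)

theorem MFil.add {a b : Type*} {n : ℤ} {X Y : Matrix a b L'} (hX : MFil L' g n X) (hY : MFil L' g n Y) :
    MFil L' g n (X + Y) := fun i j => add_mem (hX i j) (hY i j)

theorem MFil.sub {a b : Type*} {n : ℤ} {X Y : Matrix a b L'} (hX : MFil L' g n X) (hY : MFil L' g n Y) :
    MFil L' g n (X - Y) := fun i j => sub_mem (hX i j) (hY i j)

theorem MFil.neg {a b : Type*} {n : ℤ} {X : Matrix a b L'} (hX : MFil L' g n X) :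
    MFil L' g n (-X) := fun i j => neg_mem (hX i j)

theorem exists_MFil {a b : Type*} [Fintype a] [Fintype b] (X : Matrix a b L') :
    ∃ m : ℕ, MFil L' g (-(m : ℤ)) X := by
  choose m hm using fun i j => exists_mem_fil L' g (X i j)
  refine ⟨∑ i, ∑ j, m i j, fun i j => ?_⟩
  refine fil_mono L' g ?_ (hm i j)
  rw [neg_le_neg_iff]
  have h1 : m i j ≤ ∑ j, m i j := Finset.single_le_sum (fun _ _ => Nat.zero_le _) (Finset.mem_univ j)
  have h2 : ∑ j, m i j ≤ ∑ i, ∑ j, m i j :=
    Finset.single_le_sum (f := fun i => ∑ j, m i j) (fun _ _ => Nat.zero_le _) (Finset.mem_univ i)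
  exact_mod_cast h1.trans h2

end Fil

section Main

variable {A B L L' : Type*} [CommRing A] [CommRing B] [CommRing L] [CommRing L'] {ι : A →+* B} {t : A}
  [Algebra A L] [IsLocalization.Away t L] [Algebra B L'] [IsLocalization.Away (ι t) L']
  {φ : L →+* L'}

theorem exists_matrix_approx (hG : Glue ι t) (hφ : ∀ a, φ (algebraMap A L a) = algebraMap B L' (ι a))
    {a b : Type*} (n : ℕ) (Y : Matrix a b L') :
    ∃ X : Matrix a b L, MFil L' (ι t) n (Y - X.map φ) := by
  choose x b hx using fun i j => exists_approx hG hφ n (Y i j)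
  refine ⟨Matrix.of x, fun i j => ⟨b i j, ?_⟩⟩
  rw [Matrix.sub_apply, Matrix.map_apply, Matrix.of_apply, zpow_natCast, Units.val_pow_eq_pow_val, tau_coe]
  conv_lhs => rw [hx i j]
  ring

theorem matrix_of_map (hG : Glue ι t) (hφ : ∀ a, φ (algebraMap A L a) = algebraMap B L' (ι a))
    {a b : Type*} (n : ℕ) (X : Matrix a b L) (h : MFil L' (ι t) n (X.map φ)) :
    ∃ W : Matrix a b A, X = (t ^ n • W).map (algebraMap A L) := by
  have h1 : ∀ i j, ∃ w : A, X i j = algebraMap A L t ^ n * algebraMap A L w := by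
    intro i j
    obtain ⟨b, hb⟩ := h i j
    rw [zpow_natCast, Units.val_pow_eq_pow_val, tau_coe] at hb
    exact mem_of_map hG hφ n (X i j) b hb
  choose w hw using h1
  refine ⟨Matrix.of w, ?_⟩
  ext i j
  rw [Matrix.map_apply, Matrix.smul_apply, Matrix.of_apply, hw, smul_eq_mul, map_mul, map_pow]

theorem isUnit_one_add_smul {A : Type*} [CommRing A] {t : A} (ht : t ∈ (⊥ : Ideal A).jacobson)
    {a : Type*} [Fintype a] [DecidableEq a] (W : Matrix a a A) : IsUnit (1 + t • W) := by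
  rw [Matrix.isUnit_iff_isUnit_det]
  have h1 : Ideal.Quotient.mk (Ideal.span {t}) (1 + t • W).det = 1 := by
    rw [RingHom.map_det]
    have : (Ideal.Quotient.mk (Ideal.span {t})).mapMatrix (1 + t • W) = 1 := by
      rw [map_add, map_one, add_eq_left]
      ext i j
      rw [RingHom.mapMatrix_apply, Matrix.map_apply, Matrix.smul_apply, smul_eq_mul, map_mul,
        Ideal.Quotient.eq_zero_iff_mem.mpr (Ideal.mem_span_singleton_self t), zero_mul]
      rfl
    rw [this, Matrix.det_one]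
  rw [← map_one (Ideal.Quotient.mk (Ideal.span {t})), Ideal.Quotient.eq, Ideal.mem_span_singleton] at h1
  obtain ⟨c, hc⟩ := h1
  have h2 : (1 + t • W).det = t * c + 1 := by rw [← hc]; ring
  rw [h2]
  exact Ideal.mem_jacobson_bot.mp ht c

/-- an element `1 + small` is invertible. -/
theorem isUnit_of_MFil (hG : Glue ι t) (hφ : ∀ a, φ (algebraMap A L a) = algebraMap B L' (ι a))
    {a : Type*} [Fintype a] [DecidableEq a] (U : Matrix a a L) (h : MFil L' (ι t) 1 ((U - 1).map φ)) :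
    IsUnit U := by
  obtain ⟨W, hW⟩ := matrix_of_map hG hφ 1 (U - 1) (by exact_mod_cast h)
  have h1 : U = (algebraMap A L).mapMatrix (1 + t • W) := by
    rw [map_add, map_one, RingHom.mapMatrix_apply, ← sub_eq_iff_eq_add', hW, pow_one]
  rw [h1]
  exact (isUnit_one_add_smul hG.jac W).map _

theorem isUnit_of_MFil' (hG : Glue ι t) {a : Type*} [Fintype a] [DecidableEq a] (U : Matrix a a L')
    (h : MFil L' (ι t) 1 (U - 1)) : IsUnit U := by
  choose w hw using h
  have h1 : U = (algebraMap B L').mapMatrix (1 + ι t • Matrix.of w) := by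
    rw [map_add, map_one, ← sub_eq_iff_eq_add']
    ext i j
    rw [hw, zpow_one, tau_coe, RingHom.mapMatrix_apply, Matrix.map_apply, Matrix.smul_apply, Matrix.of_apply,
      smul_eq_mul, map_mul]
  rw [h1]
  exact (isUnit_one_add_smul hG.jac' _).map _

theorem isUnit_of_close (hG : Glue ι t) (hφ : ∀ a, φ (algebraMap A L a) = algebraMap B L' (ι a))
    {k l : Type*} [Fintype k] [DecidableEq k] [Fintype l] [DecidableEq l] (m : ℕ)
    (E : Matrix k k L) (F : Matrix l l L) (Φ : Matrix l k L') (Ψ : Matrix k l L')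
    (Φ₀ : Matrix l k L) (Ψ₀ : Matrix k l L)
    (hE : MFil L' (ι t) (-(m : ℤ)) (E.map φ)) (hF : MFil L' (ι t) (-(m : ℤ)) (F.map φ))
    (hΦ : MFil L' (ι t) (-(m : ℤ)) Φ) (hΨ : MFil L' (ι t) (-(m : ℤ)) Ψ)
    (hΦ₀ : MFil L' (ι t) (4 * m + 1) (Φ - Φ₀.map φ)) (hΨ₀ : MFil L' (ι t) (4 * m + 1) (Ψ - Ψ₀.map φ))
    (h : E.map φ * Ψ * F.map φ * Φ * E.map φ = E.map φ) :
    IsUnit (E * Ψ₀ * F * Φ₀ * E + (1 - E)) := by
  apply isUnit_of_MFil hG hφ
  have h0 : (E * Ψ₀ * F * Φ₀ * E + (1 - E) - 1).map φ =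
      E.map φ * Ψ₀.map φ * F.map φ * Φ₀.map φ * E.map φ - E.map φ := by
    have : E * Ψ₀ * F * Φ₀ * E + (1 - E) - 1 = E * Ψ₀ * F * Φ₀ * E - E := by abel
    rw [this, Matrix.map_sub φ (map_sub φ), Matrix.map_mul, Matrix.map_mul, Matrix.map_mul, Matrix.map_mul]
  rw [h0]
  set E' := E.map φ
  set F' := F.map φ
  set X := Φ - Φ₀.map φ with hX
  set Y := Ψ - Ψ₀.map φ with hY
  have h1 : Φ₀.map φ = Φ - X := by rw [hX]; abel
  have h2 : Ψ₀.map φ = Ψ - Y := by rw [hY]; abel
  have h3 : E' * Ψ₀.map φ * F' * Φ₀.map φ * E' - E' =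
      E' * Y * F' * X * E' - E' * Ψ * F' * X * E' - E' * Y * F' * Φ * E' := by
    have h4 : E' * (Ψ - Y) * F' * (Φ - X) * E' = E' * Ψ * F' * Φ * E' + (E' * Y * F' * X * E'
        - E' * Ψ * F' * X * E' - E' * Y * F' * Φ * E') := by
      simp only [Matrix.mul_sub, Matrix.sub_mul]
      abel
    rw [h1, h2, h4, h]
    abel
  rw [h3]
  have hm : (0 : ℤ) ≤ m := Int.natCast_nonneg m
  refine MFil.sub (MFil.sub ?_ ?_) ?_
  · exact ((((hE.mul hΨ₀).mul hF).mul hΦ₀).mul hE).mono (by linarith)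
  · exact ((((hE.mul hΨ).mul hF).mul hΦ₀).mul hE).mono (by linarith)
  · exact ((((hE.mul hΨ₀).mul hF).mul hΦ).mul hE).mono (by linarith)

end Main

section Lin

/-- if `s h r + (1 - s r)` is bijective and `r s = 1` then `h` is bijective. -/
theorem bijective_of_conj {L : Type*} [CommRing L] {M P : Type*} [AddCommGroup M] [Module L M] [AddCommGroup P]
    [Module L P] (s : M →ₗ[L] P) (r : P →ₗ[L] M) (hrs : r ∘ₗ s = LinearMap.id) (h : M →ₗ[L] M)
    (hU : Function.Bijective (s ∘ₗ h ∘ₗ r + (LinearMap.id - s ∘ₗ r) : P →ₗ[L] P)) : Function.Bijective h := by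
  have hrs' : ∀ x, r (s x) = x := fun x => LinearMap.congr_fun hrs x
  constructor
  · rw [injective_iff_map_eq_zero]
    intro x hx
    have h1 : (s ∘ₗ h ∘ₗ r + (LinearMap.id - s ∘ₗ r) : P →ₗ[L] P) (s x) = 0 := by
      simp [hrs', hx]
    have h2 : s x = 0 := hU.1 (by rw [h1, map_zero])
    rw [← hrs' x, h2, map_zero]
  · intro y
    obtain ⟨v, hv⟩ := hU.2 (s y)
    refine ⟨r v, ?_⟩
    have h1 := congrArg r hv
    simpa [hrs'] using h1

variable {L : Type*} (L' : Type*) [CommRing L] [CommRing L'] [Algebra L L']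

/-- base change of a matrix. -/
theorem piScalarRight_baseChange {k l : ℕ} (X : Matrix (Fin l) (Fin k) L) :
    (TensorProduct.piScalarRight L L' L' (Fin l)).toLinearMap ∘ₗ ((Matrix.toLin' X).baseChange L') ∘ₗ
      (TensorProduct.piScalarRight L L' L' (Fin k)).symm.toLinearMap =
      Matrix.toLin' (X.map (algebraMap L L')) := by
  have : (TensorProduct.piScalarRight L L' L' (Fin l)).toLinearMap ∘ₗ ((Matrix.toLin' X).baseChange L') =
      Matrix.toLin' (X.map (algebraMap L L')) ∘ₗ (TensorProduct.piScalarRight L L' L' (Fin k)).toLinearMap := by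
    ext i j
    simp [Matrix.toLin'_apply, Matrix.mulVec, dotProduct, Algebra.algebraMap_eq_smul_one, Pi.single_apply]
  rw [← LinearMap.comp_assoc, this, LinearMap.comp_assoc]
  simp

end Lin

theorem bijective_toLin'_of_isUnit {L : Type*} [CommRing L] {k : ℕ} {U : Matrix (Fin k) (Fin k) L}
    (hU : IsUnit U) : Function.Bijective (Matrix.toLin' U) := by
  obtain ⟨u, rfl⟩ := hU
  have h1 : ∀ x, Matrix.toLin' (↑u⁻¹ : Matrix (Fin k) (Fin k) L) (Matrix.toLin' (u : Matrix (Fin k) (Fin k) L) x) = x := by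
    intro x
    rw [← LinearMap.comp_apply, ← Matrix.toLin'_mul, Units.inv_mul, Matrix.toLin'_one, LinearMap.id_apply]
  have h2 : ∀ x, Matrix.toLin' (u : Matrix (Fin k) (Fin k) L) (Matrix.toLin' (↑u⁻¹ : Matrix (Fin k) (Fin k) L) x) = x := by
    intro x
    rw [← LinearMap.comp_apply, ← Matrix.toLin'_mul, Units.mul_inv, Matrix.toLin'_one, LinearMap.id_apply]
  exact ⟨Function.LeftInverse.injective h1, Function.RightInverse.surjective h2⟩

section Iso

variable {A B L L' : Type*} [CommRing A] [CommRing B] [CommRing L] [CommRing L'] {ι : A →+* B} {t : A}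
  [Algebra A L] [IsLocalization.Away t L] [Algebra B L'] [IsLocalization.Away (ι t) L']
  [Algebra L L']

/-- finite projective `A[1/t]`-modules which are isomorphic over `B[1/t]` are isomorphic. -/
theorem nonempty_equiv (hG : Glue ι t)
    (hφ : ∀ a, algebraMap L L' (algebraMap A L a) = algebraMap B L' (ι a))
    (M N : Type*) [AddCommGroup M] [Module L M] [Module.Finite L M] [Module.Projective L M]
    [AddCommGroup N] [Module L N] [Module.Finite L N] [Module.Projective L N]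
    (θ : (L' ⊗[L] M) ≃ₗ[L'] (L' ⊗[L] N)) : Nonempty (M ≃ₗ[L] N) := by
  obtain ⟨k, rM, hrM⟩ := Module.Finite.exists_fin' L M
  obtain ⟨l, rN, hrN⟩ := Module.Finite.exists_fin' L N
  obtain ⟨sM, hsM⟩ := Module.projective_lifting_property rM LinearMap.id hrM
  obtain ⟨sN, hsN⟩ := Module.projective_lifting_property rN LinearMap.id hrN
  let pk := TensorProduct.piScalarRight L L' L' (Fin k)
  let pl := TensorProduct.piScalarRight L L' L' (Fin l)
  let α : (L' ⊗[L] M) →ₗ[L'] (Fin k → L') := pk.toLinearMap ∘ₗ sM.baseChange L'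
  let β : (Fin k → L') →ₗ[L'] (L' ⊗[L] M) := rM.baseChange L' ∘ₗ pk.symm.toLinearMap
  let γ : (L' ⊗[L] N) →ₗ[L'] (Fin l → L') := pl.toLinearMap ∘ₗ sN.baseChange L'
  let δ : (Fin l → L') →ₗ[L'] (L' ⊗[L] N) := rN.baseChange L' ∘ₗ pl.symm.toLinearMap
  have hβα : ∀ x, β (α x) = x := by
    intro x
    change rM.baseChange L' (pk.symm (pk (sM.baseChange L' x))) = x
    rw [LinearEquiv.symm_apply_apply, ← LinearMap.comp_apply, ← LinearMap.baseChange_comp, hsM,
      LinearMap.baseChange_id, LinearMap.id_apply]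
  have hδγ : ∀ x, δ (γ x) = x := by
    intro x
    change rN.baseChange L' (pl.symm (pl (sN.baseChange L' x))) = x
    rw [LinearEquiv.symm_apply_apply, ← LinearMap.comp_apply, ← LinearMap.baseChange_comp, hsN,
      LinearMap.baseChange_id, LinearMap.id_apply]
  let E : Matrix (Fin k) (Fin k) L := LinearMap.toMatrix' (sM ∘ₗ rM)
  let F : Matrix (Fin l) (Fin l) L := LinearMap.toMatrix' (sN ∘ₗ rN)
  have hE : Matrix.toLin' (E.map (algebraMap L L')) = α ∘ₗ β := by
    rw [← piScalarRight_baseChange, Matrix.toLin'_toMatrix', LinearMap.baseChange_comp]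
    rfl
  have hF : Matrix.toLin' (F.map (algebraMap L L')) = γ ∘ₗ δ := by
    rw [← piScalarRight_baseChange, Matrix.toLin'_toMatrix', LinearMap.baseChange_comp]
    rfl
  let Φ : Matrix (Fin l) (Fin k) L' := LinearMap.toMatrix' (γ ∘ₗ θ.toLinearMap ∘ₗ β)
  let Ψ : Matrix (Fin k) (Fin l) L' := LinearMap.toMatrix' (α ∘ₗ θ.symm.toLinearMap ∘ₗ δ)
  have hΦ : Matrix.toLin' Φ = γ ∘ₗ θ.toLinearMap ∘ₗ β := Matrix.toLin'_toMatrix' _
  have hΨ : Matrix.toLin' Ψ = α ∘ₗ θ.symm.toLinearMap ∘ₗ δ := Matrix.toLin'_toMatrix' _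
  have h1 : E.map (algebraMap L L') * Ψ * F.map (algebraMap L L') * Φ * E.map (algebraMap L L') =
      E.map (algebraMap L L') := by
    apply Matrix.toLin'.injective
    rw [Matrix.toLin'_mul, Matrix.toLin'_mul, Matrix.toLin'_mul, Matrix.toLin'_mul, hE, hF, hΦ, hΨ]
    apply LinearMap.ext
    intro x
    simp only [LinearMap.comp_apply, LinearEquiv.coe_coe, hβα, hδγ, LinearEquiv.symm_apply_apply]
  have h2 : F.map (algebraMap L L') * Φ * E.map (algebraMap L L') * Ψ * F.map (algebraMap L L') =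
      F.map (algebraMap L L') := by
    apply Matrix.toLin'.injective
    rw [Matrix.toLin'_mul, Matrix.toLin'_mul, Matrix.toLin'_mul, Matrix.toLin'_mul, hE, hF, hΦ, hΨ]
    apply LinearMap.ext
    intro x
    simp only [LinearMap.comp_apply, LinearEquiv.coe_coe, hβα, hδγ, LinearEquiv.apply_symm_apply]
  obtain ⟨m1, hm1⟩ := exists_MFil (g := ι t) (E.map (algebraMap L L'))
  obtain ⟨m2, hm2⟩ := exists_MFil (g := ι t) (F.map (algebraMap L L'))
  obtain ⟨m3, hm3⟩ := exists_MFil (g := ι t) Φ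
  obtain ⟨m4, hm4⟩ := exists_MFil (g := ι t) Ψ
  let m := m1 + m2 + m3 + m4
  have hm1' : MFil L' (ι t) (-(m : ℤ)) (E.map (algebraMap L L')) := hm1.mono (by simp only [m]; omega)
  have hm2' : MFil L' (ι t) (-(m : ℤ)) (F.map (algebraMap L L')) := hm2.mono (by simp only [m]; omega)
  have hm3' : MFil L' (ι t) (-(m : ℤ)) Φ := hm3.mono (by simp only [m]; omega)
  have hm4' : MFil L' (ι t) (-(m : ℤ)) Ψ := hm4.mono (by simp only [m]; omega)
  obtain ⟨Φ₀, hΦ₀⟩ := exists_matrix_approx hG hφ (4 * m + 1) Φ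
  obtain ⟨Ψ₀, hΨ₀⟩ := exists_matrix_approx hG hφ (4 * m + 1) Ψ
  have hU := isUnit_of_close hG hφ m E F Φ Ψ Φ₀ Ψ₀ hm1' hm2' hm3' hm4' (by exact_mod_cast hΦ₀)
    (by exact_mod_cast hΨ₀) h1
  have hV := isUnit_of_close hG hφ m F E Ψ Φ Ψ₀ Φ₀ hm2' hm1' hm4' hm3' (by exact_mod_cast hΨ₀)
    (by exact_mod_cast hΦ₀) h2
  let f : M →ₗ[L] N := rN ∘ₗ Matrix.toLin' Φ₀ ∘ₗ sM
  let g : N →ₗ[L] M := rM ∘ₗ Matrix.toLin' Ψ₀ ∘ₗ sN
  have hE' : Matrix.toLin' E = sM ∘ₗ rM := Matrix.toLin'_toMatrix' _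
  have hF' : Matrix.toLin' F = sN ∘ₗ rN := Matrix.toLin'_toMatrix' _
  have hgf : Function.Bijective (g ∘ₗ f) := by
    apply bijective_of_conj sM rM hsM
    have h3 : (sM ∘ₗ (g ∘ₗ f) ∘ₗ rM + (LinearMap.id - sM ∘ₗ rM) : (Fin k → L) →ₗ[L] (Fin k → L)) =
        Matrix.toLin' (E * Ψ₀ * F * Φ₀ * E + (1 - E)) := by
      rw [map_add, map_sub, Matrix.toLin'_one, Matrix.toLin'_mul, Matrix.toLin'_mul, Matrix.toLin'_mul,
        Matrix.toLin'_mul, hE', hF']
      rfl
    rw [h3]
    exact bijective_toLin'_of_isUnit hU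
  have hfg : Function.Bijective (f ∘ₗ g) := by
    apply bijective_of_conj sN rN hsN
    have h3 : (sN ∘ₗ (f ∘ₗ g) ∘ₗ rN + (LinearMap.id - sN ∘ₗ rN) : (Fin l → L) →ₗ[L] (Fin l → L)) =
        Matrix.toLin' (F * Φ₀ * E * Ψ₀ * F + (1 - F)) := by
      rw [map_add, map_sub, Matrix.toLin'_one, Matrix.toLin'_mul, Matrix.toLin'_mul, Matrix.toLin'_mul,
        Matrix.toLin'_mul, hE', hF']
      rfl
    rw [h3]
    exact bijective_toLin'_of_isUnit hV
  have hf : Function.Bijective f := by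
    rw [LinearMap.coe_comp] at hgf hfg
    exact ⟨Function.Injective.of_comp hgf.1, Function.Surjective.of_comp hfg.2⟩
  exact ⟨LinearEquiv.ofBijective f hf⟩

/-- stably free modules over `B[1/t]` are extended from stably free modules. -/
theorem exists_stablyFree.{u} {A B L L' : Type u} [CommRing A] [CommRing B] [CommRing L] [CommRing L'] {ι : A →+* B}
    {t : A} [Algebra A L] [IsLocalization.Away t L] [Algebra B L'] [IsLocalization.Away (ι t) L']
    [Algebra L L'] (hG : Glue ι t)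
    (hφ : ∀ a, algebraMap L L' (algebraMap A L a) = algebraMap B L' (ι a))
    (M' : Type u) [AddCommGroup M'] [Module L' M'] (n m : ℕ)
    (e : (M' × (Fin n → L')) ≃ₗ[L'] (Fin m → L')) :
    ∃ (M : Type u) (_ : AddCommGroup M) (_ : Module L M), Module.Finite L M ∧
      (∃ n m : ℕ, Nonempty ((M × (Fin n → L)) ≃ₗ[L] (Fin m → L))) ∧
      Nonempty ((L' ⊗[L] M) ≃ₗ[L'] M') := by
  let Pl : (Fin m → L') →ₗ[L'] (Fin n → L') := LinearMap.snd L' M' (Fin n → L') ∘ₗ e.symm.toLinearMap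
  let Ql : (Fin n → L') →ₗ[L'] (Fin m → L') := e.toLinearMap ∘ₗ LinearMap.inr L' M' (Fin n → L')
  let P : Matrix (Fin n) (Fin m) L' := LinearMap.toMatrix' Pl
  let Q : Matrix (Fin m) (Fin n) L' := LinearMap.toMatrix' Ql
  have hP : Matrix.toLin' P = Pl := Matrix.toLin'_toMatrix' _
  have hQ : Matrix.toLin' Q = Ql := Matrix.toLin'_toMatrix' _
  have hPQ : P * Q = 1 := by
    apply Matrix.toLin'.injective
    rw [Matrix.toLin'_mul, hP, hQ, Matrix.toLin'_one]
    apply LinearMap.ext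
    intro x
    simp [Pl, Ql]
  obtain ⟨c1, hc1⟩ := exists_MFil (g := ι t) P
  obtain ⟨c2, hc2⟩ := exists_MFil (g := ι t) Q
  let c := c1 + c2
  have hc1' : MFil L' (ι t) (-(c : ℤ)) P := hc1.mono (by simp only [c]; omega)
  have hc2' : MFil L' (ι t) (-(c : ℤ)) Q := hc2.mono (by simp only [c]; omega)
  obtain ⟨P₀, hP₀⟩ := exists_matrix_approx hG hφ (c + 1) P
  obtain ⟨Q₀, hQ₀⟩ := exists_matrix_approx hG hφ (c + 1) Q
  set X := P - P₀.map (algebraMap L L') with hX
  set Y := Q - Q₀.map (algebraMap L L') with hY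
  have hP₀' : P₀.map (algebraMap L L') = P - X := by rw [hX]; abel
  have hQ₀' : Q₀.map (algebraMap L L') = Q - Y := by rw [hY]; abel
  have hXm : MFil L' (ι t) ((c : ℤ) + 1) X := by exact_mod_cast hP₀
  have hYm : MFil L' (ι t) ((c : ℤ) + 1) Y := by exact_mod_cast hQ₀
  have hcn : (0 : ℤ) ≤ c := Int.natCast_nonneg c
  have hU : IsUnit (P₀ * Q₀) := by
    apply isUnit_of_MFil hG hφ
    have h1 : (P₀ * Q₀ - 1).map (algebraMap L L') = X * Y - X * Q - P * Y := by
      rw [Matrix.map_sub (algebraMap L L') (map_sub _), Matrix.map_mul, Matrix.map_one _ (map_zero _) (map_one _),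
        hP₀', hQ₀']
      simp only [Matrix.mul_sub, Matrix.sub_mul]
      rw [hPQ]
      abel
    rw [h1]
    refine MFil.sub (MFil.sub ?_ ?_) ?_
    · exact (hXm.mul hYm).mono (by linarith)
    · exact (hXm.mul hc2').mono (by linarith)
    · exact (hc1'.mul hYm).mono (by linarith)
  have hV : IsUnit (1 - Q * X) := by
    apply isUnit_of_MFil' hG
    have h1 : 1 - Q * X - 1 = -(Q * X) := by abel
    rw [h1]
    exact ((hc2'.mul hXm).mono (by linarith)).neg
  obtain ⟨V, hV⟩ := hV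
  have hPV : P₀.map (algebraMap L L') = P * (V : Matrix (Fin m) (Fin m) L') := by
    rw [hV, hP₀', Matrix.mul_sub, Matrix.mul_one, ← Matrix.mul_assoc, hPQ, Matrix.one_mul]
  obtain ⟨U, hU⟩ := hU
  let p₀ : (Fin m → L) →ₗ[L] (Fin n → L) := Matrix.toLin' P₀
  let q₀ : (Fin n → L) →ₗ[L] (Fin m → L) := Matrix.toLin' (Q₀ * (↑U⁻¹ : Matrix (Fin n) (Fin n) L))
  have hpq : p₀ ∘ₗ q₀ = LinearMap.id := by
    rw [← Matrix.toLin'_mul, ← Matrix.mul_assoc, ← hU, Units.mul_inv, Matrix.toLin'_one]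
  have hpq' : ∀ x, p₀ (q₀ x) = x := fun x => LinearMap.congr_fun hpq x
  let κ : LinearMap.ker p₀ →ₗ[L] (Fin m → L) := (LinearMap.ker p₀).subtype
  let ρ : (Fin m → L) →ₗ[L] LinearMap.ker p₀ := (LinearMap.id - q₀ ∘ₗ p₀).codRestrict _ (by
    intro x
    simp [hpq'])
  have hρκ : ρ ∘ₗ κ = LinearMap.id := by
    apply LinearMap.ext
    rintro ⟨x, hx⟩
    apply Subtype.ext
    simp only [LinearMap.comp_apply, LinearMap.id_apply]
    change x - q₀ (p₀ x) = x
    rw [LinearMap.mem_ker.mp hx, map_zero, sub_zero]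
  have hκρ : κ ∘ₗ ρ + q₀ ∘ₗ p₀ = LinearMap.id := by
    apply LinearMap.ext
    intro x
    change (x - q₀ (p₀ x)) + q₀ (p₀ x) = x
    abel
  refine ⟨LinearMap.ker p₀, inferInstance, inferInstance, ?_, ⟨n, m, ⟨?_⟩⟩, ⟨?_⟩⟩
  · refine Module.Finite.of_surjective ρ ?_
    intro x
    exact ⟨κ x, LinearMap.congr_fun hρκ x⟩
  · refine LinearEquiv.ofBijective (LinearMap.coprod κ q₀) ⟨?_, ?_⟩
    · rw [injective_iff_map_eq_zero]
      rintro ⟨x, y⟩ h
      rw [LinearMap.coprod_apply] at h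
      have h1 := congrArg p₀ h
      rw [map_add, hpq', map_zero] at h1
      have h2 : p₀ (κ x) = 0 := x.2
      rw [h2, zero_add] at h1
      have h3 : y = 0 := h1
      have h4 : κ x = 0 := by simpa [h3] using h
      have h5 : x = 0 := Subtype.ext h4
      rw [h3, h5]
      rfl
    · intro v
      exact ⟨(ρ v, p₀ v), LinearMap.congr_fun hκρ v⟩
  · let pm := TensorProduct.piScalarRight L L' L' (Fin m)
    let pn := TensorProduct.piScalarRight L L' L' (Fin n)
    have hκinj : Function.Injective (κ.baseChange L') := by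
      intro x y h
      have h1 := congrArg (ρ.baseChange L') h
      rwa [← LinearMap.comp_apply, ← LinearMap.comp_apply, ← LinearMap.baseChange_comp, hρκ,
        LinearMap.baseChange_id] at h1
    have hbc : ∀ w, pn (p₀.baseChange L' w) = Pl (Matrix.toLin' (V : Matrix (Fin m) (Fin m) L') (pm w)) := by
      intro w
      have h1 := LinearMap.congr_fun (piScalarRight_baseChange L' P₀) (pm w)
      rw [hPV, Matrix.toLin'_mul, hP] at h1
      simp only [LinearMap.comp_apply, LinearEquiv.coe_coe] at h1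
      rw [← h1]
      change _ = pn (p₀.baseChange L' (pm.symm (pm w)))
      rw [LinearEquiv.symm_apply_apply]
    have hVb := bijective_toLin'_of_isUnit V.isUnit
    let μ : (L' ⊗[L] LinearMap.ker p₀) →ₗ[L'] M' := LinearMap.fst L' M' (Fin n → L') ∘ₗ e.symm.toLinearMap ∘ₗ
      Matrix.toLin' (V : Matrix (Fin m) (Fin m) L') ∘ₗ pm.toLinearMap ∘ₗ κ.baseChange L'
    refine LinearEquiv.ofBijective μ ⟨?_, ?_⟩
    · rw [injective_iff_map_eq_zero]
      intro w hw
      have h1 : Pl (Matrix.toLin' (V : Matrix (Fin m) (Fin m) L') (pm (κ.baseChange L' w))) = 0 := by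
        rw [← hbc, ← LinearMap.comp_apply, ← LinearMap.baseChange_comp]
        have : p₀ ∘ₗ κ = 0 := by
          apply LinearMap.ext
          intro x
          exact x.2
        rw [this, LinearMap.baseChange_zero, LinearMap.zero_apply, map_zero]
      have h2 : e.symm (Matrix.toLin' (V : Matrix (Fin m) (Fin m) L') (pm (κ.baseChange L' w))) = 0 :=
        Prod.ext hw h1
      rw [map_eq_zero_iff _ e.symm.injective, map_eq_zero_iff _ hVb.1, map_eq_zero_iff _ pm.injective] at h2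
      exact hκinj (by rw [h2, map_zero])
    · intro y
      obtain ⟨v, hv⟩ := hVb.2 (e (y, 0))
      have h1 : p₀.baseChange L' (pm.symm v) = 0 := by
        apply pn.injective
        rw [hbc, LinearEquiv.apply_symm_apply, hv, map_zero]
        simp [Pl]
      have h2 : κ.baseChange L' (ρ.baseChange L' (pm.symm v)) = pm.symm v := by
        have h3 := LinearMap.congr_fun (congrArg (LinearMap.baseChange L') hκρ) (pm.symm v)
        rw [LinearMap.baseChange_add, LinearMap.baseChange_comp, LinearMap.baseChange_comp,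
          LinearMap.baseChange_id, LinearMap.add_apply, LinearMap.comp_apply, LinearMap.comp_apply, h1, map_zero,
          add_zero, LinearMap.id_apply] at h3
        exact h3
      refine ⟨ρ.baseChange L' (pm.symm v), ?_⟩
      change (e.symm (Matrix.toLin' (V : Matrix (Fin m) (Fin m) L')
        (pm (κ.baseChange L' (ρ.baseChange L' (pm.symm v)))))).1 = y
      rw [h2, LinearEquiv.apply_symm_apply, hv, LinearEquiv.symm_apply_apply]

end Iso

end K89.AwayProj
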