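import Groth.Agent.S0427
import Groth.Agent.S0505
import Mathlib.RingTheory.DiscreteValuationRing.Basic
import Mathlib.RingTheory.Henselian
import Mathlib.FieldTheory.IsAlgClosed.Basic
import Mathlib.FieldTheory.KummerExtension
import Mathlib.RingTheory.RootsOfUnity.AlgebraicallyClosed
import Mathlib.RingTheory.Polynomial.Eisenstein.Basic
import Mathlib.RingTheory.Polynomial.GaussLemma
import Mathlib.FieldTheory.SplittingField.Construction
import Mathlib.FieldTheory.PolynomialGaloisGroup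
import Mathlib.Algebra.GCDMonoid.Finset
import Mathlib.Algebra.GCDMonoid.Nat
import Mathlib.RingTheory.IntegralClosure.IsIntegral.Basic

/-!
# Tame extensions of a henselian discrete valuation ring with algebraically closed residue field
-/

set_option autoImplicit false
universe u

open Polynomial

namespace K89.DVRKummer

section Roots

variable (O : Type u) [CommRing O] [HenselianLocalRing O] [IsAlgClosed (IsLocalRing.ResidueField O)]

/-- `n`-th roots of units. -/
theorem exists_pow_eq (n : ℕ) (hn : (n : IsLocalRing.ResidueField O) ≠ 0) (v : Oˣ) : ∃ c : Oˣ, c ^ n = v := by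
  have hn0 : n ≠ 0 := by rintro rfl; simp at hn
  obtain ⟨z, hz⟩ := IsAlgClosed.exists_pow_nat_eq (IsLocalRing.residue O (v : O)) (Nat.pos_of_ne_zero hn0)
  obtain ⟨c₀, rfl⟩ := IsLocalRing.residue_surjective z
  have hv : IsLocalRing.residue O (v : O) ≠ 0 := by
    rw [Ne, IsLocalRing.residue_eq_zero_iff]
    exact fun h => (IsLocalRing.mem_maximalIdeal _).mp h v.isUnit
  have hc₀ : IsLocalRing.residue O c₀ ≠ 0 := by
    intro h
    rw [h, zero_pow hn0] at hz
    exact hv hz.symm
  obtain ⟨c, hc, hc'⟩ := HenselianLocalRing.is_henselian (X ^ n - C (v : O)) (monic_X_pow_sub_C _ hn0) c₀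
    (by
      rw [eval_sub, eval_pow, eval_X, eval_C, ← IsLocalRing.residue_eq_zero_iff, map_sub, map_pow, hz, sub_self])
    (by
      have : (derivative (X ^ n - C (v : O))).eval c₀ = n * c₀ ^ (n - 1) := by simp [derivative_X_pow]
      rw [this, ← IsLocalRing.residue_ne_zero_iff_isUnit, map_mul, map_natCast, map_pow]
      exact mul_ne_zero hn (pow_ne_zero _ hc₀))
  have h1 : c ^ n = v := by
    have := hc
    simp only [IsRoot.def, eval_sub, eval_pow, eval_X, eval_C] at this
    exact sub_eq_zero.mp this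
  have h2 : IsUnit c := by
    have : IsUnit (c ^ n) := by rw [h1]; exact v.isUnit
    exact (isUnit_pow_iff hn0).mp this
  obtain ⟨u, rfl⟩ := h2
  exact ⟨u, Units.ext (by rw [Units.val_pow_eq_pow_val, h1])⟩

/-- primitive roots of unity lift. -/
theorem exists_isPrimitiveRoot (n : ℕ) (hn : (n : IsLocalRing.ResidueField O) ≠ 0) :
    ∃ ζ : O, IsPrimitiveRoot ζ n := by
  have hn0 : n ≠ 0 := by rintro rfl; simp at hn
  have : NeZero (n : IsLocalRing.ResidueField O) := ⟨hn⟩
  obtain ⟨z, hz⟩ := HasEnoughRootsOfUnity.exists_primitiveRoot (IsLocalRing.ResidueField O) n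
  obtain ⟨c₀, rfl⟩ := IsLocalRing.residue_surjective z
  have hc₀ : IsLocalRing.residue O c₀ ≠ 0 := by
    intro h
    have := hz.pow_eq_one
    rw [h, zero_pow hn0] at this
    exact zero_ne_one this
  obtain ⟨c, hc, hc'⟩ := HenselianLocalRing.is_henselian (X ^ n - C (1 : O)) (monic_X_pow_sub_C _ hn0) c₀
    (by
      rw [eval_sub, eval_pow, eval_X, eval_C, ← IsLocalRing.residue_eq_zero_iff, map_sub, map_pow, map_one,
        hz.pow_eq_one, sub_self])
    (by
      have : (derivative (X ^ n - C (1 : O))).eval c₀ = n * c₀ ^ (n - 1) := by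
        simp [derivative_X_pow]
      rw [this, ← IsLocalRing.residue_ne_zero_iff_isUnit, map_mul, map_natCast, map_pow]
      exact mul_ne_zero hn (pow_ne_zero _ hc₀))
  have h1 : c ^ n = 1 := by
    have := hc
    simp only [IsRoot.def, eval_sub, eval_pow, eval_X, eval_C] at this
    exact sub_eq_zero.mp this
  have h2 : IsLocalRing.residue O c = IsLocalRing.residue O c₀ := by
    rw [← sub_eq_zero, ← map_sub, IsLocalRing.residue_eq_zero_iff]
    exact hc'
  refine ⟨c, h1, fun l hl => ?_⟩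
  apply hz.dvd_of_pow_eq_one
  rw [← h2, ← map_pow, hl, map_one]

end Roots

section DVR

variable (O : Type u) [CommRing O] [IsDomain O] [IsDiscreteValuationRing O]
  (K : Type u) [Field K] [Algebra O K] [IsFractionRing O K]

/-- Eisenstein polynomials are irreducible over the fraction field. -/
theorem irreducible_of_eisenstein (f : O[X]) (hmon : f.Monic) (h0 : 0 < f.natDegree)
    (hf : f.IsEisensteinAt (IsLocalRing.maximalIdeal O)) : Irreducible (f.map (algebraMap O K)) := by
  rw [← hmon.irreducible_iff_irreducible_map_fraction_map]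
  exact hf.irreducible (IsLocalRing.maximalIdeal.isMaximal O).isPrime hmon.isPrimitive h0

theorem eisenstein_X_pow_sub_C (n : ℕ) (hn : n ≠ 0) {ϖ : O} (hϖ : Irreducible ϖ) :
    (X ^ n - C ϖ : O[X]).IsEisensteinAt (IsLocalRing.maximalIdeal O) := by
  have hm : IsLocalRing.maximalIdeal O = Ideal.span {ϖ} := hϖ.maximalIdeal_eq
  have hmon := monic_X_pow_sub_C ϖ hn
  refine ⟨?_, ?_, ?_⟩
  · rw [hmon.leadingCoeff]
    exact (Ideal.ne_top_iff_one _).mp (IsLocalRing.maximalIdeal.isMaximal O).ne_top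
  · intro i hi
    rw [natDegree_X_pow_sub_C] at hi
    rw [coeff_sub, coeff_X_pow, coeff_C, if_neg (by omega), zero_sub]
    split_ifs
    · rw [hm]; exact neg_mem (Ideal.mem_span_singleton_self ϖ)
    · simp
  · rw [coeff_sub, coeff_X_pow, coeff_C_zero, if_neg (by omega), zero_sub, neg_mem_iff, hm,
      Ideal.span_singleton_pow, Ideal.mem_span_singleton]
    rintro ⟨c, hc⟩
    have h1 : ϖ * (1 - ϖ * c) = 0 := by linear_combination hc
    rcases mul_eq_zero.mp h1 with h2 | h2
    · exact hϖ.ne_zero h2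
    · exact hϖ.not_isUnit (IsUnit.of_mul_eq_one c (by linear_combination -h2))

theorem irreducible_X_pow_sub_C (n : ℕ) (hn : n ≠ 0) {ϖ : O} (hϖ : Irreducible ϖ) :
    Irreducible (X ^ n - C (algebraMap O K ϖ) : K[X]) := by
  have h1 := irreducible_of_eisenstein O K _ (monic_X_pow_sub_C ϖ hn)
    (by rw [natDegree_X_pow_sub_C]; omega) (eisenstein_X_pow_sub_C O n hn hϖ)
  simpa using h1

end DVR

section LCM

/-- roots of `ϖ` of orders `a` and `b` give one of order `lcm a b`. -/
theorem exists_pow_lcm {L : Type*} [Field L] {w : L} (hw : w ≠ 0) (a b : ℕ) (ha : a ≠ 0) (hb : b ≠ 0)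
    (x y : L) (hx : x ^ a = w) (hy : y ^ b = w) : ∃ z : L, z ^ (Nat.lcm a b) = w := by
  have hx0 : x ≠ 0 := by rintro rfl; rw [zero_pow ha] at hx; exact hw hx.symm
  have hy0 : y ≠ 0 := by rintro rfl; rw [zero_pow hb] at hy; exact hw hy.symm
  obtain ⟨a', ha'⟩ := Nat.gcd_dvd_left a b
  obtain ⟨b', hb'⟩ := Nat.gcd_dvd_right a b
  have hd : 0 < Nat.gcd a b := Nat.gcd_pos_of_pos_left _ (Nat.pos_of_ne_zero ha)
  have hl : Nat.lcm a b = a * b' := by
    apply Nat.eq_of_mul_eq_mul_left hd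
    rw [Nat.gcd_mul_lcm]
    conv_lhs => rw [hb']
    ring
  have hl' : a * b' = b * a' := by
    apply Nat.eq_of_mul_eq_mul_left hd
    calc Nat.gcd a b * (a * b') = a * (Nat.gcd a b * b') := by ring
      _ = a * b := by rw [← hb']
      _ = (Nat.gcd a b * a') * b := by rw [← ha']
      _ = _ := by ring
  have hbez := Nat.gcd_eq_gcd_ab a b
  have h1 : (a' : ℤ) * Nat.gcdA a b + b' * Nat.gcdB a b = 1 := by
    have h2 : (Nat.gcd a b : ℤ) * (a' * Nat.gcdA a b + b' * Nat.gcdB a b) = Nat.gcd a b * 1 := by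
      rw [mul_one]
      conv_rhs => rw [hbez]
      have e1 : (a : ℤ) = Nat.gcd a b * a' := by exact_mod_cast ha'
      have e2 : (b : ℤ) = Nat.gcd a b * b' := by exact_mod_cast hb'
      linear_combination (-(Nat.gcdA a b)) * e1 - (Nat.gcdB a b) * e2
    exact mul_left_cancel₀ (by exact_mod_cast hd.ne') h2
  refine ⟨x ^ (Nat.gcdB a b) * y ^ (Nat.gcdA a b), ?_⟩
  rw [hl, mul_pow, ← zpow_natCast, ← zpow_natCast, ← zpow_mul, ← zpow_mul]
  have e1 : x ^ (Nat.gcdB a b * ((a * b' : ℕ) : ℤ)) = w ^ (b' * Nat.gcdB a b) := by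
    rw [← hx, ← zpow_natCast, ← zpow_mul]
    congr 1; push_cast; ring
  have e2 : y ^ (Nat.gcdA a b * ((a * b' : ℕ) : ℤ)) = w ^ (a' * Nat.gcdA a b) := by
    rw [hl', ← hy, ← zpow_natCast, ← zpow_mul]
    congr 1; push_cast; ring
  rw [e1, e2, ← zpow_add₀ hw, add_comm, h1, zpow_one]

theorem exists_pow_finset_lcm {L : Type*} [Field L] {w : L} (hw : w ≠ 0) {ι : Type*} (s : Finset ι) (r : ι → ℕ)
    (hr : ∀ i ∈ s, r i ≠ 0) (h : ∀ i ∈ s, ∃ x : L, x ^ r i = w) : s.lcm r ≠ 0 ∧ ∃ z : L, z ^ (s.lcm r) = w := by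
  classical
  induction s using Finset.induction_on with
  | empty => exact ⟨by simp, w, by simp⟩
  | insert i s hi ih =>
    obtain ⟨h1, z, hz⟩ := ih (fun j hj => hr j (Finset.mem_insert_of_mem hj))
      (fun j hj => h j (Finset.mem_insert_of_mem hj))
    obtain ⟨x, hx⟩ := h i (Finset.mem_insert_self _ _)
    have h2 := hr i (Finset.mem_insert_self _ _)
    rw [Finset.lcm_insert]
    exact ⟨lcm_ne_zero_iff.mpr ⟨h2, h1⟩, exists_pow_lcm hw _ _ h2 h1 x z hx hz⟩

end LCM

section Main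

variable (O : Type u) [CommRing O] [IsDomain O] [IsDiscreteValuationRing O] [HenselianLocalRing O]
  [IsAlgClosed (IsLocalRing.ResidueField O)]
  (K : Type u) [Field K] [Algebra O K] [IsFractionRing O K]

theorem exists_isPrimitiveRoot' (n : ℕ) (hn : (n : IsLocalRing.ResidueField O) ≠ 0) :
    ∃ ζ : K, IsPrimitiveRoot ζ n := by
  obtain ⟨ζ, hζ⟩ := exists_isPrimitiveRoot O n hn
  exact ⟨_, hζ.map_of_injective (IsFractionRing.injective O K)⟩

/-- an extension generated by roots of `X^{r_i} - v_i ϖ^{b_i}`. -/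
theorem isSplittingField_prod {ϖ : O} (hϖ : Irreducible ϖ) {m : ℕ} (r b : Fin m → ℕ) (v : Fin m → Oˣ)
    (hr : ∀ i, 1 ≤ r i) (hrb : ∀ i, Nat.Coprime (r i) (b i))
    (hk : ∀ i, (r i : IsLocalRing.ResidueField O) ≠ 0)
    (hN : ((Finset.univ.lcm r : ℕ) : IsLocalRing.ResidueField O) ≠ 0)
    (L : Type u) [Field L] [Algebra K L]
    [IsSplittingField K L (∏ i, (X ^ (r i) - C (algebraMap O K ((v i : O) * ϖ ^ (b i)))))] :
    IsSplittingField K L (X ^ (Finset.univ.lcm r) - C (algebraMap O K ϖ)) := by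
  set N := Finset.univ.lcm r with hNdef
  set F : K[X] := ∏ i, (X ^ (r i) - C (algebraMap O K ((v i : O) * ϖ ^ (b i)))) with hF
  have hinj : Function.Injective (algebraMap O K) := IsFractionRing.injective O K
  have hϖK : algebraMap O K ϖ ≠ 0 := by
    rw [Ne, map_eq_zero_iff _ hinj]
    exact hϖ.ne_zero
  set w : L := algebraMap K L (algebraMap O K ϖ) with hw
  have hw0 : w ≠ 0 := by rw [hw, Ne, map_eq_zero_iff _ (algebraMap K L).injective]; exact hϖK
  have hF0 : F ≠ 0 := by
    rw [hF]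
    exact Finset.prod_ne_zero_iff.mpr fun i _ => (monic_X_pow_sub_C _ (by have := hr i; omega)).ne_zero
  have hsplit : (F.map (algebraMap K L)).Splits := IsSplittingField.splits L F
  choose c hc using fun i => exists_pow_eq O (r i) (hk i) (v i)
  let c' : Fin m → L := fun i => algebraMap K L (algebraMap O K (c i : O))
  have hc' : ∀ i, c' i ^ r i = algebraMap K L (algebraMap O K (v i : O)) := by
    intro i
    simp only [c']
    rw [← map_pow, ← map_pow, ← Units.val_pow_eq_pow_val, hc]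
  have hc0 : ∀ i, c' i ≠ 0 := by
    intro i
    simp only [c', Ne, map_eq_zero_iff _ (algebraMap K L).injective, map_eq_zero_iff _ hinj]
    exact (c i).isUnit.ne_zero
  -- roots of `ϖ`
  have hex : ∀ i ∈ Finset.univ, ∃ x : L, x ^ r i = w := by
    intro i _
    have h1 : (X ^ (r i) - C (algebraMap O K ((v i : O) * ϖ ^ (b i))) : K[X]) ∣ F :=
      Finset.dvd_prod_of_mem _ (Finset.mem_univ i)
    have h2 : ((X ^ (r i) - C (algebraMap O K ((v i : O) * ϖ ^ (b i))) : K[X]).map (algebraMap K L)).Splits :=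
      hsplit.of_dvd (Polynomial.map_ne_zero hF0) (Polynomial.map_dvd _ h1)
    obtain ⟨β, hβ⟩ := h2.exists_eval_eq_zero (by
      rw [degree_map, degree_X_pow_sub_C (hr i)]
      have := hr i
      exact_mod_cast (by omega : r i ≠ 0))
    rw [Polynomial.map_sub, Polynomial.map_pow, map_X, map_C, eval_sub, eval_pow, eval_X, eval_C,
      sub_eq_zero, map_mul (algebraMap O K), map_mul (algebraMap K L), map_pow (algebraMap O K),
      map_pow (algebraMap K L)] at hβ
    rw [← hw, ← hc' i] at hβ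
    have h3 : (β / c' i) ^ r i = w ^ b i := by
      rw [div_pow, hβ, mul_div_cancel_left₀ _ (pow_ne_zero _ (hc0 i))]
    have hbez := Nat.gcd_eq_gcd_ab (r i) (b i)
    rw [hrb i] at hbez
    refine ⟨w ^ (Nat.gcdA (r i) (b i)) * (β / c' i) ^ (Nat.gcdB (r i) (b i)), ?_⟩
    rw [mul_pow, ← zpow_natCast, ← zpow_natCast, ← zpow_mul, ← zpow_mul]
    have e2 : (β / c' i) ^ (Nat.gcdB (r i) (b i) * (r i : ℤ)) = w ^ ((b i : ℤ) * Nat.gcdB (r i) (b i)) := by
      rw [mul_comm, zpow_mul, zpow_natCast, h3, ← zpow_natCast, ← zpow_mul]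
    rw [e2, ← zpow_add₀ hw0]
    have e3 : Nat.gcdA (r i) (b i) * (r i : ℤ) + (b i : ℤ) * Nat.gcdB (r i) (b i) = 1 := by
      rw [mul_comm (Nat.gcdA _ _), ← hbez]; rfl
    rw [e3, zpow_one]
  obtain ⟨hN0, γ, hγ⟩ := exists_pow_finset_lcm hw0 Finset.univ r (fun i _ => by have := hr i; omega) hex
  rw [← hNdef] at hN0 hγ
  obtain ⟨ζ, hζ⟩ := exists_isPrimitiveRoot' O K N hN
  have hP0 : (X ^ N - C (algebraMap O K ϖ) : K[X]) ≠ 0 := (monic_X_pow_sub_C _ hN0).ne_zero
  refine ⟨?_, ?_⟩
  · rw [Polynomial.map_sub, Polynomial.map_pow, map_X, map_C]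
    exact X_pow_sub_C_splits_of_isPrimitiveRoot (hζ.map_of_injective (algebraMap K L).injective) hγ
  · have hγS : γ ∈ Algebra.adjoin K ((X ^ N - C (algebraMap O K ϖ) : K[X]).rootSet L) := by
      apply Algebra.subset_adjoin
      rw [mem_rootSet]
      refine ⟨hP0, ?_⟩
      simp [hγ, hw]
    rw [eq_top_iff, ← IsSplittingField.adjoin_rootSet L F]
    apply Algebra.adjoin_le
    intro x hx
    rw [mem_rootSet] at hx
    obtain ⟨-, hx⟩ := hx
    rw [hF, map_prod, Finset.prod_eq_zero_iff] at hx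
    obtain ⟨i, -, hx⟩ := hx
    simp only [map_sub, map_pow, aeval_X, aeval_C, map_mul, sub_eq_zero] at hx
    rw [← hw, ← hc' i] at hx
    obtain ⟨q, hq⟩ := Finset.dvd_lcm (f := r) (Finset.mem_univ i)
    rw [← hNdef] at hq
    have h4 : (γ ^ q) ^ r i = w := by rw [← pow_mul, mul_comm, ← hq, hγ]
    have hγ0 : γ ≠ 0 := by
      rintro rfl
      rw [zero_pow hN0] at hγ
      exact hw0 hγ.symm
    have hy0 : c' i * (γ ^ q) ^ b i ≠ 0 := mul_ne_zero (hc0 i) (pow_ne_zero _ (pow_ne_zero _ hγ0))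
    have h5 : (c' i * (γ ^ q) ^ b i) ^ r i = x ^ r i := by
      rw [mul_pow, ← pow_mul, mul_comm (b i), pow_mul, h4, hx]
    have h6 : (x / (c' i * (γ ^ q) ^ b i)) ^ r i = 1 := by
      rw [div_pow, h5, div_self]
      rw [← h5]
      exact pow_ne_zero _ hy0
    obtain ⟨ξ, hξ⟩ := exists_isPrimitiveRoot' O K (r i) (hk i)
    have hξ' := hξ.map_of_injective (algebraMap K L).injective
    have : NeZero (r i) := ⟨by have := hr i; omega⟩
    obtain ⟨j, -, hj⟩ := hξ'.eq_pow_of_pow_eq_one h6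
    have h7 : x = algebraMap K L ξ ^ j * (c' i * (γ ^ q) ^ b i) := by
      rw [hj, div_mul_cancel₀ _ hy0]
    rw [h7]
    refine Subalgebra.mul_mem _ (Subalgebra.pow_mem _ (Subalgebra.algebraMap_mem _ _) _) ?_
    refine Subalgebra.mul_mem _ (Subalgebra.algebraMap_mem _ _) ?_
    exact Subalgebra.pow_mem _ (Subalgebra.pow_mem _ hγS _) _

end Main

end K89.DVRKummer
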