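import Groth.Agent.CAlg.K89.DVRKummer
import Mathlib.FieldTheory.SplittingField.IsSplittingField
import Mathlib.FieldTheory.Normal.Basic
import Mathlib.FieldTheory.IntermediateField.Adjoin.Basic
import Mathlib.FieldTheory.IntermediateField.Algebraic

/-!
# Eisenstein polynomials of tame degree over a henselian discrete valuation ring
-/

set_option autoImplicit false
universe u

open Polynomial

namespace K89.DVRTame

open K89.DVRKummer

/-- A root `α` of an Eisenstein polynomial of tame degree `e`: there is `γ ∈ O[α]` up to a unit with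
`γ ^ e = ϖ`. -/
theorem exists_root (O : Type u) [CommRing O] [IsDomain O] [IsDiscreteValuationRing O] [HenselianLocalRing O]
    [IsAlgClosed (IsLocalRing.ResidueField O)] (f : O[X]) (hmon : f.Monic) (he : 1 ≤ f.natDegree)
    (hek : (f.natDegree : IsLocalRing.ResidueField O) ≠ 0)
    (hf : f.IsEisensteinAt (IsLocalRing.maximalIdeal O)) (ϖ : O) (hϖ : Irreducible ϖ)
    (L : Type u) [Field L] [Algebra O L] [FaithfulSMul O L] (α : L) (hα : aeval α f = 0) :
    ∃ γ w : L, γ ^ f.natDegree = algebraMap O L ϖ ∧ w ∈ Algebra.adjoin O {α} ∧ w ≠ 0 ∧ γ * w = α := by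
  set e := f.natDegree with he'
  have hαint : IsIntegral O α := ⟨f, hmon, hα⟩
  let S := Algebra.adjoin O {α}
  have hSfin : Module.Finite O S := Module.Finite.iff_fg.mpr hαint.fg_adjoin_singleton
  have hloc : IsLocalRing S := Groth.Agent.S0427.isLocalRing_of_finite O S
  have hH : HenselianLocalRing S := Groth.Agent.S0505.result O S
  have hSint : Algebra.IsIntegral O S := inferInstance
  have hinj : FaithfulSMul O S := by
    rw [faithfulSMul_iff_algebraMap_injective]
    intro a b hab
    exact FaithfulSMul.algebraMap_injective O L (congrArg (fun x : S => (x : L)) hab)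
  have hlh : IsLocalHom (algebraMap O S) := inferInstance
  let α' : S := ⟨α, Algebra.self_mem_adjoin_singleton O α⟩
  have hα' : aeval α' f = 0 := by
    apply Subtype.ext
    have : ((aeval α' f : S) : L) = aeval α f := by
      rw [show ((aeval α' f : S) : L) = S.val (aeval α' f) from rfl, ← aeval_algHom_apply]
      rfl
    rw [this, hα]; rfl
  have hm : IsLocalRing.maximalIdeal O = Ideal.span {ϖ} := hϖ.maximalIdeal_eq
  have hb : ∀ i ∈ Finset.range e, ∃ b : O, f.coeff i = ϖ * b := by
    intro i hi
    have := hf.mem (Finset.mem_range.mp hi)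
    rw [hm, Ideal.mem_span_singleton] at this
    obtain ⟨b, hb⟩ := this
    exact ⟨b, hb⟩
  choose! b hb using hb
  -- `b 0` is a unit
  have hb0 : IsUnit (b 0) := by
    by_contra h
    have h1 : b 0 ∈ IsLocalRing.maximalIdeal O := (IsLocalRing.mem_maximalIdeal _).mpr h
    rw [hm, Ideal.mem_span_singleton] at h1
    obtain ⟨c, hc⟩ := h1
    apply hf.notMem
    rw [hm, Ideal.span_singleton_pow, Ideal.mem_span_singleton, hb 0 (Finset.mem_range.mpr (by omega)), hc]
    exact ⟨c, by ring⟩
  -- `α'^e = ϖ v`
  let v : S := -∑ i ∈ Finset.range e, algebraMap O S (b i) * α' ^ i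
  have hv : α' ^ e = algebraMap O S ϖ * v := by
    have h1 := hα'
    rw [hmon.as_sum, map_add, map_pow, aeval_X, map_sum, ← he'] at h1
    have h2 : ∑ i ∈ Finset.range e, aeval α' (C (f.coeff i) * X ^ i) = algebraMap O S ϖ *
        ∑ i ∈ Finset.range e, algebraMap O S (b i) * α' ^ i := by
      rw [Finset.mul_sum]
      refine Finset.sum_congr rfl fun i hi => ?_
      rw [map_mul, map_pow, aeval_X, aeval_C, hb i hi, map_mul]
      ring
    rw [h2] at h1
    simp only [v]
    linear_combination h1
  have hϖS : algebraMap O S ϖ ∈ IsLocalRing.maximalIdeal S := by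
    rw [IsLocalRing.mem_maximalIdeal, mem_nonunits_iff]
    intro h
    exact hϖ.not_isUnit (isUnit_of_map_unit (algebraMap O S) _ h)
  have hαm : α' ∈ IsLocalRing.maximalIdeal S := by
    have h1 : α' ^ e ∈ IsLocalRing.maximalIdeal S := by
      rw [hv]; exact Ideal.mul_mem_right _ _ hϖS
    exact (IsLocalRing.maximalIdeal.isMaximal S).isPrime.mem_of_pow_mem _ h1
  have hvb : v + algebraMap O S (b 0) ∈ IsLocalRing.maximalIdeal S := by
    obtain ⟨e1, he1⟩ : ∃ e1, e = e1 + 1 := ⟨e - 1, by omega⟩
    have h1 : v + algebraMap O S (b 0) = α' * (-∑ i ∈ Finset.range e1, algebraMap O S (b (i + 1)) * α' ^ i) := by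
      simp only [v]
      rw [he1, Finset.sum_range_succ', pow_zero, mul_neg, Finset.mul_sum]
      have : ∑ i ∈ Finset.range e1, algebraMap O S (b (i + 1)) * α' ^ (i + 1) =
          ∑ i ∈ Finset.range e1, α' * (algebraMap O S (b (i + 1)) * α' ^ i) :=
        Finset.sum_congr rfl fun i _ => by ring
      rw [this]
      ring
    rw [h1]
    exact Ideal.mul_mem_right _ _ hαm
  obtain ⟨b0, hb0'⟩ := hb0
  obtain ⟨c, hc⟩ := exists_pow_eq O e hek (-b0)
  have hc' : (c : O) ^ e = -(b 0) := by
    rw [← Units.val_pow_eq_pow_val, hc, Units.val_neg, hb0']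
  have hcS : IsUnit (algebraMap O S (c : O)) := c.isUnit.map _
  have heu : IsUnit ((e : O)) := by
    rw [← IsLocalRing.residue_ne_zero_iff_isUnit, map_natCast]
    exact hek
  have he0 : e ≠ 0 := by omega
  obtain ⟨w, hw, hw'⟩ := HenselianLocalRing.is_henselian (X ^ e - C v : S[X]) (monic_X_pow_sub_C _ he0)
    (algebraMap O S (c : O))
    (by
      rw [eval_sub, eval_pow, eval_X, eval_C, ← map_pow, hc', map_neg]
      have : -algebraMap O S (b 0) - v = -(v + algebraMap O S (b 0)) := by ring
      rw [this]
      exact neg_mem hvb)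
    (by
      have : (derivative (X ^ e - C v)).eval (algebraMap O S (c : O)) =
          algebraMap O S (e : O) * algebraMap O S (c : O) ^ (e - 1) := by
        simp [derivative_X_pow]
      rw [this]
      exact (heu.map _).mul (hcS.pow _))
  have hwe : w ^ e = v := by
    have := hw
    simp only [IsRoot.def, eval_sub, eval_pow, eval_X, eval_C] at this
    exact sub_eq_zero.mp this
  have hwu : IsUnit w := by
    have h1 : w = algebraMap O S (c : O) + (w - algebraMap O S (c : O)) := by ring
    by_contra h
    have h2 : w ∈ IsLocalRing.maximalIdeal S := h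
    have h3 : algebraMap O S (c : O) ∈ IsLocalRing.maximalIdeal S := by
      have : algebraMap O S (c : O) = w - (w - algebraMap O S (c : O)) := by ring
      rw [this]
      exact sub_mem h2 hw'
    exact h3 hcS
  have hw0 : (w : L) ≠ 0 := by
    have := hwu.ne_zero
    exact fun h => this (Subtype.ext h)
  refine ⟨α / (w : L), w, ?_, w.2, hw0, div_mul_cancel₀ _ hw0⟩
  have h1 : α ^ e = algebraMap O L ϖ * (w : L) ^ e := by
    have h2 := congrArg (fun x : S => (x : L)) hv
    simp only [← hwe] at h2
    exact h2
  rw [div_pow, h1, mul_div_cancel_right₀ _ (pow_ne_zero _ hw0)]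

/-- The splitting field of an Eisenstein polynomial of tame degree `e` is the splitting field of `X^e - ϖ`. -/
theorem isSplittingField_eisenstein (O : Type u) [CommRing O] [IsDomain O] [IsDiscreteValuationRing O]
    [HenselianLocalRing O] [IsAlgClosed (IsLocalRing.ResidueField O)]
    (K : Type u) [Field K] [Algebra O K] [IsFractionRing O K]
    (f : O[X]) (hmon : f.Monic) (he : 1 ≤ f.natDegree)
    (hek : (f.natDegree : IsLocalRing.ResidueField O) ≠ 0)
    (hf : f.IsEisensteinAt (IsLocalRing.maximalIdeal O)) (ϖ : O) (hϖ : Irreducible ϖ)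
    (L : Type u) [Field L] [Algebra K L] [IsSplittingField K L (f.map (algebraMap O K))] :
    IsSplittingField K L (X ^ f.natDegree - C (algebraMap O K ϖ)) := by
  set e := f.natDegree with he'
  have he0 : e ≠ 0 := by omega
  have hinjK : Function.Injective (algebraMap O K) := IsFractionRing.injective O K
  let _ : Algebra O L := ((algebraMap K L).comp (algebraMap O K)).toAlgebra
  have : IsScalarTower O K L := IsScalarTower.of_algebraMap_eq fun _ => rfl
  have : FaithfulSMul O L := by
    rw [faithfulSMul_iff_algebraMap_injective]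
    exact (algebraMap K L).injective.comp hinjK
  set fK := f.map (algebraMap O K) with hfK
  have hirr : Irreducible fK := irreducible_of_eisenstein O K f hmon (by omega) hf
  have hfKmon : fK.Monic := hmon.map _
  have hfKdeg : fK.natDegree = e := hmon.natDegree_map _
  have hsplit : (fK.map (algebraMap K L)).Splits := IsSplittingField.splits L fK
  obtain ⟨α, hα⟩ := hsplit.exists_eval_eq_zero (by
    rw [degree_map, degree_eq_natDegree hfKmon.ne_zero, hfKdeg]
    exact_mod_cast he0)
  have hα1 : aeval α fK = 0 := by rw [aeval_def, ← eval_map]; exact hα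
  have hα2 : aeval α f = 0 := by rw [hfK, aeval_map_algebraMap] at hα1; exact hα1
  obtain ⟨γ, w, hγ, hw, hw0, hγw⟩ := exists_root O f hmon he hek hf ϖ hϖ L α hα2
  rw [← he'] at hγ
  have hirr' : Irreducible (X ^ e - C (algebraMap O K ϖ) : K[X]) := irreducible_X_pow_sub_C O K e he0 hϖ
  have hmon' : (X ^ e - C (algebraMap O K ϖ) : K[X]).Monic := monic_X_pow_sub_C _ he0
  have hγ' : aeval γ (X ^ e - C (algebraMap O K ϖ) : K[X]) = 0 := by
    rw [map_sub, map_pow, aeval_X, aeval_C, hγ, sub_eq_zero]; rfl
  have hminγ : minpoly K γ = X ^ e - C (algebraMap O K ϖ) :=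
    (minpoly.eq_of_irreducible_of_monic hirr' hγ' hmon').symm
  have hminα : minpoly K α = fK := (minpoly.eq_of_irreducible_of_monic hirr hα1 hfKmon).symm
  have hintγ : IsIntegral K γ := ⟨_, hmon', hγ'⟩
  have hintα : IsIntegral K α := ⟨_, hfKmon, hα1⟩
  have hfinL : FiniteDimensional K L := IsSplittingField.finiteDimensional L fK
  have hw1 : w ∈ IntermediateField.adjoin K {α} := by
    have h1 : Algebra.adjoin O {α} ≤ ((IntermediateField.adjoin K {α}).toSubalgebra.restrictScalars O) := by
      rw [Algebra.adjoin_le_iff, Set.singleton_subset_iff]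
      exact IntermediateField.mem_adjoin_simple_self K α
    exact h1 hw
  have hγ1 : γ ∈ IntermediateField.adjoin K {α} := by
    have : γ = α / w := by rw [← hγw, mul_div_cancel_right₀ _ hw0]
    rw [this]
    exact div_mem (IntermediateField.mem_adjoin_simple_self K α) hw1
  have heq : IntermediateField.adjoin K {γ} = IntermediateField.adjoin K {α} := by
    apply IntermediateField.eq_of_le_of_finrank_eq
    · rw [IntermediateField.adjoin_simple_le_iff]; exact hγ1
    · rw [IntermediateField.adjoin.finrank hintγ, IntermediateField.adjoin.finrank hintα, hminγ, hminα, hfKdeg,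
        natDegree_X_pow_sub_C]
  obtain ⟨ζ, hζ⟩ := exists_isPrimitiveRoot' O K e hek
  have hs : ((X ^ e - C (algebraMap O K ϖ) : K[X]).map (algebraMap K L)).Splits := by
    rw [Polynomial.map_sub, Polynomial.map_pow, map_X, map_C]
    exact X_pow_sub_C_splits_of_isPrimitiveRoot (hζ.map_of_injective (algebraMap K L).injective) hγ
  refine ⟨hs, ?_⟩
  set E := IntermediateField.adjoin K ((X ^ e - C (algebraMap O K ϖ) : K[X]).rootSet L) with hE
  have hEs : IsSplittingField K E (X ^ e - C (algebraMap O K ϖ) : K[X]) :=
    IntermediateField.adjoin_rootSet_isSplittingField hs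
  have hEn : Normal K E := Normal.of_isSplittingField (X ^ e - C (algebraMap O K ϖ) : K[X])
  have hγE : γ ∈ E := by
    apply IntermediateField.subset_adjoin
    rw [mem_rootSet]
    exact ⟨hmon'.ne_zero, hγ'⟩
  have hαE : α ∈ E := by
    have h1 : IntermediateField.adjoin K {γ} ≤ E := by
      rw [IntermediateField.adjoin_simple_le_iff]; exact hγE
    rw [heq] at h1
    exact h1 (IntermediateField.mem_adjoin_simple_self K α)
  have hfE : (fK.map (algebraMap K E)).Splits := by
    have h1 := hEn.splits ⟨α, hαE⟩
    have h2 : minpoly K (⟨α, hαE⟩ : E) = fK := by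
      rw [← hminα]
      exact (minpoly.algebraMap_eq (algebraMap E L).injective (⟨α, hαE⟩ : E)).symm
    rwa [h2] at h1
  have h3 := (IntermediateField.splits_iff_mem (F := E) hsplit).mp hfE
  have hEtop : E.toSubalgebra = ⊤ := by
    rw [eq_top_iff, ← IsSplittingField.adjoin_rootSet L fK]
    exact Algebra.adjoin_le h3
  rw [← hEtop, hE]
  symm
  exact IntermediateField.adjoin_toSubalgebra_of_isAlgebraic fun x _ =>
    (Algebra.IsIntegral.isIntegral x).isAlgebraic

end K89.DVRTame
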