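import Mathlib.RingTheory.PicardGroup
import Mathlib.RingTheory.Localization.FractionRing
import Mathlib.RingTheory.TensorProduct.Basic

/-!
# Invertible ideals and invertible modules

* `invertible_of_mul` : `I * I' = (f)` with `f` a nonzerodivisor makes `I` an invertible module.
* `smul_eq_smul` : `φ(n) l = φ(l) n` in an invertible module.
* `exists_ideal` : an invertible module `N` with an element `ℓ` such that `f N ⊆ L ℓ`, `f` regular, is isomorphic to
  an ideal `K` containing `f` with `K * K' = (f)`, `f ∈ K'`.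
-/

set_option autoImplicit false

open scoped TensorProduct

namespace K89.InvIdeal

section Basic

variable {R : Type*} [CommRing R]

theorem invertible_of_mul_aux (I I' : Ideal R) (f : R) (h : I * I' = Ideal.span {f})
    (K : Type*) [CommRing K] [Algebra R K] [FaithfulSMul R K] (F : Kˣ) (hF : (F : K) = algebraMap R K f) :
    Module.Invertible R I := by
  have hinj : Function.Injective (algebraMap R K) := FaithfulSMul.algebraMap_injective R K
  let U : Submodule R K := Submodule.map (Algebra.linearMap R K) I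
  let V : Submodule R K := Submodule.map (LinearMap.mulLeft R ((F⁻¹ : Kˣ) : K) ∘ₗ Algebra.linearMap R K) I'
  have hUV : U * V = 1 := by
    apply le_antisymm
    · rw [Submodule.mul_le]
      rintro _ ⟨x, hx, rfl⟩ _ ⟨y, hy, rfl⟩
      have h1 : x * y ∈ Ideal.span {f} := by rw [← h]; exact Ideal.mul_mem_mul hx hy
      obtain ⟨c, hc⟩ := Ideal.mem_span_singleton.mp h1
      rw [Submodule.mem_one]
      refine ⟨c, ?_⟩
      simp only [Algebra.linearMap_apply, LinearMap.comp_apply, LinearMap.mulLeft_apply]
      have h2 : algebraMap R K x * algebraMap R K y = algebraMap R K f * algebraMap R K c := by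
        rw [← map_mul, ← map_mul, hc]
      have h3 : ((F⁻¹ : Kˣ) : K) * algebraMap R K f = 1 := by rw [← hF, Units.inv_mul]
      calc algebraMap R K c = (((F⁻¹ : Kˣ) : K) * algebraMap R K f) * algebraMap R K c := by rw [h3, one_mul]
        _ = ((F⁻¹ : Kˣ) : K) * (algebraMap R K x * algebraMap R K y) := by rw [h2]; ring
        _ = _ := by ring
    · rw [Submodule.one_le]
      have key : ∀ z ∈ I * I', ((F⁻¹ : Kˣ) : K) * algebraMap R K z ∈ U * V := by
        intro z hz
        refine Submodule.mul_induction_on hz ?_ ?_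
        · intro x hx y hy
          have h1 : ((F⁻¹ : Kˣ) : K) * algebraMap R K (x * y) =
              algebraMap R K x * (((F⁻¹ : Kˣ) : K) * algebraMap R K y) := by rw [map_mul]; ring
          rw [h1]
          exact Submodule.mul_mem_mul ⟨x, hx, rfl⟩ ⟨y, hy, rfl⟩
        · intro x y hx hy
          rw [map_add, mul_add]
          exact add_mem hx hy
      have h1 := key f (by rw [h]; exact Ideal.mem_span_singleton_self f)
      rwa [← hF, Units.inv_mul] at h1
  let W : (Submodule R K)ˣ := ⟨U, V, hUV, by rw [mul_comm, hUV]⟩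
  have e : I ≃ₗ[R] U := Submodule.equivMapOfInjective (Algebra.linearMap R K) hinj I
  have h1 : Module.Invertible R (W : Submodule R K) := Module.Invertible.left (Submodule.tensorInvEquiv W)
  exact Module.Invertible.congr (M := (W : Submodule R K)) (N := I) e.symm

theorem invertible_of_mul (I I' : Ideal R) (f : R) (hf : f ∈ nonZeroDivisors R) (h : I * I' = Ideal.span {f}) :
    Module.Invertible R I := by
  have hinj : Function.Injective (algebraMap R (FractionRing R)) := IsFractionRing.injective R _
  have hfaith : FaithfulSMul R (FractionRing R) := (faithfulSMul_iff_algebraMap_injective R _).mpr hinj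
  obtain ⟨F, hF⟩ := IsLocalization.map_units (FractionRing R) (⟨f, hf⟩ : nonZeroDivisors R)
  exact invertible_of_mul_aux I I' f h (FractionRing R) F hF

end Basic

section Inv

variable {L : Type*} [CommRing L] {N : Type*} [AddCommGroup N] [Module L N]

theorem smul_eq_smul [Module.Invertible L N] (φ : N →ₗ[L] L) (x y : N) : φ x • y = φ y • x := by
  have h1 : (x ⊗ₜ[L] y : N ⊗[L] N) = y ⊗ₜ x := Module.Invertible.tmul_comm
  have h2 := congrArg ((TensorProduct.lid L N).toLinearMap ∘ₗ φ.rTensor N) h1
  simpa using h2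

/-- dual basis form -/
theorem exists_dual [Module.Invertible L N] : ∃ (s : Finset (Module.Dual L N × N)),
    ∑ p ∈ s, p.1 p.2 = 1 := by
  classical
  let e := Module.Invertible.linearEquiv L N
  obtain ⟨s, hs⟩ := TensorProduct.exists_finset (e.symm 1)
  refine ⟨s, ?_⟩
  have h1 : e (e.symm 1) = 1 := e.apply_symm_apply 1
  rw [hs, map_sum] at h1
  exact h1

/-- The isomorphism with an ideal. -/
theorem exists_ideal [Module.Invertible L N] (ℓ : N) (f : L) (hf : f ∈ nonZeroDivisors L)
    (hN : ∀ n : N, ∃ a : L, f • n = a • ℓ) :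
    ∃ K K' : Ideal L, f ∈ K ∧ f ∈ K' ∧ K * K' = Ideal.span {f} ∧ Nonempty (N ≃ₗ[L] K) := by
  have hregN : ∀ n : N, f • n = 0 → n = 0 := by
    intro n hn
    obtain ⟨s, hs⟩ := exists_dual (L := L) (N := N)
    have h1 : n = ∑ p ∈ s, p.1 n • p.2 := by
      conv_lhs => rw [← one_smul L n, ← hs, Finset.sum_smul]
      exact Finset.sum_congr rfl fun p _ => smul_eq_smul _ _ _
    rw [h1]
    refine Finset.sum_eq_zero fun p _ => ?_
    have h2 : f * p.1 n = 0 := by rw [← smul_eq_mul, ← map_smul, hn, map_zero]
    rw [mul_comm] at h2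
    rw [(mem_nonZeroDivisors_iff_right.mp hf) _ h2, zero_smul]
  have hℓ : Function.Injective (LinearMap.toSpanSingleton L N ℓ) := by
    rw [injective_iff_map_eq_zero]
    intro a ha
    rw [LinearMap.toSpanSingleton_apply] at ha
    apply (mem_nonZeroDivisors_iff_right.mp hf)
    apply FaithfulSMul.eq_of_smul_eq_smul (M := L) (α := N)
    intro n
    obtain ⟨c, hc⟩ := hN n
    rw [mul_smul, hc, smul_comm, ha, smul_zero, zero_smul]
  have hmul : Function.Injective (LinearMap.lsmul L N f) := by
    rw [injective_iff_map_eq_zero]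
    intro n hn
    exact hregN n hn
  let P : Submodule L N := LinearMap.range (LinearMap.lsmul L N f)
  let K : Ideal L := Submodule.comap (LinearMap.toSpanSingleton L N ℓ) P
  have hKmem : ∀ a, a ∈ K ↔ ∃ n, f • n = a • ℓ := fun a => Iff.rfl
  let e1 : N ≃ₗ[L] P := LinearEquiv.ofInjective _ hmul
  let e2 : K ≃ₗ[L] Submodule.map (LinearMap.toSpanSingleton L N ℓ) K := Submodule.equivMapOfInjective _ hℓ K
  have hKP : Submodule.map (LinearMap.toSpanSingleton L N ℓ) K = P := by
    rw [Submodule.map_comap_eq, inf_eq_right]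
    rintro _ ⟨n, rfl⟩
    obtain ⟨a, ha⟩ := hN n
    exact ⟨a, ha.symm⟩
  let e : N ≃ₗ[L] K := e1.trans ((LinearEquiv.ofEq _ _ hKP).symm.trans e2.symm)
  have hfK : f ∈ K := (hKmem f).mpr ⟨ℓ, rfl⟩
  have hKinv : Module.Invertible L K := Module.Invertible.congr e
  let K' : Ideal L :=
    { carrier := {y | ∀ a ∈ K, y * a ∈ Ideal.span {f}}
      add_mem' := fun {x y} hx hy a ha => by rw [add_mul]; exact add_mem (hx a ha) (hy a ha)
      zero_mem' := fun a _ => by rw [zero_mul]; exact Ideal.zero_mem _
      smul_mem' := fun c x hx a ha => by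
        rw [smul_eq_mul, mul_assoc]
        exact Ideal.mul_mem_left _ _ (hx a ha) }
  refine ⟨K, K', hfK, fun a _ => Ideal.mul_mem_right _ _ (Ideal.mem_span_singleton_self f), ?_, ⟨e⟩⟩
  apply le_antisymm
  · rw [Ideal.mul_le]
    intro a ha y hy
    rw [mul_comm]
    exact hy a ha
  · rw [Ideal.span_le, Set.singleton_subset_iff, SetLike.mem_coe]
    obtain ⟨s, hs⟩ := exists_dual (L := L) (N := K)
    have h1 : f = ∑ p ∈ s, (p.2 : L) * p.1 ⟨f, hfK⟩ := by
      conv_lhs => rw [← mul_one f, ← hs, Finset.mul_sum]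
      refine Finset.sum_congr rfl fun p _ => ?_
      have h2 := congrArg (Subtype.val) (smul_eq_smul p.1 p.2 (⟨f, hfK⟩ : K))
      simp only [SetLike.val_smul, smul_eq_mul] at h2
      rw [mul_comm f, h2, mul_comm]
    rw [h1]
    refine Ideal.sum_mem _ fun p _ => Ideal.mul_mem_mul p.2.2 ?_
    intro a ha
    have h2 := congrArg (Subtype.val) (smul_eq_smul p.1 (⟨f, hfK⟩ : K) (⟨a, ha⟩ : K))
    simp only [SetLike.val_smul, smul_eq_mul] at h2
    rw [h2]
    exact Ideal.mul_mem_left _ _ (Ideal.mem_span_singleton_self f)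

end Inv

section BaseChange

variable {A L : Type*} [CommRing A] [CommRing L] [Algebra A L]

theorem baseChange_ideal (I : Ideal A) (hI : Module.Invertible A I) (K : Ideal L) (hK : I.map (algebraMap A L) = K)
    (hKi : Module.Invertible L K) : Nonempty (L ⊗[A] I ≃ₗ[L] K) := by
  subst hK
  let g : I →ₗ[A] (I.map (algebraMap A L) : Ideal L) :=
    { toFun := fun x => ⟨algebraMap A L x, Ideal.mem_map_of_mem _ x.2⟩
      map_add' := fun x y => Subtype.ext (by simp)
      map_smul' := fun c x => Subtype.ext (by simp [Algebra.smul_def]) }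
  let G : L ⊗[A] I →ₗ[L] (I.map (algebraMap A L) : Ideal L) := g.liftBaseChange L
  have hG : Function.Surjective G := by
    have key : ∀ y ∈ I.map (algebraMap A L), ∃ x, (G x : L) = y := by
      intro y hy
      rw [Ideal.map] at hy
      induction hy using Submodule.span_induction with
      | mem y hy =>
        obtain ⟨x, hx, rfl⟩ := hy
        refine ⟨1 ⊗ₜ ⟨x, hx⟩, ?_⟩
        change ((g.liftBaseChange L _ : (I.map (algebraMap A L) : Ideal L)) : L) = _
        rw [LinearMap.liftBaseChange_tmul, one_smul]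
        rfl
      | zero => exact ⟨0, by rw [map_zero]; rfl⟩
      | add a b ha hb h1 h2 =>
        obtain ⟨x, hx⟩ := h1
        obtain ⟨y, hy⟩ := h2
        exact ⟨x + y, by rw [map_add, ← hx, ← hy]; rfl⟩
      | smul c a ha h1 =>
        obtain ⟨x, hx⟩ := h1
        exact ⟨c • x, by rw [map_smul, ← hx]; rfl⟩
    rintro ⟨y, hy⟩
    obtain ⟨x, hx⟩ := key y hy
    exact ⟨x, Subtype.ext hx⟩
  exact ⟨LinearEquiv.ofBijective G (Module.Invertible.bijective_of_surjective hG)⟩

end BaseChange

end K89.InvIdeal
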