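import Groth.Agent.CAlg.K89.LaurentIdeals
import Groth.Prelude.Def_Hens2
import Mathlib.RingTheory.Localization.Away.Basic
import Mathlib.RingTheory.PowerSeries.Basic
import Mathlib.RingTheory.AdicCompletion.Completeness

/-!
# Ideals of `R[t⁻¹]` and of the henselian Laurent series ring `R{t}[1/t]` avoiding the special fibre
-/

set_option autoImplicit false
universe u

open Polynomial IsLocalRing

namespace K89.LaurentHens

open K89.WeierPoly K89.LaurentIdeals

/-- The Weierstrass preparation property of `B` over `R[t]`. -/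
def Weier (R : Type u) [CommRing R] [IsLocalRing R] (B : Type u) [CommRing B] [Algebra R B] [Algebra R[X] B] : Prop :=
  ∀ f : B, f ∉ (maximalIdeal R).map (algebraMap R B) →
    (∃! Pu : R[X] × Bˣ, Pu.1.Monic ∧ (∀ i : ℕ, i < Pu.1.natDegree → Pu.1.coeff i ∈ maximalIdeal R) ∧
        f = algebraMap R[X] B Pu.1 * (Pu.2 : B)) ∧
    (∀ (P : R[X]) (u : Bˣ), P.Monic → (∀ i : ℕ, i < P.natDegree → P.coeff i ∈ maximalIdeal R) →
        f = algebraMap R[X] B P * (u : B) →
      (∀ b : B, ∃ q : R[X], algebraMap R[X] B q - b ∈ Ideal.span {f}) ∧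
      (∀ q : R[X], algebraMap R[X] B q ∈ Ideal.span {f} → q ∈ Ideal.span {P}))

variable {R : Type u} [CommRing R] [IsLocalRing R] {B : Type u} [CommRing B] [Algebra R B] [Algebra R[X] B]
  [IsScalarTower R R[X] B]

/-- monic multiple of the reversed polynomial -/
theorem exists_monic {f : R[X]} (hf : f - 1 ∈ (maximalIdeal R).map (C : R →+* R[X])) :
    ∃ c : Rˣ, (C (c : R) * f.reverse).Monic ∧ (C (c : R) * f.reverse).natDegree = f.natDegree ∧
      ∀ i, i < (C (c : R) * f.reverse).natDegree → (C (c : R) * f.reverse).coeff i ∈ maximalIdeal R := by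
  obtain ⟨hdeg, c, hc⟩ := reverse_leading hf
  have hmon : (C (↑c⁻¹ : R) * f.reverse).Monic :=
    monic_C_mul_of_mul_leadingCoeff_eq_one (by rw [← hc, Units.inv_mul])
  have hd : (C (↑c⁻¹ : R) * f.reverse).natDegree = f.natDegree := by
    rw [natDegree_C_mul_of_isUnit (c⁻¹).isUnit, hdeg]
  refine ⟨c⁻¹, hmon, hd, ?_⟩
  intro i hi
  rw [hd] at hi
  rw [coeff_C_mul]
  apply Ideal.mul_mem_left
  rw [← residue_eq_zero_iff, ← coeff_map, reverse_map hf, coeff_X_pow, if_neg (by omega)]

/-- polynomials with a unit coefficient are not in `𝔪 B`. -/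
theorem notMem_of_hens (hB : Hens2.IsPairHenselization R[X] (Ideal.span {(X : R[X])}) B) (q : R[X])
    (hq : q.map (residue R) ≠ 0) : algebraMap R[X] B q ∉ (maximalIdeal R).map (algebraMap R B) := by
  intro h
  let S := PowerSeries (ResidueField R)
  let φ : R[X] →+* S := (Polynomial.coeToPowerSeries.ringHom).comp (mapRingHom (residue R))
  obtain ⟨g, hg, -⟩ := hB.2 S (Ideal.span {PowerSeries.X}) φ inferInstance (by
    rw [Ideal.map_span, Ideal.span_le, Set.image_singleton, Set.singleton_subset_iff]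
    have : φ X = PowerSeries.X := by simp [φ]
    rw [this]
    exact Ideal.mem_span_singleton_self _)
  have h1 : (maximalIdeal R).map (algebraMap R B) ≤ RingHom.ker g := by
    rw [Ideal.map_le_iff_le_comap]
    intro r hr
    rw [Ideal.mem_comap, RingHom.mem_ker, IsScalarTower.algebraMap_apply R R[X] B]
    have h2 : g (algebraMap R[X] B (algebraMap R R[X] r)) = φ (algebraMap R R[X] r) := by rw [← hg]; rfl
    rw [h2, Polynomial.algebraMap_eq]
    simp [φ, (residue_eq_zero_iff r).mpr hr]
  have h2 : g (algebraMap R[X] B q) = φ q := by rw [← hg]; rfl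
  have h3 := h1 h
  rw [RingHom.mem_ker, h2] at h3
  apply hq
  have h4 : ((q.map (residue R) : (ResidueField R)[X]) : PowerSeries (ResidueField R)) = 0 := h3
  exact_mod_cast h4

/-- the retraction on `B`. -/
theorem exists_sigmaB (hW : Weier R B) (hB : Hens2.IsPairHenselization R[X] (Ideal.span {(X : R[X])}) B)
    {f : R[X]} (hf : f - 1 ∈ (maximalIdeal R).map (C : R →+* R[X])) :
    ∃ σ : B →+* (R[X] ⧸ Ideal.span {f}), ∀ q, σ (algebraMap R[X] B q) = chi hf q := by
  obtain ⟨c, hmon, hdeg, hco⟩ := exists_monic hf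
  set P := C (c : R) * f.reverse with hP
  have hPB : algebraMap R[X] B P ∉ (maximalIdeal R).map (algebraMap R B) :=
    notMem_of_hens hB P (hmon.map _).ne_zero
  obtain ⟨h1, h2⟩ := (hW _ hPB).2 P 1 hmon hco (by rw [Units.val_one, mul_one])
  let I : Ideal B := Ideal.span {algebraMap R[X] B P}
  have hle : Ideal.span {P} ≤ I.comap (algebraMap R[X] B) := by
    rw [Ideal.span_le, Set.singleton_subset_iff]
    exact Ideal.mem_span_singleton_self _
  let g : (R[X] ⧸ Ideal.span {P}) →+* (B ⧸ I) := Ideal.quotientMap I (algebraMap R[X] B) hle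
  have hg : Function.Bijective g := by
    constructor
    · rw [injective_iff_map_eq_zero]
      intro x hx
      obtain ⟨q, rfl⟩ := Ideal.Quotient.mk_surjective x
      rw [Ideal.quotientMap_mk, Ideal.Quotient.eq_zero_iff_mem] at hx
      exact Ideal.Quotient.eq_zero_iff_mem.mpr (h2 q hx)
    · intro x
      obtain ⟨b, rfl⟩ := Ideal.Quotient.mk_surjective x
      obtain ⟨q, hq⟩ := h1 b
      refine ⟨Ideal.Quotient.mk _ q, ?_⟩
      rw [Ideal.quotientMap_mk, Ideal.Quotient.eq]
      exact hq
  let e := RingEquiv.ofBijective g hg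
  have hchi : ∀ a ∈ Ideal.span {P}, (chi hf).toRingHom a = 0 := by
    intro a ha
    obtain ⟨b, rfl⟩ := Ideal.mem_span_singleton.mp ha
    change chi hf (P * b) = 0
    rw [map_mul, hP, map_mul, chi_reverse, mul_zero, zero_mul]
  refine ⟨(Ideal.Quotient.lift (Ideal.span {P}) (chi hf).toRingHom hchi).comp
    (e.symm.toRingHom.comp (Ideal.Quotient.mk I)), fun q => ?_⟩
  have h3 : e.symm (Ideal.Quotient.mk I (algebraMap R[X] B q)) = Ideal.Quotient.mk _ q := by
    rw [RingEquiv.symm_apply_eq]
    rfl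
  change Ideal.Quotient.lift (Ideal.span {P}) (chi hf).toRingHom hchi
    (e.symm (Ideal.Quotient.mk I (algebraMap R[X] B q))) = _
  rw [h3]
  rfl

theorem hens_main (hW : Weier R B) (hB : Hens2.IsPairHenselization R[X] (Ideal.span {(X : R[X])}) B)
    (tB : B) (htB : tB = algebraMap R[X] B X) {L : Type u} [CommRing L] [Algebra B L] [IsLocalization.Away tB L]
    [Algebra R L] [IsScalarTower R B L] (ψ : R[X] →ₐ[R] L) (hψ : ψ X * algebraMap B L tB = 1) :
    (∀ I : Ideal R[X], I ⊔ (IsLocalRing.maximalIdeal R).map (algebraMap R R[X]) = ⊤ →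
        (I.map ψ.toRingHom).comap ψ.toRingHom = I ∧
        I.map ψ.toRingHom ⊔ (IsLocalRing.maximalIdeal R).map (algebraMap R L) = ⊤ ∧
        Function.Bijective (Ideal.quotientMap (I.map ψ.toRingHom) ψ.toRingHom Ideal.le_comap_map)) ∧
    (∀ J : Ideal L, J ⊔ (IsLocalRing.maximalIdeal R).map (algebraMap R L) = ⊤ →
        (J.comap ψ.toRingHom).map ψ.toRingHom = J ∧
        J.comap ψ.toRingHom ⊔ (IsLocalRing.maximalIdeal R).map (algebraMap R R[X]) = ⊤) := by
  set t := algebraMap B L tB with ht
  have hRL : ∀ r : R, algebraMap R L r = algebraMap B L (algebraMap R B r) :=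
    fun r => IsScalarTower.algebraMap_apply R B L r
  have haev : ∀ p : R[X], aeval t p = algebraMap B L (algebraMap R[X] B p) := by
    intro p
    have h1 : aeval tB p = algebraMap R[X] B p := by
      rw [htB, aeval_algebraMap_apply]
      simp
    rw [ht, aeval_algebraMap_apply, h1]
  refine formal (maximalIdeal R) ψ ?_ ?_ ?_
  · intro f hf l
    obtain ⟨c, hmon, hdeg, hco⟩ := exists_monic hf
    set P := C (c : R) * f.reverse with hP
    have hPB : algebraMap R[X] B P ∉ (maximalIdeal R).map (algebraMap R B) :=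
      notMem_of_hens hB P (hmon.map _).ne_zero
    obtain ⟨h1, -⟩ := (hW _ hPB).2 P 1 hmon hco (by rw [Units.val_one, mul_one])
    let Q := L ⧸ Ideal.span {ψ f}
    let κ : (R[X] ⧸ Ideal.span {f}) →+* Q := Ideal.Quotient.lift (Ideal.span {f})
      ((Ideal.Quotient.mk (Ideal.span {ψ f})).comp ψ.toRingHom) (by
        intro a ha
        obtain ⟨b, rfl⟩ := Ideal.mem_span_singleton.mp ha
        rw [map_mul]
        have : ((Ideal.Quotient.mk (Ideal.span {ψ f})).comp ψ.toRingHom) f = 0 :=
          Ideal.Quotient.eq_zero_iff_mem.mpr (Ideal.mem_span_singleton_self _)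
        rw [this, zero_mul])
    have hκ : ∀ a, κ (Ideal.Quotient.mk _ a) = Ideal.Quotient.mk (Ideal.span {ψ f}) (ψ a) := fun a => rfl
    have hκt : κ (chi hf X) = Ideal.Quotient.mk (Ideal.span {ψ f}) t := by
      have h2 := congrArg κ (chi_X hf)
      rw [map_mul, map_one, hκ] at h2
      have h3 := congrArg (Ideal.Quotient.mk (Ideal.span {ψ f})) hψ
      rw [map_mul, map_one] at h3
      calc κ (chi hf X) = κ (chi hf X) * (Ideal.Quotient.mk (Ideal.span {ψ f}) (ψ X) *
            Ideal.Quotient.mk (Ideal.span {ψ f}) t) := by rw [h3, mul_one]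
        _ = (κ (chi hf X) * Ideal.Quotient.mk (Ideal.span {ψ f}) (ψ X)) *
            Ideal.Quotient.mk (Ideal.span {ψ f}) t := by ring
        _ = _ := by rw [h2, one_mul]
    have hκchi : ∀ q : R[X], κ (chi hf q) = Ideal.Quotient.mk (Ideal.span {ψ f}) (aeval t q) := by
      intro q
      have h2 : κ.comp (chi hf).toRingHom = (Ideal.Quotient.mk (Ideal.span {ψ f})).comp (aeval t).toRingHom := by
        apply Polynomial.ringHom_ext'
        · ext r
          change κ (chi hf (C r)) = Ideal.Quotient.mk _ (aeval t (C r))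
          rw [← Polynomial.algebraMap_eq, AlgHom.commutes, AlgHom.commutes]
          change κ (Ideal.Quotient.mk _ (algebraMap R R[X] r)) = _
          rw [hκ, AlgHom.commutes]
        · change κ (chi hf X) = Ideal.Quotient.mk _ (aeval t X)
          rw [hκt, aeval_X]
      exact congrArg (fun g : R[X] →+* Q => g q) h2
    obtain ⟨k, b, hb⟩ := IsLocalization.Away.surj tB l
    obtain ⟨q, hq⟩ := h1 b
    obtain ⟨b', hb'⟩ := Ideal.mem_span_singleton.mp hq
    have hPt : algebraMap B L (algebraMap R[X] B P) * (ψ X) ^ f.natDegree = algebraMap R L c * ψ f := by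
      rw [← haev, hP, map_mul, aeval_C]
      have h2 := psi_eq (ψ X) t hψ f
      have h3 : aeval (ψ X) f = ψ f := by rw [aeval_algHom_apply, aeval_X_left, AlgHom.id_apply]
      rw [h3] at h2
      rw [h2]
      ring
    have hPmem : Ideal.Quotient.mk (Ideal.span {ψ f}) (algebraMap B L (algebraMap R[X] B P)) = 0 := by
      rw [Ideal.Quotient.eq_zero_iff_mem]
      have h2 : algebraMap B L (algebraMap R[X] B P) = algebraMap R L c * ψ f * t ^ f.natDegree := by
        rw [← hPt, mul_assoc, ← mul_pow, hψ, one_pow, mul_one]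
      rw [h2]
      exact Ideal.mul_mem_right _ _ (Ideal.mul_mem_left _ _ (Ideal.mem_span_singleton_self _))
    have hl : l = (ψ X) ^ k * algebraMap B L b := by
      rw [← hb]
      have : (ψ X) ^ k * t ^ k = 1 := by rw [← mul_pow, hψ, one_pow]
      linear_combination (-l) * this
    obtain ⟨a, ha⟩ := Ideal.Quotient.mk_surjective (Ideal.Quotient.mk (Ideal.span {f}) (X ^ k) * chi hf q)
    have h2 : Ideal.Quotient.mk (Ideal.span {ψ f}) l = Ideal.Quotient.mk (Ideal.span {ψ f}) (ψ a) := by
      rw [← hκ, ha, map_mul, hκchi, hκ, hl, map_mul, map_pow ψ]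
      congr 1
      have h3 : b = algebraMap R[X] B q - algebraMap R[X] B P * b' := by rw [← hb']; ring
      rw [h3, map_sub, map_mul, map_sub, map_mul, hPmem, zero_mul, sub_zero, haev]
    rw [Ideal.Quotient.eq, Ideal.mem_span_singleton] at h2
    obtain ⟨l', hl'⟩ := h2
    exact ⟨a, l', by rw [← hl']; ring⟩
  · intro f hf a l h
    obtain ⟨σ, hσ⟩ := exists_sigmaB hW hB hf
    have hu : IsUnit (σ tB) := by
      rw [htB, hσ]
      exact IsUnit.of_mul_eq_one _ (chi_X hf)
    let σL : L →+* (R[X] ⧸ Ideal.span {f}) := IsLocalization.Away.lift tB hu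
    have hσL : ∀ b, σL (algebraMap B L b) = σ b := fun b => IsLocalization.Away.lift_eq tB hu b
    refine H1'_of_sigma ψ σL (sigma_psi hf ψ t hψ σL ?_ ?_) a l h
    · intro r
      rw [hRL, hσL, IsScalarTower.algebraMap_apply R R[X] B, hσ, AlgHom.commutes]
    · rw [ht, hσL, htB, hσ]
  · intro J hJ
    obtain ⟨j, hj, μ, hμ, hjμ⟩ := Submodule.mem_sup.mp
      (show (1 : L) ∈ J ⊔ (maximalIdeal R).map (algebraMap R L) by rw [hJ]; trivial)
    have hmL : (maximalIdeal R).map (algebraMap R L) =
        ((maximalIdeal R).map (algebraMap R B)).map (algebraMap B L) := by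
      rw [Ideal.map_map]
      congr 1
      exact IsScalarTower.algebraMap_eq R B L
    rw [hmL, IsLocalization.mem_map_algebraMap_iff (Submonoid.powers tB)] at hμ
    obtain ⟨⟨⟨g, hg⟩, ⟨y, n, hy⟩⟩, hgy⟩ := hμ
    simp only at hgy hy
    subst hy
    have hnot : tB ^ n - g ∉ (maximalIdeal R).map (algebraMap R B) := by
      intro h
      have h1 : algebraMap R[X] B (X ^ n) ∈ (maximalIdeal R).map (algebraMap R B) := by
        rw [map_pow]
        have : tB ^ n = (tB ^ n - g) + g := by ring
        rw [← htB, this]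
        exact add_mem h hg
      exact notMem_of_hens hB (X ^ n) (by rw [Polynomial.map_pow, map_X]; exact pow_ne_zero _ X_ne_zero) h1
    obtain ⟨⟨⟨P, u⟩, ⟨hPmon, hPc, hPu⟩, -⟩, -⟩ := hW _ hnot
    simp only at hPmon hPc hPu
    have hJ1 : algebraMap B L (tB ^ n - g) ∈ J := by
      have : algebraMap B L (tB ^ n - g) = j * algebraMap B L (tB ^ n) := by
        rw [map_sub, ← hgy, ← sub_eq_iff_eq_add.mpr hjμ.symm]
        ring
      rw [this]
      exact J.mul_mem_right _ hj
    have hPJ : algebraMap B L (algebraMap R[X] B P) ∈ J := by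
      have h1 : algebraMap R[X] B P = (tB ^ n - g) * ↑u⁻¹ := by
        rw [hPu, mul_assoc, Units.mul_inv, mul_one]
      rw [h1, map_mul]
      exact J.mul_mem_right _ hJ1
    exact of_monic ψ t hψ J P hPmon hPc (by rw [haev]; exact hPJ)

end K89.LaurentHens
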