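import Groth.Agent.CAlg.K89.WeierPoly
import Mathlib.RingTheory.Localization.Defs
import Mathlib.RingTheory.Localization.Ideal
import Mathlib.RingTheory.Ideal.Quotient.Operations

/-!
# Ideals of `R[t⁻¹]` and of henselian Laurent series rings avoiding the special fibre
-/

set_option autoImplicit false
universe u

open Polynomial IsLocalRing

namespace K89.LaurentIdeals

open K89.WeierPoly

/-- the formal part. -/
theorem formal {R A L : Type*} [CommRing R] [CommRing A] [Algebra R A] [CommRing L] [Algebra R L] (m : Ideal R)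
    (ψ : A →ₐ[R] L)
    (H1 : ∀ f : A, f - 1 ∈ m.map (algebraMap R A) → ∀ l : L, ∃ a l', l = ψ a + ψ f * l')
    (H1' : ∀ f : A, f - 1 ∈ m.map (algebraMap R A) → ∀ a l, ψ a = ψ f * l → ∃ a', a = f * a')
    (H2 : ∀ J : Ideal L, J ⊔ m.map (algebraMap R L) = ⊤ → ∃ f : A, f - 1 ∈ m.map (algebraMap R A) ∧ ψ f ∈ J) :
    (∀ I : Ideal A, I ⊔ m.map (algebraMap R A) = ⊤ →
        (I.map ψ.toRingHom).comap ψ.toRingHom = I ∧
        I.map ψ.toRingHom ⊔ m.map (algebraMap R L) = ⊤ ∧
        Function.Bijective (Ideal.quotientMap (I.map ψ.toRingHom) ψ.toRingHom Ideal.le_comap_map)) ∧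
    (∀ J : Ideal L, J ⊔ m.map (algebraMap R L) = ⊤ →
        (J.comap ψ.toRingHom).map ψ.toRingHom = J ∧
        J.comap ψ.toRingHom ⊔ m.map (algebraMap R A) = ⊤) := by
  have key : ∀ I : Ideal A, ∀ f ∈ I, f - 1 ∈ m.map (algebraMap R A) → ∀ x ∈ I.map ψ.toRingHom,
      ∃ i ∈ I, ∃ l, x = ψ i + ψ f * l := by
    intro I f hf hf1 x hx
    induction hx using Submodule.span_induction with
    | mem x hx =>
      obtain ⟨i, hi, rfl⟩ := hx
      exact ⟨i, hi, 0, by rw [mul_zero, add_zero]; rfl⟩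
    | zero => exact ⟨0, I.zero_mem, 0, by rw [map_zero, mul_zero, add_zero]⟩
    | add x y _ _ hx hy =>
      obtain ⟨i, hi, l, rfl⟩ := hx
      obtain ⟨j, hj, k, rfl⟩ := hy
      exact ⟨i + j, I.add_mem hi hj, l + k, by rw [map_add]; ring⟩
    | smul y x _ hx =>
      obtain ⟨i, hi, l, rfl⟩ := hx
      obtain ⟨a, l', rfl⟩ := H1 f hf1 y
      exact ⟨a * i, I.mul_mem_left a hi, l' * (ψ i + ψ f * l) + ψ a * l, by
        rw [smul_eq_mul, map_mul]; ring⟩
  refine ⟨fun I hI => ?_, fun J hJ => ?_⟩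
  · obtain ⟨f, hf, μ, hμ, hfμ⟩ := Submodule.mem_sup.mp (show (1 : A) ∈ I ⊔ m.map (algebraMap R A) by
      rw [hI]; trivial)
    have hf1 : f - 1 ∈ m.map (algebraMap R A) := by
      have : f - 1 = -μ := by rw [← hfμ]; ring
      rw [this]; exact neg_mem hμ
    have hcomap : ∀ a, ψ a ∈ I.map ψ.toRingHom → a ∈ I := by
      intro a ha
      obtain ⟨i, hi, l, hl⟩ := key I f hf hf1 _ ha
      obtain ⟨a', ha'⟩ := H1' f hf1 (a - i) l (by rw [map_sub, hl]; ring)
      have : a = i + f * a' := by rw [← ha']; ring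
      rw [this]
      exact I.add_mem hi (I.mul_mem_right _ hf)
    refine ⟨le_antisymm (fun a ha => hcomap a ha) Ideal.le_comap_map, ?_, ?_, ?_⟩
    · have h1 := congrArg (Ideal.map ψ.toRingHom) hI
      rw [Ideal.map_sup, Ideal.map_top, Ideal.map_map] at h1
      have h2 : ψ.toRingHom.comp (algebraMap R A) = algebraMap R L := ψ.comp_algebraMap
      rw [h2] at h1
      exact h1
    · rw [injective_iff_map_eq_zero]
      intro x hx
      obtain ⟨a, rfl⟩ := Ideal.Quotient.mk_surjective x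
      rw [Ideal.quotientMap_mk, Ideal.Quotient.eq_zero_iff_mem] at hx
      exact Ideal.Quotient.eq_zero_iff_mem.mpr (hcomap a hx)
    · intro x
      obtain ⟨l, rfl⟩ := Ideal.Quotient.mk_surjective x
      obtain ⟨a, l', rfl⟩ := H1 f hf1 l
      refine ⟨Ideal.Quotient.mk _ a, ?_⟩
      rw [Ideal.quotientMap_mk, Ideal.Quotient.eq]
      have : ψ.toRingHom a - (ψ a + ψ f * l') = - (ψ f * l') := by
        change ψ a - (ψ a + ψ f * l') = _
        ring
      rw [this]
      exact neg_mem (Ideal.mul_mem_right _ _ (Ideal.mem_map_of_mem ψ.toRingHom hf))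
  · obtain ⟨f, hf1, hfJ⟩ := H2 J hJ
    have hfJ' : f ∈ J.comap ψ.toRingHom := hfJ
    refine ⟨le_antisymm Ideal.map_comap_le ?_, ?_⟩
    · intro x hx
      obtain ⟨a, l, rfl⟩ := H1 f hf1 x
      have ha : a ∈ J.comap ψ.toRingHom := by
        change ψ a ∈ J
        have : ψ a = (ψ a + ψ f * l) - ψ f * l := by ring
        rw [this]
        exact sub_mem hx (Ideal.mul_mem_right _ _ hfJ)
      exact add_mem (Ideal.mem_map_of_mem ψ.toRingHom ha)
        (Ideal.mul_mem_right _ _ (Ideal.mem_map_of_mem ψ.toRingHom hfJ'))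
    · rw [Ideal.eq_top_iff_one]
      have : (1 : A) = f - (f - 1) := by ring
      rw [this]
      exact sub_mem (Ideal.mem_sup_left hfJ') (Ideal.mem_sup_right hf1)

section Poly

variable {R : Type u} [CommRing R] [IsLocalRing R]

theorem coeff_zero_isUnit {f : R[X]} (hf : f - 1 ∈ (maximalIdeal R).map (C : R →+* R[X])) :
    residue R (f.coeff 0) = 1 := by
  have h1 := (Ideal.mem_map_C_iff.mp hf) 0
  rw [coeff_sub, coeff_one_zero, ← residue_eq_zero_iff, map_sub, map_one, sub_eq_zero] at h1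
  exact h1

theorem map_eq_one {f : R[X]} (hf : f - 1 ∈ (maximalIdeal R).map (C : R →+* R[X])) : f.map (residue R) = 1 := by
  rw [mem_iff_map, Polynomial.map_sub, Polynomial.map_one, sub_eq_zero] at hf
  exact hf

/-- the reversed polynomial reduces to `X^d`. -/
theorem reverse_map {f : R[X]} (hf : f - 1 ∈ (maximalIdeal R).map (C : R →+* R[X])) :
    f.reverse.map (residue R) = X ^ f.natDegree := by
  have h1 := map_eq_one hf
  ext i
  rw [coeff_map, coeff_reverse, ← coeff_map, h1, coeff_X_pow, coeff_one]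
  congr 1
  by_cases hi : i ≤ f.natDegree
  · rw [revAt_le hi]
    apply propext
    constructor <;> intro h <;> omega
  · rw [revAt_eq_self_of_lt (by omega)]
    apply propext
    constructor <;> intro h <;> omega

theorem reverse_leading {f : R[X]} (hf : f - 1 ∈ (maximalIdeal R).map (C : R →+* R[X])) :
    f.reverse.natDegree = f.natDegree ∧ IsUnit f.reverse.leadingCoeff := by
  have h1 := coeff_zero_isUnit hf
  have h0 : f.coeff 0 ≠ 0 := by
    intro h; rw [h, map_zero] at h1; exact zero_ne_one h1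
  have h2 : f.natTrailingDegree = 0 := natTrailingDegree_eq_zero.mpr (Or.inr h0)
  refine ⟨by rw [reverse_natDegree, h2, tsub_zero], ?_⟩
  rw [reverse_leadingCoeff, trailingCoeff, h2]
  exact isUnit_of_residue_ne (by rw [h1]; exact one_ne_zero)

theorem map_mem_smul {Q : Type*} [CommRing Q] [Algebra R Q] (π : R[X] →ₐ[R] Q) :
    ∀ a ∈ (maximalIdeal R).map (C : R →+* R[X]), π a ∈ maximalIdeal R • (⊤ : Submodule R Q) := by
  intro a ha
  rw [← Polynomial.sum_C_mul_X_pow_eq a, Polynomial.sum, map_sum]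
  refine Submodule.sum_mem _ fun i _ => ?_
  rw [← smul_eq_C_mul, map_smul]
  exact Submodule.smul_mem_smul ((Ideal.mem_map_C_iff.mp ha) i) trivial

theorem isCoprime_reverse {f : R[X]} (hf : f - 1 ∈ (maximalIdeal R).map (C : R →+* R[X])) (v : R[X])
    (hv : IsUnit (v.coeff 0)) : IsCoprime v f.reverse := by
  obtain ⟨hdeg, c, hc⟩ := reverse_leading hf
  have hv0 : (v.map (residue R)).coeff 0 ≠ 0 := by
    rw [coeff_map]; exact (residue_ne_zero_iff_isUnit _).mpr hv
  have hcop : IsCoprime (X ^ f.natDegree : (ResidueField R)[X]) (v.map (residue R)) := by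
    refine IsCoprime.pow_left ?_
    refine (prime_X (R := ResidueField R)).irreducible.coprime_iff_not_dvd.mpr ?_
    rw [X_dvd_iff]
    exact hv0
  obtain ⟨a, b, hab⟩ := hcop
  obtain ⟨a', rfl⟩ := map_surjective (residue R) residue_surjective a
  obtain ⟨b', rfl⟩ := map_surjective (residue R) residue_surjective b
  rw [← reverse_map hf, ← Polynomial.map_mul, ← Polynomial.map_mul, ← Polynomial.map_add] at hab
  set Q := R[X] ⧸ Ideal.span {v, f.reverse}
  let φ : R[X] →ₐ[R] Q := Ideal.Quotient.mkₐ R _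
  have hφs : Function.Surjective φ := Ideal.Quotient.mkₐ_surjective R _
  have hmon : (C (↑c⁻¹ : R) * f.reverse).Monic :=
    monic_C_mul_of_mul_leadingCoeff_eq_one (by rw [← hc, Units.inv_mul])
  have hfin : Module.Finite R Q := finite_of_monic φ hφs _ hmon (by
    rw [map_mul]
    have : φ f.reverse = 0 := Ideal.Quotient.eq_zero_iff_mem.mpr (Ideal.subset_span (by simp))
    rw [this, mul_zero])
  have hI : Ideal.span {v, f.reverse} = ⊤ := by
    have h1 : (⊤ : Submodule R Q) ≤ maximalIdeal R • (⊤ : Submodule R Q) := by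
      intro z _
      obtain ⟨q, rfl⟩ := hφs z
      have h2 : 1 - (a' * f.reverse + b' * v) ∈ (maximalIdeal R).map (C : R →+* R[X]) := by
        rw [mem_iff_map, Polynomial.map_sub, hab, Polynomial.map_one, sub_self]
      have h3 : φ q = φ ((1 - (a' * f.reverse + b' * v)) * q) := by
        have h4 : φ ((a' * f.reverse + b' * v) * q) = 0 := by
          refine Ideal.Quotient.eq_zero_iff_mem.mpr (Ideal.mul_mem_right _ _ (add_mem ?_ ?_))
          · exact Ideal.mul_mem_left _ _ (Ideal.subset_span (by simp))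
          · exact Ideal.mul_mem_left _ _ (Ideal.subset_span (by simp))
        have h5 : q = (1 - (a' * f.reverse + b' * v)) * q + (a' * f.reverse + b' * v) * q := by ring
        conv_lhs => rw [h5, map_add, h4, add_zero]
      rw [h3]
      exact map_mem_smul φ _ (Ideal.mul_mem_right _ _ h2)
    have h2 := Submodule.eq_bot_of_le_smul_of_le_jacobson_bot (maximalIdeal R) (⊤ : Submodule R Q)
      Module.Finite.fg_top h1 (IsLocalRing.jacobson_eq_maximalIdeal (⊥ : Ideal R) bot_ne_top).ge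
    rw [Ideal.eq_top_iff_one, ← Ideal.Quotient.eq_zero_iff_mem]
    have h3 : (1 : Q) ∈ (⊤ : Submodule R Q) := trivial
    rw [h2] at h3
    exact (Submodule.mem_bot R).mp h3
  exact Ideal.isCoprime_span_singleton_iff _ _ |>.mp (by
    rw [Ideal.isCoprime_iff_sup_eq, ← Ideal.span_union, Set.singleton_union]
    exact hI)

/-- In `R[s]/(f)` the class of `s` is a unit. -/
theorem isUnit_mk_X {f : R[X]} (hf : f - 1 ∈ (maximalIdeal R).map (C : R →+* R[X])) :
    IsUnit (Ideal.Quotient.mk (Ideal.span {f}) X) := by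
  have h1 : IsUnit (f.coeff 0) := isUnit_of_residue_ne (by rw [coeff_zero_isUnit hf]; exact one_ne_zero)
  obtain ⟨c, hc⟩ := h1
  refine IsUnit.of_mul_eq_one (Ideal.Quotient.mk (Ideal.span {f}) (-(C (↑c⁻¹ : R)) * divX f)) ?_
  rw [← map_mul, ← map_one (Ideal.Quotient.mk (Ideal.span {f})), Ideal.Quotient.eq, Ideal.mem_span_singleton]
  refine ⟨-C (↑c⁻¹ : R), ?_⟩
  have h2 := divX_mul_X_add f
  rw [← hc] at h2
  have h3 : (C (↑c⁻¹ : R) * C (c : R) : R[X]) = 1 := by rw [← C_mul, Units.inv_mul, C_1]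
  linear_combination (-C (↑c⁻¹ : R) : R[X]) * h2 + h3

/-- the map `R[t] → R[s]/(f)`, `t ↦ s⁻¹`. -/
noncomputable def chi {f : R[X]} (hf : f - 1 ∈ (maximalIdeal R).map (C : R →+* R[X])) :
    R[X] →ₐ[R] (R[X] ⧸ Ideal.span {f}) :=
  aeval (↑(isUnit_mk_X hf).unit⁻¹ : R[X] ⧸ Ideal.span {f})

theorem chi_X {f : R[X]} (hf : f - 1 ∈ (maximalIdeal R).map (C : R →+* R[X])) :
    chi hf X * Ideal.Quotient.mk (Ideal.span {f}) X = 1 := by
  rw [chi, aeval_X]
  exact (isUnit_mk_X hf).val_inv_mul

theorem chi_reverse {f : R[X]} (hf : f - 1 ∈ (maximalIdeal R).map (C : R →+* R[X])) :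
    chi hf f.reverse = 0 := by
  let _ : Invertible (Ideal.Quotient.mk (Ideal.span {f}) X) :=
    ⟨↑(isUnit_mk_X hf).unit⁻¹, (isUnit_mk_X hf).val_inv_mul, (isUnit_mk_X hf).mul_val_inv⟩
  have h1 : eval₂ (algebraMap R (R[X] ⧸ Ideal.span {f})) (Ideal.Quotient.mk (Ideal.span {f}) X) f = 0 := by
    have : ∀ p : R[X], eval₂ (algebraMap R (R[X] ⧸ Ideal.span {f})) (Ideal.Quotient.mk (Ideal.span {f}) X) p =
        Ideal.Quotient.mk (Ideal.span {f}) p := by
      intro p
      have h2 : aeval (Ideal.Quotient.mk (Ideal.span {f}) X) p =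
          (Ideal.Quotient.mkₐ R (Ideal.span {f})) (aeval X p) := by
        rw [← aeval_algHom_apply]; rfl
      rw [aeval_X_left, AlgHom.id_apply] at h2
      exact h2
    rw [this]
    exact Ideal.Quotient.eq_zero_iff_mem.mpr (Ideal.mem_span_singleton_self f)
  exact (eval₂_reverse_eq_zero_iff _ _ f).mpr h1

theorem chi_isUnit {f : R[X]} (hf : f - 1 ∈ (maximalIdeal R).map (C : R →+* R[X])) (v : R[X])
    (hv : IsUnit (v.coeff 0)) : IsUnit (chi hf v) := by
  obtain ⟨a, b, hab⟩ := isCoprime_reverse hf v hv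
  have h1 := congrArg (chi hf) hab
  rw [map_add, map_mul, map_mul, chi_reverse, mul_zero, add_zero, map_one] at h1
  exact IsUnit.of_mul_eq_one_right _ h1

omit [IsLocalRing R] in
/-- relation between `f(s)` and the reversed polynomial. -/
theorem psi_eq {L : Type*} [CommRing L] [Algebra R L] (s t : L) (hst : s * t = 1) (f : R[X]) :
    aeval s f = aeval t f.reverse * s ^ f.natDegree := by
  let _ : Invertible s := ⟨t, by rw [mul_comm, hst], hst⟩
  exact (eval₂_reverse_mul_pow (algebraMap R L) s f).symm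

end Poly

section Common

variable {R : Type u} [CommRing R] [IsLocalRing R] {L : Type u} [CommRing L] [Algebra R L]

omit [IsLocalRing R] in
/-- injectivity from a retraction. -/
theorem H1'_of_sigma {f : R[X]} (ψ : R[X] →ₐ[R] L) (σ : L →+* (R[X] ⧸ Ideal.span {f}))
    (hσ : ∀ a, σ (ψ a) = Ideal.Quotient.mk _ a) (a : R[X]) (l : L) (h : ψ a = ψ f * l) :
    ∃ a', a = f * a' := by
  have h1 := congrArg σ h
  rw [map_mul, hσ, hσ, Ideal.Quotient.eq_zero_iff_mem.mpr (Ideal.mem_span_singleton_self f), zero_mul,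
    Ideal.Quotient.eq_zero_iff_mem, Ideal.mem_span_singleton] at h1
  exact h1

/-- a ring hom which sends `t` to `s⁻¹` is compatible with `ψ`. -/
theorem sigma_psi {f : R[X]} (hf : f - 1 ∈ (maximalIdeal R).map (C : R →+* R[X])) (ψ : R[X] →ₐ[R] L)
    (t : L) (hψ : ψ X * t = 1) (σ : L →+* (R[X] ⧸ Ideal.span {f}))
    (hσR : ∀ r : R, σ (algebraMap R L r) = algebraMap R _ r) (hσt : σ t = chi hf X) (a : R[X]) :
    σ (ψ a) = Ideal.Quotient.mk _ a := by
  have h1 : (σ.comp ψ.toRingHom) = Ideal.Quotient.mk (Ideal.span {f}) := by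
    apply Polynomial.ringHom_ext'
    · ext r
      change σ (ψ (C r)) = Ideal.Quotient.mk _ (C r)
      have : ψ (C r) = algebraMap R L r := by
        rw [← Polynomial.algebraMap_eq, AlgHom.commutes]
      rw [this, hσR]
      rfl
    · change σ (ψ X) = Ideal.Quotient.mk _ X
      have h2 := congrArg σ hψ
      rw [map_mul, map_one, hσt] at h2
      have h3 := chi_X hf
      calc σ (ψ X) = σ (ψ X) * (chi hf X * Ideal.Quotient.mk (Ideal.span {f}) X) := by rw [h3, mul_one]
        _ = (σ (ψ X) * chi hf X) * Ideal.Quotient.mk (Ideal.span {f}) X := by ring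
        _ = _ := by rw [h2, one_mul]
  exact congrArg (fun g : R[X] →+* _ => g a) h1

omit [IsLocalRing R] in
/-- a monic polynomial `P ≡ t^n` in `J` gives `f ≡ 1` in `R[s]` with `ψ f ∈ J`. -/
theorem of_monic (ψ : R[X] →ₐ[R] L) (t : L) (hψ : ψ X * t = 1) (J : Ideal L) (P : R[X]) (hP : P.Monic) {m : Ideal R}
    (hPc : ∀ i, i < P.natDegree → P.coeff i ∈ m) (hPJ : aeval t P ∈ J) :
    ∃ f : R[X], f - 1 ∈ m.map (algebraMap R R[X]) ∧ ψ f ∈ J := by
  refine ⟨P.reverse, ?_, ?_⟩
  · rw [Polynomial.algebraMap_eq, Ideal.mem_map_C_iff]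
    intro i
    rw [coeff_sub, coeff_reverse, coeff_one]
    by_cases hi0 : i = 0
    · subst hi0
      rw [if_pos rfl, revAt_le (Nat.zero_le _), tsub_zero, hP.coeff_natDegree, sub_self]
      exact m.zero_mem
    · rw [if_neg hi0, sub_zero]
      by_cases hi : i ≤ P.natDegree
      · rw [revAt_le hi]
        exact hPc _ (by omega)
      · rw [revAt_eq_self_of_lt (by omega), coeff_eq_zero_of_natDegree_lt (by omega)]
        exact m.zero_mem
  · have h1 : ψ P.reverse = aeval (ψ X) P.reverse := by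
      rw [aeval_algHom_apply, aeval_X_left, AlgHom.id_apply]
    have h2 : aeval t P = aeval (ψ X) P.reverse * t ^ P.natDegree := psi_eq t (ψ X) (by rw [mul_comm, hψ]) P
    rw [h1]
    have h3 : aeval (ψ X) P.reverse = (ψ X) ^ P.natDegree * aeval t P := by
      rw [h2]
      have : (ψ X) ^ P.natDegree * t ^ P.natDegree = 1 := by rw [← mul_pow, hψ, one_pow]
      linear_combination (-(aeval (ψ X) P.reverse)) * this
    rw [h3]
    exact J.mul_mem_left _ hPJ

end Common

section Zariski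

variable {R : Type u} [CommRing R] [HenselianLocalRing R] {L : Type u} [CommRing L] [Algebra R[X] L]
  [IsLocalization (Submonoid.closure ({f : R[X] | f.coeff 0 = 1} ∪ {X})) L]
  [Algebra R L] [IsScalarTower R R[X] L]

omit [HenselianLocalRing R] in
theorem mem_closure {y : R[X]} (hy : y ∈ Submonoid.closure ({f : R[X] | f.coeff 0 = 1} ∪ {X})) :
    ∃ (n : ℕ) (v : R[X]), v.coeff 0 = 1 ∧ y = X ^ n * v := by
  induction hy using Submonoid.closure_induction with
  | mem y hy =>
    rcases hy with hy | hy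
    · exact ⟨0, y, hy, by simp⟩
    · rw [Set.mem_singleton_iff] at hy
      exact ⟨1, 1, by simp, by rw [hy]; simp⟩
  | one => exact ⟨0, 1, by simp, by simp⟩
  | mul a b _ _ ha hb =>
    obtain ⟨n, v, hv, rfl⟩ := ha
    obtain ⟨m, w, hw, rfl⟩ := hb
    exact ⟨n + m, v * w, by rw [mul_coeff_zero, hv, hw, mul_one], by rw [pow_add]; ring⟩

theorem zar_isUnit {f : R[X]} (hf : f - 1 ∈ (maximalIdeal R).map (C : R →+* R[X]))
    (y : Submonoid.closure ({f : R[X] | f.coeff 0 = 1} ∪ {X})) : IsUnit ((chi hf).toRingHom (y : R[X])) := by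
  obtain ⟨n, v, hv, hy⟩ := mem_closure y.2
  rw [hy, map_mul, map_pow]
  refine IsUnit.mul (IsUnit.pow n (IsUnit.of_mul_eq_one _ (chi_X hf))) (chi_isUnit hf v ?_)
  rw [hv]; exact isUnit_one

/-- the retraction. -/
noncomputable def zarSigma {f : R[X]} (hf : f - 1 ∈ (maximalIdeal R).map (C : R →+* R[X])) :
    L →+* (R[X] ⧸ Ideal.span {f}) :=
  IsLocalization.lift (M := Submonoid.closure ({f : R[X] | f.coeff 0 = 1} ∪ {X}))
    (g := (chi hf).toRingHom) (zar_isUnit hf)

omit [Algebra R L] [IsScalarTower R R[X] L] in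
theorem zarSigma_algebraMap {f : R[X]} (hf : f - 1 ∈ (maximalIdeal R).map (C : R →+* R[X])) (p : R[X]) :
    zarSigma (L := L) hf (algebraMap R[X] L p) = chi hf p :=
  IsLocalization.lift_eq _ _

theorem zar_main (ψ : R[X] →ₐ[R] L) (hψ : ψ X * algebraMap R[X] L X = 1) :
    (∀ I : Ideal R[X], I ⊔ (IsLocalRing.maximalIdeal R).map (algebraMap R R[X]) = ⊤ →
        (I.map ψ.toRingHom).comap ψ.toRingHom = I ∧
        I.map ψ.toRingHom ⊔ (IsLocalRing.maximalIdeal R).map (algebraMap R L) = ⊤ ∧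
        Function.Bijective (Ideal.quotientMap (I.map ψ.toRingHom) ψ.toRingHom Ideal.le_comap_map)) ∧
    (∀ J : Ideal L, J ⊔ (IsLocalRing.maximalIdeal R).map (algebraMap R L) = ⊤ →
        (J.comap ψ.toRingHom).map ψ.toRingHom = J ∧
        J.comap ψ.toRingHom ⊔ (IsLocalRing.maximalIdeal R).map (algebraMap R R[X]) = ⊤) := by
  have hσ : ∀ {f : R[X]} (hf : f - 1 ∈ (maximalIdeal R).map (C : R →+* R[X])) (a : R[X]),
      zarSigma (L := L) hf (ψ a) = Ideal.Quotient.mk _ a := by
    intro f hf a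
    refine sigma_psi hf ψ (algebraMap R[X] L X) hψ (zarSigma hf) ?_ ?_ a
    · intro r
      rw [IsScalarTower.algebraMap_apply R R[X] L, zarSigma_algebraMap, Polynomial.algebraMap_eq,
        ← Polynomial.algebraMap_eq, AlgHom.commutes]
    · rw [zarSigma_algebraMap]
  refine formal (maximalIdeal R) ψ ?_ ?_ ?_
  · intro f hf l
    -- the composite `L → R[s]/(f) → L/(ψ f)` is the projection
    let Q := L ⧸ Ideal.span {ψ f}
    let κ : (R[X] ⧸ Ideal.span {f}) →+* Q := Ideal.Quotient.lift (Ideal.span {f})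
      ((Ideal.Quotient.mk (Ideal.span {ψ f})).comp ψ.toRingHom) (by
        intro a ha
        obtain ⟨b, rfl⟩ := Ideal.mem_span_singleton.mp ha
        rw [map_mul]
        have : ((Ideal.Quotient.mk (Ideal.span {ψ f})).comp ψ.toRingHom) f = 0 :=
          Ideal.Quotient.eq_zero_iff_mem.mpr (Ideal.mem_span_singleton_self _)
        rw [this, zero_mul])
    have hκ : ∀ a, κ (Ideal.Quotient.mk _ a) = Ideal.Quotient.mk (Ideal.span {ψ f}) (ψ a) := fun a => rfl
    have h1 : κ.comp (zarSigma (L := L) hf) = Ideal.Quotient.mk (Ideal.span {ψ f}) := by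
      apply IsLocalization.ringHom_ext (Submonoid.closure ({f : R[X] | f.coeff 0 = 1} ∪ {X}))
      apply Polynomial.ringHom_ext'
      · ext r
        change κ (zarSigma (L := L) hf (algebraMap R[X] L (C r))) = Ideal.Quotient.mk _ (algebraMap R[X] L (C r))
        rw [zarSigma_algebraMap, ← Polynomial.algebraMap_eq, AlgHom.commutes]
        change κ (Ideal.Quotient.mk _ (algebraMap R R[X] r)) = _
        rw [hκ, AlgHom.commutes, ← IsScalarTower.algebraMap_apply]
      · change κ (zarSigma (L := L) hf (algebraMap R[X] L X)) = Ideal.Quotient.mk _ (algebraMap R[X] L X)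
        rw [zarSigma_algebraMap]
        have h2 := congrArg κ (chi_X hf)
        rw [map_mul, map_one, hκ] at h2
        have h3 := congrArg (Ideal.Quotient.mk (Ideal.span {ψ f})) hψ
        rw [map_mul, map_one] at h3
        calc κ (chi hf X) = κ (chi hf X) * (Ideal.Quotient.mk (Ideal.span {ψ f}) (ψ X) *
              Ideal.Quotient.mk (Ideal.span {ψ f}) (algebraMap R[X] L X)) := by rw [h3, mul_one]
          _ = (κ (chi hf X) * Ideal.Quotient.mk (Ideal.span {ψ f}) (ψ X)) *
              Ideal.Quotient.mk (Ideal.span {ψ f}) (algebraMap R[X] L X) := by ring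
          _ = _ := by rw [h2, one_mul]
    obtain ⟨a, ha⟩ := Ideal.Quotient.mk_surjective (zarSigma (L := L) hf l)
    have h2 : Ideal.Quotient.mk (Ideal.span {ψ f}) l = Ideal.Quotient.mk (Ideal.span {ψ f}) (ψ a) := by
      rw [← hκ, ha]
      exact (congrArg (fun g : L →+* Q => g l) h1).symm
    rw [Ideal.Quotient.eq, Ideal.mem_span_singleton] at h2
    obtain ⟨l', hl'⟩ := h2
    exact ⟨a, l', by rw [← hl']; ring⟩
  · intro f hf a l h
    exact H1'_of_sigma ψ (zarSigma (L := L) hf) (hσ hf) a l h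
  · intro J hJ
    obtain ⟨j, hj, μ, hμ, hjμ⟩ := Submodule.mem_sup.mp
      (show (1 : L) ∈ J ⊔ (maximalIdeal R).map (algebraMap R L) by rw [hJ]; trivial)
    have hmL : (maximalIdeal R).map (algebraMap R L) =
        ((maximalIdeal R).map (C : R →+* R[X])).map (algebraMap R[X] L) := by
      rw [Ideal.map_map, ← Polynomial.algebraMap_eq, ← IsScalarTower.algebraMap_eq]
    rw [hmL, IsLocalization.mem_map_algebraMap_iff
      (Submonoid.closure ({f : R[X] | f.coeff 0 = 1} ∪ {X}))] at hμ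
    obtain ⟨⟨⟨g, hg⟩, y⟩, hgy⟩ := hμ
    simp only at hgy
    obtain ⟨n, v, hv, hy⟩ := mem_closure y.2
    obtain ⟨P, w, hPmon, hPdeg, hPc, hw, q, hq⟩ := exists_weier n v g hv hg
    have hJ1 : algebraMap R[X] L (X ^ n * v - g) ∈ J := by
      have : algebraMap R[X] L (X ^ n * v - g) = j * algebraMap R[X] L (y : R[X]) := by
        rw [map_sub, ← hgy, ← hy, ← sub_eq_iff_eq_add.mpr hjμ.symm]
        ring
      rw [this]
      exact J.mul_mem_right _ hj
    have hwu : IsUnit (algebraMap R[X] L w) := by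
      obtain ⟨c, hc⟩ := hw
      have h1 : w = C (c : R) * (C (↑c⁻¹ : R) * w) := by
        rw [← mul_assoc, ← C_mul, Units.mul_inv, C_1, one_mul]
      rw [h1, map_mul]
      refine IsUnit.mul ((c.isUnit.map C).map _) ?_
      have h2 : C (↑c⁻¹ : R) * w ∈ Submonoid.closure ({f : R[X] | f.coeff 0 = 1} ∪ {X}) := by
        apply Submonoid.subset_closure
        left
        change (C (↑c⁻¹ : R) * w).coeff 0 = 1
        rw [mul_coeff_zero, coeff_C_zero, ← hc, Units.inv_mul]
      exact IsLocalization.map_units L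
        (⟨_, h2⟩ : Submonoid.closure ({f : R[X] | f.coeff 0 = 1} ∪ {X}))
    have hPJ : algebraMap R[X] L P ∈ J := by
      have h1 : algebraMap R[X] L w * algebraMap R[X] L P ∈ J := by
        rw [← map_mul, hq, map_mul]
        exact J.mul_mem_right _ hJ1
      obtain ⟨c, hc⟩ := hwu
      rw [← hc] at h1
      have h2 := J.mul_mem_left (↑c⁻¹ : L) h1
      rwa [← mul_assoc, Units.inv_mul, one_mul] at h2
    exact of_monic ψ (algebraMap R[X] L X) hψ J P hPmon (by rw [hPdeg]; exact hPc) (by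
      have : aeval (algebraMap R[X] L X) P = algebraMap R[X] L P := by
        rw [aeval_algebraMap_apply]
        simp
      rw [this]
      exact hPJ)

end Zariski

end K89.LaurentIdeals
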