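import Groth.Agent.CAlg.K89.LaurentProj
import Mathlib.RingTheory.PicardGroup

/-!
# Projective `R[1/t]`-modules which extend over `t = 0` after passing to `R((t))` are extended from `R`
-/

set_option autoImplicit false
universe u

open Polynomial K92.MatEquiv K92.Horrocks K89.LaurentProj
open scoped LaurentPolynomial TensorProduct

namespace K89.LaurentLine

section Glue

variable {A : Type*} [CommRing A] {m n : Type*} [Fintype m] [Fintype n] [DecidableEq m] [DecidableEq n]

theorem locLike_toLaurent : LocLike (toLaurent : A[X] →+* A[T;T⁻¹]) (Submonoid.powers (X : A[X])) :=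
  locLike_of_isLocalization (B' := A[T;T⁻¹]) (Submonoid.powers (X : A[X]))

theorem extended_of_glue (e : Matrix m m A[X]) (he : e * e = e) (f : Matrix n n A[X]) (hf : f * f = f)
    (U : Matrix m n A[T;T⁻¹]) (V : Matrix n m A[T;T⁻¹]) (q : A[X]) (hq : q.coeff 0 = 1)
    (heU : e.map (tli A) * U = U) (hUf : U * f.map (toLaurent : A[X] →+* A[T;T⁻¹]) = U)
    (hfV : f.map (toLaurent : A[X] →+* A[T;T⁻¹]) * V = V) (hVe : V * e.map (tli A) = V)
    (hUV : U * V = toLaurent q • e.map (tli A)) (hVU : V * U = toLaurent q • f.map (toLaurent : A[X] →+* A[T;T⁻¹])) :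
    MvN (E e 0) e := by
  let tl : A[X] →+* A[T;T⁻¹] := toLaurent
  obtain ⟨_, ⟨i₁, rfl⟩, h₁⟩ := (locLike_toLaurent (A := A)).exists_matrix U
  obtain ⟨_, ⟨i₂, rfl⟩, h₂⟩ := (locLike_toLaurent (A := A)).exists_matrix V
  obtain ⟨_, ⟨i₃, rfl⟩, h₃⟩ := (locLike_toLaurent (A := A)).exists_matrix (e.map (tli A))
  set N := i₁ + i₂ + i₃ with hN
  obtain ⟨U0, hU0⟩ := h₁ (X ^ N) (pow_dvd_pow _ (by omega))
  obtain ⟨V0, hV0⟩ := h₂ (X ^ N) (pow_dvd_pow _ (by omega))
  obtain ⟨Pe, hPe⟩ := h₃ (X ^ (N + N)) (pow_dvd_pow _ (by omega))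
  set P : A[T;T⁻¹] := tl (X ^ N) with hP
  have hPP : tl (X ^ (N + N)) = P * P := by rw [pow_add, map_mul]
  -- Bezout relation
  obtain ⟨w, hw⟩ : ∃ w, q = 1 - X * w := by
    have h1 : X ∣ (1 - q) := by
      rw [X_dvd_iff, coeff_sub, coeff_one_zero, hq, sub_self]
    obtain ⟨w, hw⟩ := h1
    exact ⟨w, by rw [← hw]; ring⟩
  set a : A[X] := w ^ (N + N) with ha
  set b : A[X] := ∑ i ∈ Finset.range (N + N), (X * w) ^ i with hb
  have hab : a * X ^ (N + N) + b * q = 1 := by
    have h1 := mul_neg_geom_sum (X * w) (N + N)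
    rw [hw, hb, ha, mul_comm _ (1 - X * w), h1, mul_pow]
    ring
  have habL : tl a * (P * P) + tl b * tl q = 1 := by
    rw [← hPP, ← map_mul, ← map_mul, ← map_add, hab, map_one]
  let E₁ : Matrix (m ⊕ n) (m ⊕ n) A[X] := Matrix.fromBlocks (a • Pe) (a • U0) (b • V0) ((b * q) • f)
  let e' := e.map (tli A)
  let f' := f.map tl
  have he' : e' * e' = e' := map_idem he _
  have hf' : f' * f' = f' := map_idem hf _
  have hE₁ : E₁.map tl = glueMat e' f' (P • U) (P • V) (P * P) (tl q) (tl a) (tl b) := by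
    rw [glueMat, Matrix.fromBlocks_map]
    congr 1
    · rw [map_smul_ringHom, mul_smul, ← hPP]
      congr 1
    · rw [map_smul_ringHom]
      congr 1
    · rw [map_smul_ringHom]
      congr 1
    · rw [map_smul_ringHom, map_mul]
  have c1 : e' * (P • U) = P • U := by rw [Matrix.mul_smul, heU]
  have c2 : (P • U) * f' = P • U := by rw [Matrix.smul_mul, hUf]
  have c3 : f' * (P • V) = P • V := by rw [Matrix.mul_smul, hfV]
  have c4 : (P • V) * e' = P • V := by rw [Matrix.smul_mul, hVe]
  have c5 : (P • U) * (P • V) = (P * P * tl q) • e' := by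
    rw [Matrix.smul_mul, Matrix.mul_smul, hUV, smul_smul, smul_smul]
  have c6 : (P • V) * (P • U) = (P * P * tl q) • f' := by
    rw [Matrix.smul_mul, Matrix.mul_smul, hVU, smul_smul, smul_smul]
  have hidem : E₁ * E₁ = E₁ := by
    refine map_inj tl Polynomial.toLaurent_injective ?_
    rw [Matrix.map_mul, hE₁]
    exact glueMat_idem he' hf' c1 c2 c3 c4 c5 c6 habL
  have hM : MvN (E₁.map tl) e' := by
    rw [hE₁]
    refine glueMat_left he' c1 c2 c3 c4 c5 c6 habL (LaurentPolynomial.T (-((N + N : ℕ) : ℤ))) ?_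
    rw [← hPP]
    change toLaurent (X ^ (N + N)) * _ = 1
    rw [Polynomial.toLaurent_X_pow, ← LaurentPolynomial.T_add]
    simp
  obtain ⟨u, v, huv, hvu⟩ := (hM.map (LaurentPolynomial.invert (R := A)).toRingEquiv.toRingHom).symm
  refine glue_global e he E₁ hidem u v ?_ ?_
  · rw [huv]
    ext1 i j
    exact LaurentPolynomial.involutive_invert (R := A) _
  · rw [hvu]
    ext1 i j
    rfl

theorem locLike_lift {T : Type*} [CommRing T] [Algebra A[X] T] [IsLocalization (XS A) T] (j : A[T;T⁻¹] →+* T)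
    (hj : ∀ p, j (toLaurent p) = algebraMap A[X] T p) (x : T) :
    ∃ q : A[X], q.coeff 0 = 1 ∧ ∃ y : A[T;T⁻¹], j y = j (toLaurent q) * x := by
  obtain ⟨s, hs, y, hy⟩ := (locLike_of_isLocalization (B' := T) (XS A)).surj x
  obtain ⟨k, q, hq, rfl⟩ := K88.ZarLaurent.mem_closure_iff'.mp hs
  refine ⟨q, hq, LaurentPolynomial.T (-(k : ℤ)) * toLaurent y, ?_⟩
  have h1 : j (LaurentPolynomial.T (-(k : ℤ))) * j (toLaurent (X ^ k)) = 1 := by
    rw [← map_mul, Polynomial.toLaurent_X_pow, ← LaurentPolynomial.T_add]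
    simp
  rw [map_mul, hj, hy, map_mul (algebraMap A[X] T), ← hj, ← hj, mul_assoc, ← mul_assoc, h1, one_mul]

theorem exists_matrix_lift {T : Type*} [CommRing T] [Algebra A[X] T] [IsLocalization (XS A) T] (j : A[T;T⁻¹] →+* T)
    (hj : ∀ p, j (toLaurent p) = algebraMap A[X] T p) {I J : Type*} [Fintype I] [Fintype J] (M : Matrix I J T) :
    ∃ q : A[X], q.coeff 0 = 1 ∧ ∃ N : Matrix I J A[T;T⁻¹], N.map j = j (toLaurent q) • M := by
  classical
  have hloc : LocLike j (Submonoid.map (toLaurent : A[X] →+* A[T;T⁻¹])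
      (⟨⟨{q : A[X] | q.coeff 0 = 1}, fun {a b} ha hb => by
        simp only [Set.mem_setOf_eq] at ha hb ⊢
        rw [mul_coeff_zero, ha, hb, one_mul]⟩, by simp⟩ : Submonoid A[X])) := by
    constructor
    · intro x
      obtain ⟨q, hq, y, hy⟩ := locLike_lift j hj x
      exact ⟨toLaurent q, ⟨q, hq, rfl⟩, y, hy⟩
    · intro y hy
      refine ⟨1, Submonoid.one_mem _, ?_⟩
      obtain ⟨n, f', hf'⟩ := LaurentPolynomial.exists_T_pow y
      have h1 : algebraMap A[X] T f' = 0 := by rw [← hj, hf', map_mul, hy, zero_mul]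
      have h2 : f' = 0 := (IsLocalization.injective T XS_le) (by rw [h1, map_zero])
      rw [h2, map_zero] at hf'
      have h3 : y * LaurentPolynomial.T n * LaurentPolynomial.T (-(n : ℤ)) = 0 := by rw [← hf', zero_mul]
      rw [mul_assoc, ← LaurentPolynomial.T_add] at h3
      simpa using h3
  obtain ⟨_, ⟨q, hq, rfl⟩, h1⟩ := hloc.exists_matrix M
  exact ⟨q, hq, h1 _ dvd_rfl⟩

theorem lift_injective {T : Type*} [CommRing T] [Algebra A[X] T] [IsLocalization (XS A) T] (j : A[T;T⁻¹] →+* T)
    (hj : ∀ p, j (toLaurent p) = algebraMap A[X] T p) : Function.Injective j := by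
  rw [injective_iff_map_eq_zero]
  intro y hy
  obtain ⟨n, f', hf'⟩ := LaurentPolynomial.exists_T_pow y
  have h1 : algebraMap A[X] T f' = 0 := by rw [← hj, hf', map_mul, hy, zero_mul]
  have h2 : f' = 0 := (IsLocalization.injective T XS_le) (by rw [h1, map_zero])
  rw [h2, map_zero] at hf'
  have h3 : y * LaurentPolynomial.T n * LaurentPolynomial.T (-(n : ℤ)) = 0 := by rw [← hf', zero_mul]
  rw [mul_assoc, ← LaurentPolynomial.T_add] at h3
  simpa using h3

theorem extended_of_loc (T : Type*) [CommRing T] [Algebra A[X] T] [IsLocalization (XS A) T] (j : A[T;T⁻¹] →+* T)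
    (hj : ∀ p, j (toLaurent p) = algebraMap A[X] T p) (e : Matrix m m A[X]) (he : e * e = e)
    (f : Matrix n n A[X]) (hf : f * f = f)
    (h : MvN ((e.map (tli A)).map j) ((f.map (toLaurent : A[X] →+* A[T;T⁻¹])).map j)) :
    MvN (E e 0) e := by
  have hinj := lift_injective j hj
  set eX := e.map (tli A) with heX
  set fX := f.map (toLaurent : A[X] →+* A[T;T⁻¹]) with hfX
  have heC : eX * eX = eX := map_idem he _
  have hfC : fX * fX = fX := map_idem hf _
  set eT := eX.map j with heT
  set fT := fX.map j with hfT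
  have heT2 : eT * eT = eT := map_idem heC _
  have hfT2 : fT * fT = fT := map_idem hfC _
  obtain ⟨u, v, huv, hvu⟩ := h
  -- normalization
  set u' := eT * u * fT with hu'
  set v' := fT * v * eT with hv'
  have hu1 : eT * u' = u' := by rw [hu', ← Matrix.mul_assoc, ← Matrix.mul_assoc, heT2]
  have hu2 : u' * fT = u' := by rw [hu', Matrix.mul_assoc, hfT2]
  have hv1 : fT * v' = v' := by rw [hv', ← Matrix.mul_assoc, ← Matrix.mul_assoc, hfT2]
  have hv2 : v' * eT = v' := by rw [hv', Matrix.mul_assoc, heT2]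
  have huv' : u' * v' = eT := by
    calc u' * v' = eT * u * (fT * fT) * v * eT := by rw [hu', hv']; simp only [Matrix.mul_assoc]
      _ = eT * (u * (v * u) * v) * eT := by rw [hfT2, hvu]; simp only [Matrix.mul_assoc]
      _ = eT * ((u * v) * (u * v)) * eT := by simp only [Matrix.mul_assoc]
      _ = eT := by rw [huv, heT2, heT2, heT2]
  have hvu' : v' * u' = fT := by
    calc v' * u' = fT * v * (eT * eT) * u * fT := by rw [hu', hv']; simp only [Matrix.mul_assoc]
      _ = fT * (v * (u * v) * u) * fT := by rw [heT2, huv]; simp only [Matrix.mul_assoc]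
      _ = fT * ((v * u) * (v * u)) * fT := by simp only [Matrix.mul_assoc]
      _ = fT := by rw [hvu, hfT2, hfT2, hfT2]
  obtain ⟨c, hc, U, hU⟩ := exists_matrix_lift j hj u'
  obtain ⟨d, hd, V, hV⟩ := exists_matrix_lift j hj v'
  refine extended_of_glue e he f hf U V (c * d) (by rw [mul_coeff_zero, hc, hd, one_mul]) ?_ ?_ ?_ ?_ ?_ ?_
  · refine map_inj j hinj ?_
    rw [Matrix.map_mul, hU, Matrix.mul_smul, hu1]
  · refine map_inj j hinj ?_
    rw [Matrix.map_mul, hU, Matrix.smul_mul, hu2]
  · refine map_inj j hinj ?_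
    rw [Matrix.map_mul, hV, Matrix.mul_smul, hv1]
  · refine map_inj j hinj ?_
    rw [Matrix.map_mul, hV, Matrix.smul_mul, hv2]
  · refine map_inj j hinj ?_
    rw [Matrix.map_mul, hU, hV, Matrix.smul_mul, Matrix.mul_smul, huv', smul_smul, map_smul_ringHom, map_mul, map_mul]
  · refine map_inj j hinj ?_
    rw [Matrix.map_mul, hU, hV, Matrix.smul_mul, Matrix.mul_smul, hvu', smul_smul, map_smul_ringHom, map_mul, map_mul,
      mul_comm (j (toLaurent c))]

end Glue

section Mod

/-- a split of the ring itself -/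
def splitOne (T : Type*) [CommRing T] : Split T (1 : Matrix (Fin 1) (Fin 1) T) where
  f := LinearMap.pi fun _ => LinearMap.id
  g := LinearMap.proj 0
  gf := fun x => rfl
  fg := fun v => by
    ext i
    rw [Matrix.one_mulVec, Subsingleton.elim i 0]
    rfl

theorem Split.finite {T : Type*} [CommRing T] {n : Type*} [Fintype n] {X : Type*} [AddCommGroup X] [Module T X]
    {e : Matrix n n T} (h : Split X e) : Module.Finite T X :=
  Module.Finite.of_surjective h.g (fun x => ⟨h.f x, h.gf x⟩)

theorem Split.projective {T : Type*} [CommRing T] {n : Type*} [Fintype n] {X : Type*} [AddCommGroup X] [Module T X]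
    {e : Matrix n n T} (h : Split X e) : Module.Projective T X :=
  Module.Projective.of_split h.f h.g (LinearMap.ext h.gf)

theorem mvn_of_equiv {T : Type*} [CommRing T] {m n : Type*} [Fintype m] [Fintype n] [DecidableEq m] [DecidableEq n]
    {X Y : Type*} [AddCommGroup X] [Module T X] [AddCommGroup Y] [Module T Y] {e : Matrix m m T} {e' : Matrix n n T}
    (h : Split X e) (h' : Split Y e') (φ : X ≃ₗ[T] Y) : MvN e e' := by
  obtain ⟨u, v, huv, hvu⟩ := semi_matrices (RingHom.id T) (fun x => rfl) h h' φ.toLinearMap φ.bijective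
  refine ⟨u, v, huv, ?_⟩
  rw [hvu]
  ext1 i j
  rfl

variable {R : Type u} [CommRing R]

/-- the map `R[t] → R((t))` -/
noncomputable def iota (R : Type u) [CommRing R] : R[X] →+* LaurentSeries R :=
  (HahnSeries.ofPowerSeries ℤ R).comp Polynomial.coeToPowerSeries.ringHom

theorem iota_X : iota R X = HahnSeries.single (1 : ℤ) (1 : R) := by
  change HahnSeries.ofPowerSeries ℤ R ((X : R[X]) : PowerSeries R) = _
  rw [Polynomial.coe_X, HahnSeries.ofPowerSeries_X]

theorem iota_C (r : R) : iota R (Polynomial.C r) = HahnSeries.C r := by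
  change HahnSeries.ofPowerSeries ℤ R ((Polynomial.C r : R[X]) : PowerSeries R) = _
  rw [Polynomial.coe_C, HahnSeries.ofPowerSeries_C]

theorem iota_isUnit (s : XS R) : IsUnit (iota R s) := by
  obtain ⟨s, hs⟩ := s
  obtain ⟨k, q, hq, rfl⟩ := K88.ZarLaurent.mem_closure_iff'.mp hs
  rw [map_mul, map_pow]
  refine IsUnit.mul (IsUnit.pow _ ?_) ?_
  · rw [iota_X]
    exact K88.LaurentBasic.isUnit_single _
  · apply K88.LaurentBasic.isUnit_ofPowerSeries
    have : PowerSeries.constantCoeff (Polynomial.coeToPowerSeries.ringHom q : PowerSeries R) = 1 := by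
      rw [Polynomial.coeToPowerSeries.ringHom_apply, ← PowerSeries.coeff_zero_eq_constantCoeff_apply,
        Polynomial.coeff_coe, hq]
    rw [this]
    exact isUnit_one

theorem free_of_free_aux [IsLocalRing R] (T : Type u) [CommRing T] [Algebra R[X] T] [IsLocalization (XS R) T]
    (L' : Type u) [CommRing L'] [Algebra R[X] L'] (eL : L' ≃+* LaurentSeries R)
    (heL : ∀ p, eL (algebraMap R[X] L' p) = Polynomial.eval₂RingHom (HahnSeries.C) (HahnSeries.single (-1 : ℤ) (1 : R)) p)
    (M : Type u) [AddCommGroup M] [Module R[X] M] [Module.Invertible R[X] M]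
    (h : Module.Free L' (L' ⊗[R[X]] M)) : Module.Free R[X] M := by
  let ιT : T →+* LaurentSeries R := IsLocalization.lift (iota_isUnit (R := R))
  let algTL : Algebra T L' := ((eL.symm : LaurentSeries R →+* L').comp ιT).toAlgebra
  have hTL : ∀ x : T, algebraMap T L' x = eL.symm (ιT x) := fun _ => rfl
  have hιT : ∀ p : R[X], ιT (algebraMap R[X] T p) = iota R p := fun p => IsLocalization.lift_eq _ p
  have hZ : K88.ZarApprox.ZarPair T L' (K88.ZarLaurent.powerSubring eL) (eL.symm (HahnSeries.single 1 1)) := by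
    refine K88.ZarLaurent.zarPair_of_localization (L := T) eL (fun p => ?_)
    rw [hTL, hιT]
    exact eL.apply_symm_apply _
  have hXu : ∀ y : Submonoid.powers (X : R[X]), IsUnit (algebraMap R[X] T y) := by
    rintro ⟨_, k, rfl⟩
    exact IsLocalization.map_units T (⟨X ^ k, (XS R).pow_mem (Submonoid.subset_closure (Or.inr rfl)) k⟩ : XS R)
  let j : R[T;T⁻¹] →+* T := IsLocalization.lift (M := Submonoid.powers (X : R[X])) (S := R[T;T⁻¹]) hXu
  have hj : ∀ p, j (toLaurent p) = algebraMap R[X] T p := fun p => by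
    rw [← LaurentPolynomial.algebraMap_eq_toLaurent]
    exact IsLocalization.lift_eq hXu p
  have hτ : ∀ p, algebraMap T L' (j (tli R p)) = algebraMap R[X] L' p := by
    intro p
    apply eL.injective
    rw [heL, hTL, RingEquiv.apply_symm_apply]
    have : ((ιT.comp j).comp (tli R)) = Polynomial.eval₂RingHom (HahnSeries.C) (HahnSeries.single (-1 : ℤ) (1 : R)) := by
      refine Polynomial.ringHom_ext (fun r => ?_) ?_
      · rw [RingHom.comp_apply, RingHom.comp_apply, tli_apply, Polynomial.toLaurent_C, LaurentPolynomial.invert_C,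
          ← Polynomial.toLaurent_C, hj, hιT, iota_C]
        simp
      · rw [RingHom.comp_apply, RingHom.comp_apply, tli_apply, Polynomial.toLaurent_X, LaurentPolynomial.invert_T]
        have h1 : ιT (j (LaurentPolynomial.T (-1))) * ιT (j (toLaurent X)) = 1 := by
          rw [← map_mul, ← map_mul, Polynomial.toLaurent_X, ← LaurentPolynomial.T_add]
          simp
        rw [hj, hιT, iota_X] at h1
        have h2 : HahnSeries.single (-1 : ℤ) (1 : R) * HahnSeries.single (1 : ℤ) (1 : R) = 1 := by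
          rw [HahnSeries.single_mul_single]; simp
        have h3 : IsUnit (HahnSeries.single (1 : ℤ) (1 : R)) := K88.LaurentBasic.isUnit_single _
        rw [coe_eval₂RingHom, eval₂_X]
        exact h3.mul_right_cancel (h1.trans h2.symm)
    exact RingHom.congr_fun this p
  obtain ⟨m, e, ⟨hM⟩⟩ := exists_split (R := R[X]) M
  have he := hM.idem
  let eT := (e.map (tli R)).map j
  have heT : eT * eT = eT := map_idem (map_idem he _) _
  let MT := LinearMap.range eT.mulVecLin
  let sMT : Split MT eT := splitRange eT heT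
  have hf : Module.Finite T MT := Split.finite sMT
  have hp : Module.Projective T MT := Split.projective sMT
  -- comparison over `L'`
  have hmat : eT.map (algebraMap T L') = e.map (algebraMap R[X] L') := by
    ext1 i k
    exact hτ _
  have hidL : e.map (algebraMap R[X] L') * e.map (algebraMap R[X] L') = e.map (algebraMap R[X] L') := map_idem he _
  let e1 : L' ⊗[T] MT ≃ₗ[L'] L' ⊗[R[X]] M := (sMT.baseChange (S := L')).equiv (hM.baseChange (S := L'))
    (e.map (algebraMap R[X] L')) (e.map (algebraMap R[X] L')) (by rw [hmat, hidL]) hidL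
  obtain ⟨e2⟩ := Module.Invertible.free_iff_linearEquiv.mp h
  let e3 : L' ⊗[T] MT ≃ₗ[L'] L' ⊗[T] T := e1.trans (e2.trans (TensorProduct.AlgebraTensorModule.rid T L' L').symm)
  obtain ⟨e4⟩ := hZ.nonempty_linearEquiv e3
  have hmvn : MvN eT (1 : Matrix (Fin 1) (Fin 1) T) := mvn_of_equiv sMT (splitOne T) e4
  have hext : MvN (E e 0) e := by
    refine extended_of_loc T j hj e he (1 : Matrix (Fin 1) (Fin 1) R[X]) (by rw [Matrix.one_mul]) ?_
    have h1 : ((1 : Matrix (Fin 1) (Fin 1) R[X]).map (toLaurent : R[X] →+* R[T;T⁻¹])).map j = 1 := by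
      rw [map_one_ringHom, map_one_ringHom]
    rw [h1]
    exact hmvn
  let e₀ : Matrix (Fin m) (Fin m) R := e.map (evalRingHom 0)
  have he₀ : e₀ * e₀ = e₀ := map_idem hM.idem _
  have h2 : E e 0 = e₀.map (algebraMap R R[X]) := by
    ext1 i j
    rw [E, Matrix.map_apply, scaleHom_apply, Polynomial.C_0, zero_mul]
    simp [e₀, comp_zero]
  rw [h2] at hext
  obtain ⟨u', v', h3, h4⟩ := hext
  let s0 := splitRange e₀ he₀
  have hf0 : Module.Finite R (LinearMap.range e₀.mulVecLin) := Split.finite s0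
  have hp0 : Module.Projective R (LinearMap.range e₀.mulVecLin) := Split.projective s0
  have hfree0 : Module.Free R (LinearMap.range e₀.mulVecLin) := Module.free_of_flat_of_isLocalRing
  exact Module.Free.of_equiv (hM.equiv (s0.baseChange (S := R[X])) v' u' h4 h3).symm

theorem free_of_free [IsLocalRing R]
    (L' : Type u) [CommRing L'] [Algebra R[X] L'] (eL : L' ≃+* LaurentSeries R)
    (heL : ∀ p, eL (algebraMap R[X] L' p) = Polynomial.eval₂RingHom (HahnSeries.C) (HahnSeries.single (-1 : ℤ) (1 : R)) p)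
    (M : Type u) [AddCommGroup M] [Module R[X] M] [Module.Invertible R[X] M]
    (h : Module.Free L' (L' ⊗[R[X]] M)) : Module.Free R[X] M :=
  free_of_free_aux (Localization (XS R)) L' eL heL M h

end Mod

end K89.LaurentLine
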