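import Groth.Agent.CAlg.K92.HorrocksFinal
import Groth.Agent.CAlg.K88.ZarLaurent
import Mathlib.LinearAlgebra.TensorProduct.Tower
import Mathlib.Data.Matrix.ColumnRowPartitioned

/-!
# Projective modules becoming isomorphic over Laurent series

`mvn_of_glue`: idempotents `e, f` over `A` with `U V = t^N q e`, `V U = t^N q f` over `A[t]`, `q(0) = 1`, are equivalent.
`mvn_of_laurent` : idempotent matrices over `A` equivalent over the localization `A[t][1/t, (1+tA[t])⁻¹]` are equivalent.
-/

set_option autoImplicit false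
universe u

open Polynomial K92.MatEquiv K92.Horrocks
open scoped LaurentPolynomial TensorProduct

namespace K89.LaurentProj

section Blocks

variable {S : Type*} [CommRing S] {m n : Type*} [Fintype m] [Fintype n]
  (e : Matrix m m S) (f : Matrix n n S) (U : Matrix m n S) (V : Matrix n m S) (p q a b : S)

/-- the glued idempotent -/
def glueMat : Matrix (m ⊕ n) (m ⊕ n) S := Matrix.fromBlocks ((a * p) • e) (a • U) (b • V) ((b * q) • f)

variable {e f U V p q a b}
variable (he : e * e = e) (hf : f * f = f) (heU : e * U = U) (hUf : U * f = U) (hfV : f * V = V) (hVe : V * e = V)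
  (hUV : U * V = (p * q) • e) (hVU : V * U = (p * q) • f) (hab : a * p + b * q = 1)

include he hf heU hUf hfV hVe hUV hVU hab

theorem glueMat_idem : glueMat e f U V p q a b * glueMat e f U V p q a b = glueMat e f U V p q a b := by
  rw [glueMat, Matrix.fromBlocks_multiply]
  congr 1
  · rw [Matrix.smul_mul, Matrix.mul_smul, he, Matrix.smul_mul, Matrix.mul_smul, hUV]
    simp only [smul_smul, ← add_smul]
    congr 1
    linear_combination (a * p) * hab
  · rw [Matrix.smul_mul, Matrix.mul_smul, heU, Matrix.smul_mul, Matrix.mul_smul, hUf]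
    simp only [smul_smul, ← add_smul]
    congr 1
    linear_combination a * hab
  · rw [Matrix.smul_mul, Matrix.mul_smul, hVe, Matrix.smul_mul, Matrix.mul_smul, hfV]
    simp only [smul_smul, ← add_smul]
    congr 1
    linear_combination b * hab
  · rw [Matrix.smul_mul, Matrix.mul_smul, hVU, Matrix.smul_mul, Matrix.mul_smul, hf]
    simp only [smul_smul, ← add_smul]
    congr 1
    linear_combination (b * q) * hab

omit hf in
theorem glueMat_left (p' : S) (hp : p * p' = 1) : MvN (glueMat e f U V p q a b) e := by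
  refine ⟨Matrix.fromRows ((a * p) • e) (b • V), Matrix.fromCols e (p' • U), ?_, ?_⟩
  · rw [Matrix.fromRows_mul_fromCols, glueMat]
    congr 1
    · rw [Matrix.smul_mul, he]
    · rw [Matrix.smul_mul, Matrix.mul_smul, heU, smul_smul]
      congr 1
      linear_combination a * hp
    · rw [Matrix.smul_mul, hVe]
    · rw [Matrix.smul_mul, Matrix.mul_smul, hVU, smul_smul, smul_smul]
      congr 1
      linear_combination (b * q) * hp
  · rw [Matrix.fromCols_mul_fromRows, Matrix.mul_smul, he, Matrix.smul_mul, Matrix.mul_smul, hUV]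
    simp only [smul_smul, ← add_smul]
    have : a * p + p' * (b * (p * q)) = 1 := by linear_combination hab + (b * q) * hp
    rw [this, one_smul]

omit he hfV hVe in
theorem glueMat_right (hfV : f * V = V) (hUf : U * f = U) (q' : S) (hq : q * q' = 1) : MvN (glueMat e f U V p q a b) f := by
  refine ⟨Matrix.fromRows (a • U) ((b * q) • f), Matrix.fromCols (q' • V) f, ?_, ?_⟩
  · rw [Matrix.fromRows_mul_fromCols, glueMat]
    congr 1
    · rw [Matrix.smul_mul, Matrix.mul_smul, hUV, smul_smul, smul_smul]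
      congr 1
      linear_combination (a * p) * hq
    · rw [Matrix.smul_mul, hUf]
    · rw [Matrix.smul_mul, Matrix.mul_smul, hfV, smul_smul]
      congr 1
      linear_combination b * hq
    · rw [Matrix.smul_mul, hf]
  · rw [Matrix.fromCols_mul_fromRows, Matrix.smul_mul, Matrix.mul_smul, hVU, Matrix.mul_smul, hf]
    simp only [smul_smul, ← add_smul]
    have : q' * (a * (p * q)) + b * q = 1 := by linear_combination hab + (a * p) * hq
    rw [this, one_smul]

end Blocks

theorem glueMat_map {S T : Type*} [CommRing S] [CommRing T] {m n : Type*} (e : Matrix m m S) (f : Matrix n n S)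
    (U : Matrix m n S) (V : Matrix n m S) (p q a b : S) (φ : S →+* T) :
    (glueMat e f U V p q a b).map φ =
      glueMat (e.map φ) (f.map φ) (U.map φ) (V.map φ) (φ p) (φ q) (φ a) (φ b) := by
  rw [glueMat, glueMat, Matrix.fromBlocks_map]
  congr 1 <;> simp only [map_smul_ringHom, map_mul]

section Glue

variable {A : Type*} [CommRing A] {m n : Type*} [Fintype m] [Fintype n] [DecidableEq m] [DecidableEq n]

theorem mvn_of_glue (e : Matrix m m A) (f : Matrix n n A) (he : e * e = e) (hf : f * f = f)
    (U : Matrix m n A[X]) (V : Matrix n m A[X]) (N : ℕ) (q : A[X]) (hq : q.coeff 0 = 1)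
    (heU : e.map (C : A →+* A[X]) * U = U) (hUf : U * f.map (C : A →+* A[X]) = U)
    (hfV : f.map (C : A →+* A[X]) * V = V) (hVe : V * e.map (C : A →+* A[X]) = V)
    (hUV : U * V = (X ^ N * q) • e.map (C : A →+* A[X])) (hVU : V * U = (X ^ N * q) • f.map (C : A →+* A[X])) :
    MvN e f := by
  -- Bezout relation
  obtain ⟨w, hw⟩ : ∃ w, q = 1 - X * w := by
    have h1 : X ∣ (1 - q) := by
      rw [X_dvd_iff, coeff_sub, coeff_one_zero, hq, sub_self]
    obtain ⟨w, hw⟩ := h1
    exact ⟨w, by rw [← hw]; ring⟩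
  set a : A[X] := w ^ N with ha
  set b : A[X] := ∑ i ∈ Finset.range N, (X * w) ^ i with hb
  have hab : a * X ^ N + b * q = 1 := by
    have h1 := mul_neg_geom_sum (X * w) N
    rw [hw, hb, ha, mul_comm _ (1 - X * w), h1, mul_pow]
    ring
  let E₀ := glueMat (e.map (C : A →+* A[X])) (f.map (C : A →+* A[X])) U V (X ^ N) q a b
  have heC : e.map (C : A →+* A[X]) * e.map (C : A →+* A[X]) = e.map (C : A →+* A[X]) := map_idem he _
  have hfC : f.map (C : A →+* A[X]) * f.map (C : A →+* A[X]) = f.map (C : A →+* A[X]) := map_idem hf _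
  have hE₀ : E₀ * E₀ = E₀ := glueMat_idem heC hfC heU hUf hfV hVe hUV hVU hab
  -- generic specialization
  have hsp : ∀ {T : Type _} [CommRing T] (φ : A[X] →+* T),
      (e.map (C : A →+* A[X])).map φ * (U.map φ) = U.map φ ∧ U.map φ * (f.map (C : A →+* A[X])).map φ = U.map φ ∧
      (f.map (C : A →+* A[X])).map φ * (V.map φ) = V.map φ ∧ V.map φ * (e.map (C : A →+* A[X])).map φ = V.map φ ∧
      U.map φ * V.map φ = (φ (X ^ N) * φ q) • (e.map (C : A →+* A[X])).map φ ∧
      V.map φ * U.map φ = (φ (X ^ N) * φ q) • (f.map (C : A →+* A[X])).map φ ∧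
      φ a * φ (X ^ N) + φ b * φ q = 1 := by
    intro T _ φ
    refine ⟨?_, ?_, ?_, ?_, ?_, ?_, ?_⟩
    · rw [← Matrix.map_mul, heU]
    · rw [← Matrix.map_mul, hUf]
    · rw [← Matrix.map_mul, hfV]
    · rw [← Matrix.map_mul, hVe]
    · rw [← Matrix.map_mul, hUV, map_smul_ringHom, map_mul]
    · rw [← Matrix.map_mul, hVU, map_smul_ringHom, map_mul]
    · rw [← map_mul, ← map_mul, ← map_add, hab, map_one]
  -- extended by Horrocks
  have h1 : MvN (E E₀ 0) E₀ := by
    have h2 : MvN (E₀.map (Polynomial.toLaurent : A[X] →+* A[T;T⁻¹]))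
        ((e.map (C : A →+* A[X])).map (Polynomial.toLaurent : A[X] →+* A[T;T⁻¹])) := by
      rw [glueMat_map]
      obtain ⟨h3, h4, h5, h6, h7, h8, h9⟩ := hsp (Polynomial.toLaurent : A[X] →+* A[T;T⁻¹])
      refine glueMat_left (map_idem heC _) h3 h4 h5 h6 h7 h8 h9 (LaurentPolynomial.T (-(N : ℤ))) ?_
      rw [Polynomial.toLaurent_X_pow, ← LaurentPolynomial.T_add]
      simp
    obtain ⟨u, v, huv, hvu⟩ := h2
    refine glue_global E₀ hE₀ (e.map (C : A →+* A[X])) heC u v huv ?_
    rw [hvu]
    ext1 i j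
    simp only [Matrix.map_apply, tli_apply]
    rw [Polynomial.toLaurent_C]
    simp
  have h2 : MvN (E₀.map (evalRingHom (0 : A))) (E₀.map (evalRingHom (1 : A))) := by
    have h3 := h1.map (evalRingHom (1 : A))
    have h4 : (E E₀ 0).map (evalRingHom (1 : A)) = E₀.map (evalRingHom (0 : A)) := by
      ext1 i j
      rw [E, Matrix.map_apply, Matrix.map_apply, Matrix.map_apply, scaleHom_apply, Polynomial.C_0, zero_mul]
      simp
    rw [h4] at h3
    exact h3
  have hCe : ∀ x : A, (e.map (C : A →+* A[X])).map (evalRingHom x) = e := by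
    intro x; ext1 i j; simp
  have hCf : ∀ x : A, (f.map (C : A →+* A[X])).map (evalRingHom x) = f := by
    intro x; ext1 i j; simp
  have h3 : MvN (E₀.map (evalRingHom (1 : A))) e := by
    rw [glueMat_map]
    obtain ⟨h3, h4, h5, h6, h7, h8, h9⟩ := hsp (evalRingHom (1 : A))
    have h10 := glueMat_left (map_idem heC _) h3 h4 h5 h6 h7 h8 h9 1 (by simp)
    rw [hCe] at h10 ⊢
    exact h10
  have h4 : MvN (E₀.map (evalRingHom (0 : A))) f := by
    rw [glueMat_map]
    obtain ⟨h3, h4, h5, h6, h7, h8, h9⟩ := hsp (evalRingHom (0 : A))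
    have h10 := glueMat_right (map_idem hfC _) h3 h4 h7 h8 h9 h5 h4 1 (by
      rw [mul_one, coe_evalRingHom, ← coeff_zero_eq_eval_zero, hq])
    rw [hCf] at h10 ⊢
    exact h10
  have hE0 : E₀.map (evalRingHom (0 : A)) * E₀.map (evalRingHom (0 : A)) = E₀.map (evalRingHom (0 : A)) := map_idem hE₀ _
  exact (h3.symm.trans he hE0 h2.symm).trans he hf h4

/-- the multiplicative set generated by `X` and the polynomials with constant term one. -/
noncomputable abbrev XS (A : Type*) [CommRing A] : Submonoid A[X] := Submonoid.closure ({f : A[X] | f.coeff 0 = 1} ∪ {X})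

theorem mem_nonZeroDivisors_of_coeff {q : A[X]} (hq : q.coeff 0 = 1) : q ∈ nonZeroDivisors A[X] := by
  rw [mem_nonZeroDivisors_iff_right]
  intro g hg
  have h1 : IsUnit (q : PowerSeries A) := by
    rw [PowerSeries.isUnit_iff_constantCoeff]
    have : PowerSeries.constantCoeff (q : PowerSeries A) = 1 := by
      rw [← PowerSeries.coeff_zero_eq_constantCoeff_apply, Polynomial.coeff_coe, hq]
    rw [this]
    exact isUnit_one
  have h2 : (g : PowerSeries A) * (q : PowerSeries A) = 0 := by
    rw [← Polynomial.coe_mul, hg, Polynomial.coe_zero]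
  have h3 : (g : PowerSeries A) = 0 := (h1.mul_left_eq_zero).mp h2
  exact_mod_cast h3

theorem XS_le : XS A ≤ nonZeroDivisors A[X] := by
  rw [Submonoid.closure_le]
  rintro q (hq | hq)
  · exact mem_nonZeroDivisors_of_coeff hq
  · rw [Set.mem_singleton_iff] at hq
    subst hq
    exact (monic_X (R := A)).mem_nonZeroDivisors

theorem map_inj {S T : Type*} [CommRing S] [CommRing T] (φ : S →+* T) (hφ : Function.Injective φ) {I J : Type*}
    {M M' : Matrix I J S} (h : M.map φ = M'.map φ) : M = M' := Matrix.map_injective hφ h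

theorem mvn_of_loc (T : Type*) [CommRing T] [Algebra A[X] T] [IsLocalization (XS A) T]
    (e : Matrix m m A) (f : Matrix n n A) (he : e * e = e) (hf : f * f = f)
    (h : MvN ((e.map (C : A →+* A[X])).map (algebraMap A[X] T)) ((f.map (C : A →+* A[X])).map (algebraMap A[X] T))) :
    MvN e f := by
  let φ := algebraMap A[X] T
  have hφ : Function.Injective φ := IsLocalization.injective T XS_le
  set eX := e.map (C : A →+* A[X]) with heX
  set fX := f.map (C : A →+* A[X]) with hfX
  have heC : eX * eX = eX := map_idem he _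
  have hfC : fX * fX = fX := map_idem hf _
  set eT := eX.map φ with heT
  set fT := fX.map φ with hfT
  have heT2 : eT * eT = eT := map_idem heC _
  have hfT2 : fT * fT = fT := map_idem hfC _
  obtain ⟨u, v, huv, hvu⟩ := h
  change u * v = eT at huv
  change v * u = fT at hvu
  -- normalization
  set u' := eT * u * fT with hu'
  set v' := fT * v * eT with hv'
  have hu1 : eT * u' = u' := by rw [hu', ← Matrix.mul_assoc, ← Matrix.mul_assoc, heT2]
  have hu2 : u' * fT = u' := by rw [hu', Matrix.mul_assoc, hfT2]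
  have hv1 : fT * v' = v' := by rw [hv', ← Matrix.mul_assoc, ← Matrix.mul_assoc, hfT2]
  have hv2 : v' * eT = v' := by rw [hv', Matrix.mul_assoc, heT2]
  have huv' : u' * v' = eT := by
    calc u' * v' = eT * u * (fT * fT) * v * eT := by rw [hu', hv']; simp only [Matrix.mul_assoc]
      _ = eT * (u * (v * u) * v) * eT := by rw [hfT2, hvu]; simp only [Matrix.mul_assoc]
      _ = eT * ((u * v) * (u * v)) * eT := by simp only [Matrix.mul_assoc]
      _ = eT := by rw [huv, heT2, heT2, heT2]
  have hvu' : v' * u' = fT := by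
    calc v' * u' = fT * v * (eT * eT) * u * fT := by rw [hu', hv']; simp only [Matrix.mul_assoc]
      _ = fT * (v * (u * v) * u) * fT := by rw [heT2, huv]; simp only [Matrix.mul_assoc]
      _ = fT * ((v * u) * (v * u)) * fT := by simp only [Matrix.mul_assoc]
      _ = fT := by rw [hvu, hfT2, hfT2, hfT2]
  have hloc : LocLike φ (XS A) := locLike_of_isLocalization (XS A)
  obtain ⟨c, hc, hcU⟩ := hloc.exists_matrix u'
  obtain ⟨U, hU⟩ := hcU c dvd_rfl
  obtain ⟨d, hd, hdV⟩ := hloc.exists_matrix v'
  obtain ⟨V, hV⟩ := hdV d dvd_rfl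
  obtain ⟨N, q, hq, hcd⟩ := K88.ZarLaurent.mem_closure_iff'.mp ((XS A).mul_mem hc hd)
  refine mvn_of_glue e f he hf U V N q hq ?_ ?_ ?_ ?_ ?_ ?_
  · refine map_inj φ hφ ?_
    rw [Matrix.map_mul, hU, Matrix.mul_smul, hu1]
  · refine map_inj φ hφ ?_
    rw [Matrix.map_mul, hU, Matrix.smul_mul, hu2]
  · refine map_inj φ hφ ?_
    rw [Matrix.map_mul, hV, Matrix.mul_smul, hv1]
  · refine map_inj φ hφ ?_
    rw [Matrix.map_mul, hV, Matrix.smul_mul, hv2]
  · refine map_inj φ hφ ?_
    rw [Matrix.map_mul, hU, hV, Matrix.smul_mul, Matrix.mul_smul, huv', smul_smul, ← hcd, map_smul_ringHom, map_mul]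
  · refine map_inj φ hφ ?_
    rw [Matrix.map_mul, hU, hV, Matrix.smul_mul, Matrix.mul_smul, hvu', smul_smul, ← hcd, map_smul_ringHom, map_mul,
      mul_comm (φ d)]

end Glue

section Mod

variable {R : Type u} [CommRing R] (L : Type u) [CommRing L] [Algebra R L] (eL : L ≃ₐ[R] LaurentSeries R)
    (M N : Type u) [AddCommGroup M] [Module R M] [Module.Finite R M] [Module.Projective R M]
    [AddCommGroup N] [Module R N] [Module.Finite R N] [Module.Projective R N]

include eL in
theorem nonempty_linearEquiv_aux (T : Type u) [CommRing T] [Algebra R[X] T] [Algebra R T] [IsScalarTower R R[X] T]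
    [IsLocalization (XS R) T] (e : L ⊗[R] M ≃ₗ[L] L ⊗[R] N) : Nonempty (M ≃ₗ[R] N) := by
  -- the map `T → L`
  let ι : R[X] →+* LaurentSeries R := (HahnSeries.ofPowerSeries ℤ R).comp Polynomial.coeToPowerSeries.ringHom
  have hιu : ∀ s : XS R, IsUnit (ι s) := by
    rintro ⟨s, hs⟩
    obtain ⟨k, q, hq, rfl⟩ := K88.ZarLaurent.mem_closure_iff'.mp hs
    rw [map_mul, map_pow]
    refine IsUnit.mul (IsUnit.pow _ ?_) ?_
    · have : ι X = HahnSeries.single (1 : ℤ) (1 : R) := by
        change HahnSeries.ofPowerSeries ℤ R ((X : R[X]) : PowerSeries R) = _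
        rw [Polynomial.coe_X, HahnSeries.ofPowerSeries_X]
      rw [this]
      exact K88.LaurentBasic.isUnit_single _
    · apply K88.LaurentBasic.isUnit_ofPowerSeries
      have : PowerSeries.constantCoeff (Polynomial.coeToPowerSeries.ringHom q : PowerSeries R) = 1 := by
        rw [Polynomial.coeToPowerSeries.ringHom_apply, ← PowerSeries.coeff_zero_eq_constantCoeff_apply,
          Polynomial.coeff_coe, hq]
      rw [this]
      exact isUnit_one
  let ιT : T →+* LaurentSeries R := IsLocalization.lift hιu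
  let algTL : Algebra T L := ((eL.symm : LaurentSeries R →+* L).comp ιT).toAlgebra
  have hTL : ∀ x : T, algebraMap T L x = eL.symm (ιT x) := fun _ => rfl
  have hιT : ∀ p : R[X], ιT (algebraMap R[X] T p) = ι p := fun p => IsLocalization.lift_eq hιu p
  have : IsScalarTower R T L := by
    refine IsScalarTower.of_algebraMap_eq fun r => ?_
    have h1 : ι (algebraMap R R[X] r) = algebraMap R (LaurentSeries R) r := by
      change HahnSeries.ofPowerSeries ℤ R ((Polynomial.C r : R[X]) : PowerSeries R) = _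
      rw [Polynomial.coe_C]
      rfl
    rw [hTL, IsScalarTower.algebraMap_apply R R[X] T, hιT, h1, AlgEquiv.commutes]
  have hZ : K88.ZarApprox.ZarPair T L (K88.ZarLaurent.powerSubring (eL : L ≃+* LaurentSeries R))
      ((eL : L ≃+* LaurentSeries R).symm (HahnSeries.single 1 1)) := by
    refine K88.ZarLaurent.zarPair_of_localization (L := T) (eL : L ≃+* LaurentSeries R) (fun p => ?_)
    rw [hTL, hιT]
    exact eL.apply_symm_apply _
  let e1 : L ⊗[T] (T ⊗[R] M) ≃ₗ[L] L ⊗[T] (T ⊗[R] N) :=
    (TensorProduct.AlgebraTensorModule.cancelBaseChange R T L L M).trans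
      (e.trans (TensorProduct.AlgebraTensorModule.cancelBaseChange R T L L N).symm)
  obtain ⟨e2⟩ := hZ.nonempty_linearEquiv e1
  obtain ⟨m, eM, ⟨hM⟩⟩ := exists_split (R := R) M
  obtain ⟨n, eN, ⟨hN⟩⟩ := exists_split (R := R) N
  obtain ⟨u, v, huv, hvu⟩ := semi_matrices (RingHom.id T) (fun x => rfl) (hM.baseChange (S := T))
    (hN.baseChange (S := T)) e2.toLinearMap e2.bijective
  have hkey : MvN eM eN := by
    refine mvn_of_loc T eM eN hM.idem hN.idem ⟨u, v, ?_, ?_⟩
    · rw [huv]
      ext1 i j
      simp only [Matrix.map_apply]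
      exact IsScalarTower.algebraMap_apply R R[X] T _
    · rw [hvu]
      ext1 i j
      simp only [Matrix.map_apply]
      exact IsScalarTower.algebraMap_apply R R[X] T _
  obtain ⟨u', v', h3, h4⟩ := hkey
  exact ⟨hM.equiv hN u' v' h3 h4⟩

include eL in
theorem nonempty_linearEquiv (e : L ⊗[R] M ≃ₗ[L] L ⊗[R] N) : Nonempty (M ≃ₗ[R] N) :=
  nonempty_linearEquiv_aux L eL M N (Localization (XS R)) e

end Mod

end K89.LaurentProj
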