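import Groth.Agent.CAlg.K89.LaurentHens
import Groth.Agent.Etalg.PairHens2
import Groth.Agent.Hensel.LocalSplit
import Groth.Agent.Flat2B.QuasiFiniteSlice
import Groth.Agent.S0525
import Groth.Agent.S0526
import Groth.Agent.S0528

/-!
# Weierstrass preparation in the henselization of `R[t]` along `(t)`

Local finiteness of `C/b` for a pointed étale `R[t]`-algebra `C` over a henselian local ring `R`.
-/

set_option autoImplicit false
universe u

open Polynomial IsLocalRing

namespace K89.WeierHens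

open K89.WeierPoly K89.LaurentIdeals K89.LaurentHens

section Piece

variable {R : Type u} [CommRing R] [HenselianLocalRing R] {C : Type u} [CommRing C] [Algebra R C]
  [Algebra.FiniteType R C] (x : C) (ε : C →+* ResidueField R)
  (hε : ∀ r, ε (algebraMap R C r) = residue R r) (hx : ε x = 0)
  (hn : ∀ c, ε c = 0 → ∃ e, ε e ≠ 0 ∧ c * e ∈ Ideal.span {x} ⊔ (maximalIdeal R).map (algebraMap R C))

include hε hx hn

/-- order of vanishing in the closed fibre -/
theorem exists_order (b : C) (hb : ∀ s, ε s ≠ 0 → s * b ∉ (maximalIdeal R).map (algebraMap R C)) :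
    ∃ (n : ℕ) (s c : C), ε s ≠ 0 ∧ ε c ≠ 0 ∧ s * b - x ^ n * c ∈ (maximalIdeal R).map (algebraMap R C) := by
  let mC := (maximalIdeal R).map (algebraMap R C)
  let Cb := C ⧸ mC
  have hmε : ∀ a ∈ mC, ε a = 0 := by
    intro a ha
    have : mC ≤ RingHom.ker ε := by
      rw [Ideal.map_le_iff_le_comap]
      intro r hr
      rw [Ideal.mem_comap, RingHom.mem_ker, hε, residue_eq_zero_iff]
      exact hr
    exact this ha
  let εb : Cb →+* ResidueField R := Ideal.Quotient.lift mC ε hmε
  have hεb : ∀ c, εb (Ideal.Quotient.mk mC c) = ε c := fun c => rfl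
  let nb : Ideal Cb := RingHom.ker εb
  have hnb : nb.IsPrime := RingHom.ker_isPrime εb
  let E := Localization.AtPrime nb
  have hnoeC : IsNoetherianRing Cb := by
    letI : Field (R ⧸ maximalIdeal R) := Ideal.Quotient.field _
    haveI : Algebra.FiniteType R Cb := inferInstance
    haveI : Algebra.FiniteType (R ⧸ maximalIdeal R) Cb :=
      Algebra.FiniteType.of_restrictScalars_finiteType R (R ⧸ maximalIdeal R) Cb
    exact Algebra.FiniteType.isNoetherianRing (R ⧸ maximalIdeal R) Cb
  have hnoeE : IsNoetherianRing E := IsLocalization.isNoetherianRing nb.primeCompl E hnoeC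
  let x' : E := algebraMap Cb E (Ideal.Quotient.mk mC x)
  have hunit : ∀ c : C, ε c ≠ 0 → IsUnit (algebraMap Cb E (Ideal.Quotient.mk mC c)) := by
    intro c hc
    refine IsLocalization.map_units E (⟨Ideal.Quotient.mk mC c, ?_⟩ : nb.primeCompl)
    exact hc
  have hmax : maximalIdeal E = Ideal.span {x'} := by
    apply le_antisymm
    · rw [← Localization.AtPrime.map_eq_maximalIdeal, Ideal.map_le_iff_le_comap]
      intro c hc
      obtain ⟨c, rfl⟩ := Ideal.Quotient.mk_surjective c
      obtain ⟨e, he, hce⟩ := hn c hc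
      rw [Ideal.mem_comap]
      refine (Ideal.mul_unit_mem_iff_mem _ (hunit e he)).mp ?_
      rw [← map_mul, ← map_mul]
      obtain ⟨a, ha, μ, hμ, haμ⟩ := Submodule.mem_sup.mp hce
      obtain ⟨d, rfl⟩ := Ideal.mem_span_singleton.mp ha
      rw [← haμ, map_add, Ideal.Quotient.eq_zero_iff_mem.mpr hμ, add_zero, map_mul, map_mul]
      exact Ideal.mul_mem_right _ _ (Ideal.mem_span_singleton_self _)
    · rw [Ideal.span_le, Set.singleton_subset_iff, SetLike.mem_coe, ← Localization.AtPrime.map_eq_maximalIdeal]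
      exact Ideal.mem_map_of_mem _ hx
  let b' : E := algebraMap Cb E (Ideal.Quotient.mk mC b)
  have hb' : b' ≠ 0 := by
    intro h0
    obtain ⟨⟨s, hs⟩, hsb⟩ := (IsLocalization.map_eq_zero_iff nb.primeCompl E _).mp h0
    obtain ⟨s, rfl⟩ := Ideal.Quotient.mk_surjective s
    refine hb s hs ?_
    rw [← Ideal.Quotient.eq_zero_iff_mem, map_mul]
    exact hsb
  have hex : ∃ j, b' ∉ maximalIdeal E ^ j := by
    by_contra hcon
    push Not at hcon
    apply hb'
    have h1 : b' ∈ (⨅ j : ℕ, maximalIdeal E ^ j : Ideal E) := by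
      rw [Ideal.mem_iInf]; exact hcon
    rw [Ideal.iInf_pow_eq_bot_of_isLocalRing _ Ideal.IsPrime.ne_top'] at h1
    exact h1
  classical
  let j := Nat.find hex
  have hj : b' ∉ maximalIdeal E ^ j := Nat.find_spec hex
  have hj0 : j ≠ 0 := by
    intro h0
    apply hj
    rw [h0, pow_zero, Ideal.one_eq_top]
    trivial
  obtain ⟨n, hnj⟩ := Nat.exists_eq_succ_of_ne_zero hj0
  have hbn : b' ∈ maximalIdeal E ^ n := by
    by_contra h
    have := Nat.find_min' hex h
    change j ≤ n at this
    omega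
  rw [hmax, Ideal.span_singleton_pow] at hbn
  obtain ⟨z, hz⟩ := Ideal.mem_span_singleton.mp hbn
  have hzu : IsUnit z := by
    by_contra hzn
    have hzm : z ∈ maximalIdeal E := hzn
    apply hj
    rw [hnj, pow_succ, hz, hmax, Ideal.span_singleton_pow]
    rw [hmax] at hzm
    exact Ideal.mul_mem_mul (Ideal.mem_span_singleton_self _) hzm
  obtain ⟨c, ⟨s, hs⟩, rfl⟩ := IsLocalization.exists_mk'_eq nb.primeCompl z
  obtain ⟨c, rfl⟩ := Ideal.Quotient.mk_surjective c
  obtain ⟨s, rfl⟩ := Ideal.Quotient.mk_surjective s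
  have hc : ε c ≠ 0 := by
    intro h0
    have h1 : algebraMap Cb E (Ideal.Quotient.mk mC c) ∈ maximalIdeal E := by
      rw [← Localization.AtPrime.map_eq_maximalIdeal]
      exact Ideal.mem_map_of_mem _ h0
    have h2 : IsUnit (algebraMap Cb E (Ideal.Quotient.mk mC c)) := by
      rw [← IsLocalization.mk'_spec E (Ideal.Quotient.mk mC c) (⟨Ideal.Quotient.mk mC s, hs⟩ : nb.primeCompl)]
      exact hzu.mul (hunit s hs)
    exact h1 h2
  have h1 : algebraMap Cb E (Ideal.Quotient.mk mC (s * b)) = algebraMap Cb E (Ideal.Quotient.mk mC (x ^ n * c)) := by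
    rw [map_mul, map_mul, map_mul, map_mul, map_pow, map_pow]
    have h2 := IsLocalization.mk'_spec E (Ideal.Quotient.mk mC c) (⟨Ideal.Quotient.mk mC s, hs⟩ : nb.primeCompl)
    change _ * b' = x' ^ n * _
    rw [hz]
    simp only at h2
    rw [← h2]
    ring
  obtain ⟨⟨w, hw⟩, hwe⟩ := (IsLocalization.eq_iff_exists nb.primeCompl E).mp h1
  obtain ⟨w, rfl⟩ := Ideal.Quotient.mk_surjective w
  refine ⟨n, w * s, w * c, ?_, ?_, ?_⟩
  · rw [map_mul]; exact mul_ne_zero hw hs
  · rw [map_mul]; exact mul_ne_zero hw hc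
  · simp only at hwe
    rw [← map_mul, ← map_mul, Ideal.Quotient.eq] at hwe
    have : w * s * b - x ^ n * (w * c) = w * (s * b) - w * (x ^ n * c) := by ring
    rw [this]
    exact hwe

/-- elements outside the point become units in the split piece. -/
theorem exists_piece (b : C) (hbε : ε b = 0) (n : ℕ) (s c : C) (hs : ε s ≠ 0) (hc : ε c ≠ 0)
    (hb : s * b - x ^ n * c ∈ (maximalIdeal R).map (algebraMap R C)) (y : C) :
    ∃ p ∈ degreeLT R n, ∃ w, ε w ≠ 0 ∧ w * (y - aeval x p) ∈ Ideal.span {b} := by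
  let mC := (maximalIdeal R).map (algebraMap R C)
  have hmε : ∀ a ∈ mC, ε a = 0 := by
    intro a ha
    have : mC ≤ RingHom.ker ε := by
      rw [Ideal.map_le_iff_le_comap]
      intro r hr
      rw [Ideal.mem_comap, RingHom.mem_ker, hε, residue_eq_zero_iff]
      exact hr
    exact this ha
  let D := C ⧸ Ideal.span {b}
  have hbker : ∀ a ∈ Ideal.span {b}, ε a = 0 := by
    intro a ha
    obtain ⟨d, rfl⟩ := Ideal.mem_span_singleton.mp ha
    rw [map_mul, hbε, zero_mul]
  let εD : D →+* ResidueField R := Ideal.Quotient.lift _ ε hbker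
  have hεD : ∀ a, εD (Ideal.Quotient.mk _ a) = ε a := fun _ => rfl
  let q : Ideal D := RingHom.ker εD
  have hεDs : Function.Surjective εD := by
    intro k
    obtain ⟨r, rfl⟩ := residue_surjective (R := R) k
    exact ⟨Ideal.Quotient.mk _ (algebraMap R C r), by rw [hεD, hε]⟩
  have hqmax : q.IsMaximal := RingHom.ker_isMaximal_of_surjective εD hεDs
  have hqu : q.under R = maximalIdeal R := by
    ext r
    rw [Ideal.mem_comap, RingHom.mem_ker]
    change ε (algebraMap R C r) = 0 ↔ _
    rw [hε, residue_eq_zero_iff]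
  have hql : q.LiesOver (maximalIdeal R) := ⟨hqu.symm⟩
  have hmD : ∀ a ∈ mC, Ideal.Quotient.mk (Ideal.span {b}) a ∈ (maximalIdeal R).map (algebraMap R D) := by
    intro a ha
    have h1 : (maximalIdeal R).map (algebraMap R D) = mC.map (Ideal.Quotient.mk (Ideal.span {b})) := by
      rw [Ideal.map_map]; rfl
    rw [h1]
    exact Ideal.mem_map_of_mem _ ha
  -- `x ^ n` is in the ideal generated by `𝔪`, up to `c`
  have hxnc : Ideal.Quotient.mk (Ideal.span {b}) (x ^ n * c) ∈ (maximalIdeal R).map (algebraMap R D) := by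
    have h1 := hmD _ hb
    rw [map_sub, map_mul (Ideal.Quotient.mk (Ideal.span {b})) s b,
      Ideal.Quotient.eq_zero_iff_mem.mpr (Ideal.mem_span_singleton_self b), mul_zero, zero_sub] at h1
    exact (neg_mem_iff.mp h1)
  have hfib : ∀ c : C, ε c = 0 → ∃ e, ε e ≠ 0 ∧ ∃ d, Ideal.Quotient.mk (Ideal.span {b}) (c * e) -
      Ideal.Quotient.mk (Ideal.span {b}) (x * d) ∈ (maximalIdeal R).map (algebraMap R D) := by
    intro c hc
    obtain ⟨e, he, hce⟩ := hn c hc
    obtain ⟨a, ha, μ, hμ, haμ⟩ := Submodule.mem_sup.mp hce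
    obtain ⟨d, rfl⟩ := Ideal.mem_span_singleton.mp ha
    refine ⟨e, he, d, ?_⟩
    rw [← map_sub, ← haμ, add_sub_cancel_left]
    exact hmD _ hμ
  have hqf : Algebra.QuasiFiniteAt R q := by
    apply Groth.Agent.Flat2B.QuasiFiniteSlice.quasiFiniteAt_of_isolated
    intro q' hq' hu hcomp
    rcases hcomp with h | h
    · have hmq' : (maximalIdeal R).map (algebraMap R D) ≤ q' := by
        rw [Ideal.map_le_iff_le_comap, ← hqu, ← hu]
      have hxn : Ideal.Quotient.mk (Ideal.span {b}) x ∈ q' := by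
        have h1 := hmq' hxnc
        rw [map_mul, map_pow] at h1
        rcases hq'.mem_or_mem h1 with h2 | h2
        · exact hq'.mem_of_pow_mem _ h2
        · exact absurd (h h2) hc
      apply le_antisymm h
      intro z hz
      obtain ⟨z, rfl⟩ := Ideal.Quotient.mk_surjective z
      obtain ⟨e, he, d, hd⟩ := hfib z hz
      have h2 := hmq' hd
      have h3 : Ideal.Quotient.mk (Ideal.span {b}) (z * e) ∈ q' := by
        have h4 : Ideal.Quotient.mk (Ideal.span {b}) (x * d) ∈ q' := by
          rw [map_mul]; exact Ideal.mul_mem_right _ _ hxn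
        have h5 := add_mem h2 h4
        rwa [sub_add_cancel] at h5
      rw [map_mul] at h3
      exact (hq'.mem_or_mem h3).resolve_right (fun h4 => he (h h4))
    · exact (hqmax.eq_of_le hq'.ne_top h).symm
  obtain ⟨e, he, heq, hfin, huniq⟩ :=
    Groth.Agent.Hensel.LocalSplit.exists_isIdempotentElem_of_quasiFiniteAt (R := R) q
  obtain ⟨eh, rfl⟩ := Ideal.Quotient.mk_surjective e
  let e : D := Ideal.Quotient.mk (Ideal.span {b}) eh
  let D' := D ⧸ Ideal.span {1 - e}
  let mk2 : C →ₐ[R] D' := (Ideal.Quotient.mkₐ R (Ideal.span {1 - e})).comp (Ideal.Quotient.mkₐ R (Ideal.span {b}))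
  have hmk2s : Function.Surjective mk2 := by
    intro z
    obtain ⟨z, rfl⟩ := Ideal.Quotient.mk_surjective z
    obtain ⟨z, rfl⟩ := Ideal.Quotient.mk_surjective z
    exact ⟨z, rfl⟩
  have hunit : ∀ z : C, ε z ≠ 0 → IsUnit (mk2 z) := by
    intro z hz
    by_contra hnu
    obtain ⟨M, hM, hzM⟩ := exists_max_ideal_of_mem_nonunits hnu
    let M' : Ideal D := M.comap (Ideal.Quotient.mk (Ideal.span {1 - e}))
    have hM' : M'.IsPrime := Ideal.comap_isPrime _ _
    have hMm : M.under R = maximalIdeal R := by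
      have : Algebra.IsIntegral R D' := inferInstance
      have : (M.under R).IsMaximal := Ideal.isMaximal_comap_of_isIntegral_of_isMaximal M
      exact IsLocalRing.eq_maximalIdeal this
    have hl : M'.LiesOver (maximalIdeal R) := by
      constructor
      rw [← hMm]
      rfl
    have heM : e ∉ M' := by
      intro h
      have h1 : Ideal.Quotient.mk (Ideal.span {1 - e}) e = 1 := by
        rw [eq_comm, ← map_one (Ideal.Quotient.mk (Ideal.span {1 - e})), Ideal.Quotient.eq]
        exact Ideal.mem_span_singleton_self _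
      rw [Ideal.mem_comap, h1] at h
      exact hM.ne_top ((Ideal.eq_top_iff_one _).mpr h)
    have h2 := huniq M' hM' hl heM
    have h3 : Ideal.Quotient.mk (Ideal.span {b}) z ∈ M' := hzM
    rw [h2] at h3
    exact hz h3
  have hmD' : ∀ a ∈ (maximalIdeal R).map (algebraMap R D),
      Ideal.Quotient.mk (Ideal.span {1 - e}) a ∈ (maximalIdeal R).map (algebraMap R D') := by
    intro a ha
    have h1 : (maximalIdeal R).map (algebraMap R D') =
        ((maximalIdeal R).map (algebraMap R D)).map (Ideal.Quotient.mk (Ideal.span {1 - e})) := by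
      rw [Ideal.map_map]; rfl
    rw [h1]
    exact Ideal.mem_map_of_mem _ ha
  have hxn : mk2 x ^ n ∈ (maximalIdeal R).map (algebraMap R D') := by
    have h1 := hmD' _ hxnc
    have h2 : mk2 x ^ n * mk2 c ∈ (maximalIdeal R).map (algebraMap R D') := by
      rw [← map_pow, ← map_mul]; exact h1
    exact (Ideal.mul_unit_mem_iff_mem _ (hunit c hc)).mp h2
  have hstep : ∀ z : D', ∃ (r : R) (d : D'), z - algebraMap R D' r - mk2 x * d ∈ (maximalIdeal R).map (algebraMap R D') := by
    intro z
    obtain ⟨z, rfl⟩ := hmk2s z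
    obtain ⟨r, hr⟩ := residue_surjective (R := R) (ε z)
    obtain ⟨e', he', d, hd⟩ := hfib (z - algebraMap R C r) (by rw [map_sub, hε, hr, sub_self])
    have h1 := hmD' _ hd
    obtain ⟨v, hv⟩ := (hunit e' he').exists_right_inv
    refine ⟨r, mk2 d * v, ?_⟩
    have h2 : mk2 ((z - algebraMap R C r) * e') - mk2 (x * d) ∈ (maximalIdeal R).map (algebraMap R D') := h1
    have h3 := Ideal.mul_mem_right v _ h2
    have h4 : mk2 z - algebraMap R D' r - mk2 x * (mk2 d * v) =
        (mk2 ((z - algebraMap R C r) * e') - mk2 (x * d)) * v := by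
      rw [map_mul, map_mul, map_sub, AlgHom.commutes]
      linear_combination -(mk2 z - algebraMap R D' r) * hv
    rw [h4]
    exact h3
  have hind : ∀ j : ℕ, ∀ z : D', ∃ p ∈ degreeLT R j, ∃ d : D',
      z - aeval (mk2 x) p - mk2 x ^ j * d ∈ (maximalIdeal R).map (algebraMap R D') := by
    intro j
    induction j with
    | zero =>
      intro z
      refine ⟨0, Submodule.zero_mem _, z, ?_⟩
      rw [map_zero, sub_zero, pow_zero, one_mul, sub_self]
      exact Ideal.zero_mem _
    | succ j ih =>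
      intro z
      obtain ⟨p, hp, d, hd⟩ := ih z
      obtain ⟨r, d', hd'⟩ := hstep d
      refine ⟨p + Polynomial.C r * X ^ j, ?_, d', ?_⟩
      · apply Submodule.add_mem
        · exact degreeLT_mono (Nat.le_succ j) hp
        · rw [mem_degreeLT]
          exact lt_of_le_of_lt (degree_C_mul_X_pow_le j r) (by exact_mod_cast Nat.lt_succ_self j)
      · have h1 : z - aeval (mk2 x) (p + Polynomial.C r * X ^ j) - mk2 x ^ (j + 1) * d' =
            (z - aeval (mk2 x) p - mk2 x ^ j * d) + mk2 x ^ j * (d - algebraMap R D' r - mk2 x * d') := by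
          rw [map_add, map_mul, aeval_C, map_pow, aeval_X]
          ring
        rw [h1]
        exact add_mem hd (Ideal.mul_mem_left _ _ hd')
  have hNak : (⊤ : Submodule R D') ≤ (degreeLT R n).map (aeval (mk2 x)).toLinearMap := by
    apply Submodule.le_of_le_smul_of_le_jacobson_bot (I := maximalIdeal R) Module.Finite.fg_top
      (IsLocalRing.jacobson_eq_maximalIdeal (⊥ : Ideal R) bot_ne_top).ge
    intro z _
    obtain ⟨p, hp, d, hd⟩ := hind n z
    have h1 : z - aeval (mk2 x) p ∈ (maximalIdeal R).map (algebraMap R D') := by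
      have h2 : z - aeval (mk2 x) p = (z - aeval (mk2 x) p - mk2 x ^ n * d) + mk2 x ^ n * d := by ring
      rw [h2]
      exact add_mem hd (Ideal.mul_mem_right _ _ hxn)
    have h3 : z = aeval (mk2 x) p + (z - aeval (mk2 x) p) := by ring
    rw [h3]
    refine Submodule.add_mem_sup ⟨p, hp, rfl⟩ ?_
    rw [Ideal.smul_top_eq_map]
    exact h1
  obtain ⟨p, hp, hpy⟩ := hNak (show mk2 y ∈ (⊤ : Submodule R D') from trivial)
  refine ⟨p, hp, eh, heq, ?_⟩
  have h1 : mk2 (y - aeval x p) = 0 := by
    rw [map_sub, sub_eq_zero, ← hpy]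
    exact aeval_algHom_apply mk2 x p
  have h2 : Ideal.Quotient.mk (Ideal.span {b}) (y - aeval x p) ∈ Ideal.span {1 - e} :=
    Ideal.Quotient.eq_zero_iff_mem.mp h1
  obtain ⟨z, hz⟩ := Ideal.mem_span_singleton.mp h2
  rw [← Ideal.Quotient.eq_zero_iff_mem, map_mul, hz]
  have h5 : e * (1 - e) = 0 := by rw [mul_sub, mul_one, he.eq, sub_self]
  change e * ((1 - e) * z) = 0
  rw [← mul_assoc, h5, zero_mul]

end Piece

section Chart

open Groth.Agent.Etalg.PtEt Groth.Agent.Etalg.PtEtSystem Groth.Agent.Etalg.PtEtHens Groth.Agent.Etalg.PairHens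

variable {R : Type u} [CommRing R] [HenselianLocalRing R] {B : Type u} [CommRing B] [Algebra R B] [Algebra R[X] B]
  [IsScalarTower R R[X] B]

/-- finitely many elements of the henselization come from a pointed chart. -/
theorem exists_chart (hB : Hens2.IsPairHenselization R[X] (Ideal.span {(X : R[X])}) B) (β₁ β₂ : B) :
    ∃ (C : Type u) (_ : CommRing C) (_ : Algebra R C) (_ : Algebra.FiniteType R C) (x : C)
      (ε : C →+* ResidueField R) (φ : C →ₐ[R] B) (c₁ c₂ : C),
      (∀ r, ε (algebraMap R C r) = residue R r) ∧ ε x = 0 ∧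
      (∀ c, ε c = 0 → ∃ e, ε e ≠ 0 ∧ c * e ∈ Ideal.span {x} ⊔ (maximalIdeal R).map (algebraMap R C)) ∧
      (∀ s, ε s ≠ 0 → IsUnit (φ s)) ∧ φ x = algebraMap R[X] B X ∧ φ c₁ = β₁ ∧ φ c₂ = β₂ := by
  classical
  obtain ⟨e⟩ := Groth.Agent.Etalg.PairHens2.exists_equiv hB
    (isPairHenselization_Hens R[X] (Ideal.span {(X : R[X])}))
  obtain ⟨i, hi⟩ := exists_ofR_finset ({e β₁, e β₂} : Finset (Hens R[X] (R[X] ⧸ Ideal.span {(X : R[X])})))
  obtain ⟨c₁, hc₁⟩ := hi (e β₁) (by simp)
  obtain ⟨c₂, hc₂⟩ := hi (e β₂) (by simp)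
  -- the point
  let ev : (R[X] ⧸ Ideal.span {(X : R[X])}) →+* R := Ideal.Quotient.lift _ (evalRingHom (0 : R)) (by
    intro a ha
    obtain ⟨b, rfl⟩ := Ideal.mem_span_singleton.mp ha
    simp)
  have hev : ∀ p : R[X], ev (Ideal.Quotient.mk _ p) = p.eval 0 := fun _ => rfl
  have hevu : ∀ a, IsUnit (ev a) → IsUnit a := by
    intro a ha
    obtain ⟨p, rfl⟩ := Ideal.Quotient.mk_surjective a
    have h1 : Ideal.Quotient.mk (Ideal.span {(X : R[X])}) p = Ideal.Quotient.mk _ (Polynomial.C (p.eval 0)) := by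
      rw [Ideal.Quotient.eq, Ideal.mem_span_singleton, X_dvd_iff, coeff_sub, coeff_C_zero,
        ← coeff_zero_eq_eval_zero, sub_self]
    rw [h1]
    exact ((hev p ▸ ha).map Polynomial.C).map (Ideal.Quotient.mk (Ideal.span {(X : R[X])}))
  have hft : Algebra.FiniteType R i.R := Algebra.FiniteType.trans (S := R[X]) inferInstance inferInstance
  have halg : ∀ r : R, algebraMap R i.R r = algebraMap R[X] i.R (Polynomial.C r) := fun r =>
    IsScalarTower.algebraMap_apply R R[X] i.R r
  let ε : i.R →+* ResidueField R := (residue R).comp (ev.comp i.σ.toRingHom)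
  have hεdef : ∀ c, ε c = residue R (ev (i.σ c)) := fun _ => rfl
  have hε : ∀ r, ε (algebraMap R i.R r) = residue R r := by
    intro r
    rw [hεdef]
    congr 1
    rw [halg, AlgHom.commutes]
    change ev (Ideal.Quotient.mk _ (Polynomial.C r)) = r
    rw [hev, eval_C]
  have hσX : i.σ (algebraMap R[X] i.R X) = 0 := by
    rw [AlgHom.commutes]
    change Ideal.Quotient.mk _ (X : R[X]) = 0
    exact Ideal.Quotient.eq_zero_iff_mem.mpr (Ideal.mem_span_singleton_self _)
  let φ : i.R →ₐ[R] B :=
    { toRingHom := (e.symm.toAlgHom.comp (ofR i)).toRingHom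
      commutes' := by
        intro r
        change e.symm (ofR i (algebraMap R i.R r)) = _
        rw [halg, AlgHom.commutes, AlgEquiv.commutes, IsScalarTower.algebraMap_apply R R[X] B]
        rfl }
  refine ⟨i.R, inferInstance, inferInstance, hft, algebraMap R[X] i.R X, ε, φ, c₁, c₂, hε, ?_, ?_, ?_, ?_, ?_, ?_⟩
  · rw [hεdef, hσX, map_zero, map_zero]
  · intro c hc
    obtain ⟨e₁, he₁, hmul⟩ := exists_mul_mem (A := R[X]) (I := Ideal.span {(X : R[X])}) i.σ
    refine ⟨e₁, ?_, ?_⟩
    · rw [hεdef, he₁, map_one, map_one]; exact one_ne_zero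
    · set r := ev (i.σ c) with hr
      have hrm : r ∈ maximalIdeal R := (residue_eq_zero_iff r).mp hc
      have h1 : i.σ (c - algebraMap R i.R r) = 0 := by
        rw [map_sub, sub_eq_zero, halg, AlgHom.commutes]
        obtain ⟨p, hp⟩ := Ideal.Quotient.mk_surjective (i.σ c)
        change _ = Ideal.Quotient.mk _ (Polynomial.C r)
        rw [hr, ← hp, hev, Ideal.Quotient.eq, Ideal.mem_span_singleton, X_dvd_iff, coeff_sub, coeff_C_zero,
          ← coeff_zero_eq_eval_zero, sub_self]
      have h2 := hmul _ h1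
      rw [Ideal.map_span, Set.image_singleton] at h2
      have h3 : c * e₁ = (c - algebraMap R i.R r) * e₁ + algebraMap R i.R r * e₁ := by ring
      rw [h3]
      exact Submodule.add_mem_sup h2 (Ideal.mul_mem_right _ _ (Ideal.mem_map_of_mem _ hrm))
  · intro s hs
    have h1 : IsUnit (ev (i.σ s)) := isUnit_of_residue_ne hs
    have h2 : IsUnit (ofR i s) := by
      apply Hens.isUnit_of_τ
      rw [τ_ofR]
      exact hevu _ h1
    exact h2.map e.symm
  · change e.symm (ofR i (algebraMap R[X] i.R X)) = _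
    rw [AlgHom.commutes, AlgEquiv.commutes]
  · change e.symm (ofR i c₁) = _
    rw [hc₁, AlgEquiv.symm_apply_apply]
  · change e.symm (ofR i c₂) = _
    rw [hc₂, AlgEquiv.symm_apply_apply]

/-- the map to the power series over the residue field. -/
theorem exists_toPS (hB : Hens2.IsPairHenselization R[X] (Ideal.span {(X : R[X])}) B) :
    ∃ g : B →+* PowerSeries (ResidueField R),
      (∀ q : R[X], g (algebraMap R[X] B q) = ((q.map (residue R) : (ResidueField R)[X]) : PowerSeries (ResidueField R))) ∧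
      (∀ a ∈ (maximalIdeal R).map (algebraMap R B), g a = 0) := by
  let S := PowerSeries (ResidueField R)
  let φ : R[X] →+* S := (Polynomial.coeToPowerSeries.ringHom).comp (mapRingHom (residue R))
  obtain ⟨g, hg, -⟩ := hB.2 S (Ideal.span {PowerSeries.X}) φ inferInstance (by
    rw [Ideal.map_span, Ideal.span_le, Set.image_singleton, Set.singleton_subset_iff]
    have : φ X = PowerSeries.X := by simp [φ]
    rw [this]
    exact Ideal.mem_span_singleton_self _)
  have h1 : (maximalIdeal R).map (algebraMap R B) ≤ RingHom.ker g := by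
    rw [Ideal.map_le_iff_le_comap]
    intro r hr
    rw [Ideal.mem_comap, RingHom.mem_ker, IsScalarTower.algebraMap_apply R R[X] B]
    have h2 : g (algebraMap R[X] B (algebraMap R R[X] r)) = φ (algebraMap R R[X] r) := by rw [← hg]; rfl
    rw [h2, Polynomial.algebraMap_eq]
    simp [φ, (residue_eq_zero_iff r).mpr hr]
  refine ⟨g, fun q => ?_, fun a ha => h1 ha⟩
  have h2 : g (algebraMap R[X] B q) = φ q := by rw [← hg]; rfl
  rw [h2]
  rfl

theorem isUnit_of_toPS (hB : Hens2.IsPairHenselization R[X] (Ideal.span {(X : R[X])}) B)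
    (g : B →+* PowerSeries (ResidueField R))
    (hg : ∀ q : R[X], g (algebraMap R[X] B q) = ((q.map (residue R) : (ResidueField R)[X]) : PowerSeries (ResidueField R)))
    (hg0 : ∀ a ∈ (maximalIdeal R).map (algebraMap R B), g a = 0) (v : B) (hv : IsUnit (g v)) : IsUnit v := by
  obtain ⟨C, _, _, _, x, ε, φ, c₁, c₂, hε, hx, hn, hu, hφx, hφ1, hφ2⟩ := exists_chart hB v v
  by_cases hc : ε c₁ = 0
  · exfalso
    obtain ⟨e, he, hce⟩ := hn c₁ hc
    obtain ⟨a, ha, μ, hμ, haμ⟩ := Submodule.mem_sup.mp hce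
    obtain ⟨d, rfl⟩ := Ideal.mem_span_singleton.mp ha
    have h1 : g (φ μ) = 0 := by
      apply hg0
      have h2 := Ideal.mem_map_of_mem φ.toRingHom hμ
      rw [Ideal.map_map, show φ.toRingHom.comp (algebraMap R C) = algebraMap R B from φ.comp_algebraMap] at h2
      exact h2
    have h2 : g v * g (φ e) = PowerSeries.X * g (φ d) := by
      rw [← map_mul, ← hφ1, ← map_mul, ← haμ, map_add, map_mul, hφx, map_add, h1, add_zero, map_mul, hg,
        Polynomial.map_X, Polynomial.coe_X]
    have h3 : IsUnit (PowerSeries.X * g (φ d)) := by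
      rw [← h2]
      exact hv.mul ((hu e he).map g)
    have h4 : IsUnit (PowerSeries.X : PowerSeries (ResidueField R)) := isUnit_of_mul_isUnit_left h3
    exact PowerSeries.X_prime.not_unit h4
  · rw [← hφ1]
    exact hu _ hc

/-- the main local statement. -/
theorem weier_core (hB : Hens2.IsPairHenselization R[X] (Ideal.span {(X : R[X])}) B) (f : B)
    (hf : f ∉ (maximalIdeal R).map (algebraMap R B)) (β : B) :
    ∃ (P : R[X]) (u : Bˣ), P.Monic ∧ (∀ i : ℕ, i < P.natDegree → P.coeff i ∈ maximalIdeal R) ∧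
        f = algebraMap R[X] B P * (u : B) ∧ ∃ q : R[X], algebraMap R[X] B q - β ∈ Ideal.span {f} := by
  obtain ⟨C, _, _, _, x, ε, φ, c₁, c₂, hε, hx, hn, hu, hφx, hφ1, hφ2⟩ := exists_chart hB f β
  have hφm : ∀ μ ∈ (maximalIdeal R).map (algebraMap R C), φ μ ∈ (maximalIdeal R).map (algebraMap R B) := by
    intro μ hμ
    have h2 := Ideal.mem_map_of_mem φ.toRingHom hμ
    rw [Ideal.map_map, show φ.toRingHom.comp (algebraMap R C) = algebraMap R B from φ.comp_algebraMap] at h2
    exact h2
  by_cases hc : ε c₁ = 0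
  · obtain ⟨g, hg, hg0⟩ := exists_toPS (R := R) (B := B) hB
    obtain ⟨n, s, c, hs, hc', hsc⟩ := exists_order x ε hε hx hn c₁ (by
      intro s hs hsm
      apply hf
      have h1 := hφm _ hsm
      rw [map_mul, hφ1] at h1
      exact (Ideal.unit_mul_mem_iff_mem _ (hu s hs)).mp h1)
    have key : ∀ y : C, ∃ p ∈ degreeLT R n, φ y - algebraMap R[X] B p ∈ Ideal.span {f} := by
      intro y
      obtain ⟨p, hp, w, hw, hwp⟩ := exists_piece x ε hε hx hn c₁ hc n s c hs hc' hsc y
      refine ⟨p, hp, ?_⟩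
      have h1 : φ (w * (y - aeval x p)) ∈ Ideal.span {f} := by
        obtain ⟨d, hd⟩ := Ideal.mem_span_singleton.mp hwp
        rw [hd, map_mul, hφ1]
        exact Ideal.mul_mem_right _ _ (Ideal.mem_span_singleton_self _)
      rw [map_mul] at h1
      have h2 := (Ideal.unit_mul_mem_iff_mem _ (hu w hw)).mp h1
      have h3 : φ (aeval x p) = algebraMap R[X] B p := by
        rw [← aeval_algHom_apply, hφx]
        have h4 : (aeval (algebraMap R[X] B X) : R[X] →ₐ[R] B) = IsScalarTower.toAlgHom R R[X] B := by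
          apply Polynomial.algHom_ext
          rw [aeval_X]; rfl
        rw [h4]; rfl
      rw [map_sub, h3] at h2
      exact h2
    obtain ⟨p, hp, hpf⟩ := key (x ^ n)
    rw [mem_degreeLT] at hp
    have hmon : (X ^ n - p).Monic := monic_X_pow_sub (n := n) hp
    have hdeg : (X ^ n - p).natDegree = n := by
      apply natDegree_eq_of_degree_eq_some
      rw [sub_eq_add_neg, degree_add_eq_left_of_degree_lt]
      · exact degree_X_pow n
      · rw [degree_neg, degree_X_pow]; exact hp
    have hPf : algebraMap R[X] B (X ^ n - p) ∈ Ideal.span {f} := by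
      rw [map_sub, map_pow, ← hφx, ← map_pow]; exact hpf
    obtain ⟨v, hv⟩ := Ideal.mem_span_singleton.mp hPf
    -- orders
    have hgs : IsUnit (g (φ s)) := (hu s hs).map g
    have hgc : IsUnit (g (φ c)) := (hu c hc').map g
    have horder : g (φ s) * g f = PowerSeries.X ^ n * g (φ c) := by
      have h1 := hg0 _ (hφm _ hsc)
      rw [map_sub, map_mul, hφ1, map_mul, map_pow, hφx, map_sub, sub_eq_zero, map_mul, map_mul, map_pow, hg,
        Polynomial.map_X, Polynomial.coe_X] at h1
      exact h1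
    obtain ⟨us, hus⟩ := hgs
    obtain ⟨uc, huc⟩ := hgc
    have hgf : g f = PowerSeries.X ^ n * (↑(us⁻¹ * uc) : PowerSeries (ResidueField R)) := by
      have h1 : (↑us⁻¹ : PowerSeries (ResidueField R)) * (g (φ s) * g f) = g f := by
        rw [← hus, ← mul_assoc, Units.inv_mul, one_mul]
      rw [← h1, horder, ← huc, Units.val_mul]
      ring
    have hPr : (X ^ n - p).map (residue R) = X ^ n := by
      have h1 : (X ^ n : (ResidueField R)[X]) ∣ (X ^ n - p).map (residue R) := by
        rw [Polynomial.X_pow_dvd_iff]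
        intro d hd
        have h2 := congrArg (PowerSeries.coeff d) (congrArg g hv)
        rw [hg, Polynomial.coeff_coe, map_mul, hgf, mul_assoc, PowerSeries.coeff_X_pow_mul', if_neg (by omega)] at h2
        exact h2
      refine (eq_of_monic_of_dvd_of_natDegree_le (monic_X_pow n) (hmon.map _) h1 ?_)
      rw [hmon.natDegree_map, hdeg, natDegree_X_pow]
    have hgv : IsUnit (g v) := by
      have h2 := congrArg g hv
      rw [hg, hPr, map_mul, hgf, Polynomial.coe_pow, Polynomial.coe_X, mul_assoc] at h2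
      have h3 : (PowerSeries.X : PowerSeries (ResidueField R)) ^ n * 1 =
          PowerSeries.X ^ n * ((↑(us⁻¹ * uc) : PowerSeries (ResidueField R)) * g v) := by rw [mul_one]; exact h2
      have hX0 : (PowerSeries.X : PowerSeries (ResidueField R)) ^ n ≠ 0 := pow_ne_zero n PowerSeries.X_ne_zero
      have h4 := mul_left_cancel₀ hX0 h3
      exact IsUnit.of_mul_eq_one _ (by rw [mul_comm]; exact h4.symm)
    obtain ⟨V, hV⟩ := isUnit_of_toPS hB g hg hg0 v hgv
    refine ⟨X ^ n - p, V⁻¹, hmon, ?_, ?_, ?_⟩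
    · intro i hi
      rw [hdeg] at hi
      rw [← residue_eq_zero_iff, ← coeff_map, hPr, coeff_X_pow, if_neg (by omega)]
    · rw [hv, ← hV, mul_assoc, Units.mul_inv, mul_one]
    · obtain ⟨q, -, hq⟩ := key c₂
      refine ⟨q, ?_⟩
      rw [hφ2] at hq
      rw [← neg_mem_iff, neg_sub]
      exact hq
  · have hfu : IsUnit f := by rw [← hφ1]; exact hu _ hc
    obtain ⟨u, hu'⟩ := hfu
    refine ⟨1, u, monic_one, ?_, ?_, 0, ?_⟩
    · intro i hi
      rw [natDegree_one] at hi
      omega
    · rw [map_one, one_mul, hu']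
    · rw [Ideal.span_singleton_eq_top.mpr (hu' ▸ u.isUnit)]
      trivial

/-- polynomials in the ideal generated by a distinguished polynomial. -/
theorem mem_of_mem (hB : Hens2.IsPairHenselization R[X] (Ideal.span {(X : R[X])}) B) (P : R[X]) (hP : P.Monic)
    (hPm : ∀ i : ℕ, i < P.natDegree → P.coeff i ∈ maximalIdeal R) (q : R[X])
    (hq : algebraMap R[X] B q ∈ Ideal.span {algebraMap R[X] B P}) : q ∈ Ideal.span {P} := by
  let Q := R[X] ⧸ Ideal.span {P}
  have hfin : Module.Finite R Q := hP.finite_quotient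
  have h1 : HenselianRing Q ((maximalIdeal R).map (algebraMap R Q)) :=
    Groth.Agent.S0526.result R (maximalIdeal R) Q
  have h2 : HenselianRing Q ((maximalIdeal R).map (algebraMap R Q)).radical :=
    (Groth.Agent.S0525.henselianRing_iff_radical Q _).mp h1
  have hX : Ideal.Quotient.mk (Ideal.span {P}) X ∈ ((maximalIdeal R).map (algebraMap R Q)).radical := by
    refine ⟨P.natDegree, ?_⟩
    have h3 : Ideal.Quotient.mk (Ideal.span {P}) X ^ P.natDegree =
        - ∑ i ∈ Finset.range P.natDegree, algebraMap R Q (P.coeff i) * Ideal.Quotient.mk (Ideal.span {P}) X ^ i := by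
      have h4 : Ideal.Quotient.mk (Ideal.span {P}) (X ^ P.natDegree + ∑ i ∈ Finset.range P.natDegree,
          Polynomial.C (P.coeff i) * X ^ i) = 0 := by
        rw [← hP.as_sum]
        exact Ideal.Quotient.eq_zero_iff_mem.mpr (Ideal.mem_span_singleton_self _)
      rw [map_add, map_pow, map_sum] at h4
      rw [eq_neg_iff_add_eq_zero]
      refine Eq.trans ?_ h4
      congr 1
    rw [h3, neg_mem_iff]
    refine Ideal.sum_mem _ fun i hi => ?_
    exact Ideal.mul_mem_right _ _ (Ideal.mem_map_of_mem _ (hPm i (Finset.mem_range.mp hi)))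
  have h5 : HenselianRing Q (Ideal.span {Ideal.Quotient.mk (Ideal.span {P}) X}) :=
    ((Groth.Agent.S0528.result Q _ _ (by
      rw [Ideal.span_le, Set.singleton_subset_iff]; exact hX)).mp h2).1
  obtain ⟨g, hg, -⟩ := hB.2 Q _ (Ideal.Quotient.mk (Ideal.span {P})) h5 (by
    rw [Ideal.map_span, Set.image_singleton])
  obtain ⟨b, hb⟩ := Ideal.mem_span_singleton.mp hq
  have h6 : ∀ p : R[X], g (algebraMap R[X] B p) = Ideal.Quotient.mk (Ideal.span {P}) p := fun p => by
    rw [← hg]; rfl
  rw [← Ideal.Quotient.eq_zero_iff_mem, ← h6, hb, map_mul, h6,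
    Ideal.Quotient.eq_zero_iff_mem.mpr (Ideal.mem_span_singleton_self P), zero_mul]

theorem weier (hB : Hens2.IsPairHenselization R[X] (Ideal.span {(X : R[X])}) B) : Weier R B := by
  intro f hf
  have hmain : ∀ (P : R[X]) (u : Bˣ), P.Monic → (∀ i : ℕ, i < P.natDegree → P.coeff i ∈ maximalIdeal R) →
        f = algebraMap R[X] B P * (u : B) → ∀ q : R[X], algebraMap R[X] B q ∈ Ideal.span {f} → q ∈ Ideal.span {P} := by
    intro P u hP hPm hfP q hq
    apply mem_of_mem hB P hP hPm q
    rw [hfP, Ideal.span_singleton_mul_right_unit u.isUnit] at hq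
    exact hq
  refine ⟨?_, fun P u hP hPm hfP => ⟨fun b => (weier_core hB f hf b).choose_spec.choose_spec.2.2.2, hmain P u hP hPm hfP⟩⟩
  obtain ⟨P, u, hP, hPm, hfP, -⟩ := weier_core hB f hf 0
  refine ⟨(P, u), ⟨hP, hPm, hfP⟩, ?_⟩
  rintro ⟨P', u'⟩ ⟨hP', hPm', hfP'⟩
  simp only at hP' hPm' hfP'
  have h1 : P' ∈ Ideal.span {P} := hmain P u hP hPm hfP P' (by
    rw [hfP', Ideal.span_singleton_mul_right_unit u'.isUnit]; exact Ideal.mem_span_singleton_self _)
  have h2 : P ∈ Ideal.span {P'} := hmain P' u' hP' hPm' hfP' P (by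
    rw [hfP, Ideal.span_singleton_mul_right_unit u.isUnit]; exact Ideal.mem_span_singleton_self _)
  rw [Ideal.mem_span_singleton] at h1 h2
  have h3 : P' = P := by
    refine eq_of_monic_of_dvd_of_natDegree_le hP hP' h1 ?_
    obtain ⟨w, hw⟩ := h2
    have hw0 : w ≠ 0 := by
      intro h0
      rw [h0, mul_zero] at hw
      exact hP.ne_zero hw
    rw [hw, hP'.natDegree_mul' hw0]
    omega
  subst h3
  have hflat : Module.Flat R[X] B := Groth.Agent.Etalg.PairHens2.flat B hB
  have hreg : IsSMulRegular R[X] P' := by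
    intro a b hab
    exact hP.isRegular.left hab
  have hregB : IsSMulRegular B (algebraMap R[X] B P') := hreg.of_flat
  have h4 : (u' : B) = u := by
    apply hregB
    change algebraMap R[X] B P' * (u' : B) = algebraMap R[X] B P' * (u : B)
    rw [← hfP, ← hfP']
  rw [Units.ext h4]

end Chart

end K89.WeierHens
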