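import Groth.Agent.CAlg.K89.InvIdeal
import Groth.Agent.CAlg.K89.WeierHens
import Groth.Agent.CAlg.K89.LaurentLine
import Groth.Agent.CAlg.K88.HensLaurent
import Groth.Agent.S19779
import Groth.Agent.S2051

/-!
# Line bundles on `R{t}[1/t]` and `R((t))` come from `R[1/t]`, `R` henselian local
-/

set_option autoImplicit false
universe u

open Polynomial IsLocalRing
open scoped TensorProduct

namespace K89.LineHens

open K89.WeierPoly K89.LaurentIdeals K89.LaurentHens K89.InvIdeal

section Hens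

variable {R : Type u} [CommRing R] [HenselianLocalRing R] {B : Type u} [CommRing B] [Algebra R B] [Algebra R[X] B]
  [IsScalarTower R R[X] B] (hB : Hens2.IsPairHenselization R[X] (Ideal.span {(X : R[X])}) B)
  {L : Type u} [CommRing L] [Algebra B L] [IsLocalization.Away (algebraMap R[X] B X) L]
  [Algebra R L] [IsScalarTower R B L]

include hB in
theorem maxL_ne_top : (maximalIdeal R).map (algebraMap R L) ≠ ⊤ := by
  intro h
  have h1 : (1 : L) ∈ (maximalIdeal R).map (algebraMap R L) := by rw [h]; trivial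
  have hmL : (maximalIdeal R).map (algebraMap R L) =
      ((maximalIdeal R).map (algebraMap R B)).map (algebraMap B L) := by
    rw [Ideal.map_map]
    congr 1
    exact IsScalarTower.algebraMap_eq R B L
  rw [hmL, IsLocalization.mem_map_algebraMap_iff (Submonoid.powers (algebraMap R[X] B X))] at h1
  obtain ⟨⟨⟨g, hg⟩, ⟨y, n, hy⟩⟩, hgy⟩ := h1
  simp only at hgy hy
  subst hy
  rw [one_mul] at hgy
  obtain ⟨⟨_, k, rfl⟩, hk⟩ := (IsLocalization.eq_iff_exists (Submonoid.powers (algebraMap R[X] B X)) L).mp hgy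
  simp only at hk
  have h2 : algebraMap R[X] B (X ^ (k + n)) ∈ (maximalIdeal R).map (algebraMap R B) := by
    rw [map_pow, pow_add, hk]
    exact Ideal.mul_mem_left _ _ hg
  exact notMem_of_hens hB (X ^ (k + n)) (by rw [Polynomial.map_pow, map_X]; exact pow_ne_zero _ X_ne_zero) h2

include hB in
/-- `L/𝔪L` is a field. -/
theorem exists_inv (x : L) (hx : x ∉ (maximalIdeal R).map (algebraMap R L)) :
    ∃ y : L, x * y - 1 ∈ (maximalIdeal R).map (algebraMap R L) := by
  have hmL : (maximalIdeal R).map (algebraMap R L) =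
      ((maximalIdeal R).map (algebraMap R B)).map (algebraMap B L) := by
    rw [Ideal.map_map]
    congr 1
    exact IsScalarTower.algebraMap_eq R B L
  have ht : IsUnit (algebraMap B L (algebraMap R[X] B X)) := IsLocalization.Away.algebraMap_isUnit _
  obtain ⟨T, hT⟩ := ht
  obtain ⟨⟨b, ⟨_, j, rfl⟩⟩, hb⟩ := IsLocalization.surj (Submonoid.powers (algebraMap R[X] B X)) x
  simp only at hb
  rw [map_pow, ← hT] at hb
  have hbm : b ∉ (maximalIdeal R).map (algebraMap R B) := by
    intro h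
    apply hx
    have h1 : x = algebraMap B L b * ((T ^ j)⁻¹ : Lˣ) := by
      rw [← hb, mul_assoc, ← Units.val_pow_eq_pow_val, Units.mul_inv, mul_one]
    rw [h1, hmL]
    exact Ideal.mul_mem_right _ _ (Ideal.mem_map_of_mem _ h)
  obtain ⟨⟨⟨P, u⟩, ⟨hPmon, hPc, hPu⟩, -⟩, -⟩ := K89.WeierHens.weier hB b hbm
  simp only at hPmon hPc hPu
  set n := P.natDegree with hn
  have hP : algebraMap B L (algebraMap R[X] B P) - (T : L) ^ n ∈ (maximalIdeal R).map (algebraMap R L) := by
    rw [hmL, hT, ← map_pow, ← map_sub, ← map_pow, ← map_sub]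
    refine Ideal.mem_map_of_mem _ ?_
    have h1 : P - X ^ n ∈ (maximalIdeal R).map (C : R →+* R[X]) := by
      rw [mem_iff_map, Polynomial.map_sub, sub_eq_zero, Polynomial.map_pow, map_X]
      ext i
      rw [coeff_map, coeff_X_pow]
      by_cases hi : i = n
      · rw [if_pos hi, hi, hn, hPmon.coeff_natDegree, map_one]
      · rw [if_neg hi]
        rcases lt_or_gt_of_ne hi with h | h
        · exact (residue_eq_zero_iff _).mpr (hPc i h)
        · rw [coeff_eq_zero_of_natDegree_lt h, map_zero]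
    have h2 := Ideal.mem_map_of_mem (algebraMap R[X] B) h1
    rw [Ideal.map_map] at h2
    have h3 : (algebraMap R[X] B).comp (C : R →+* R[X]) = algebraMap R B :=
      (IsScalarTower.algebraMap_eq R R[X] B).symm
    rw [h3] at h2
    exact h2
  let U : Lˣ := Units.map (algebraMap B L : B →* L) u
  have hU : (U : L) = algebraMap B L u := rfl
  refine ⟨(T : L) ^ j * ((U⁻¹ : Lˣ) : L) * ((T ^ n)⁻¹ : Lˣ), ?_⟩
  have h4 : x * ((T : L) ^ j * ((U⁻¹ : Lˣ) : L) * ((T ^ n)⁻¹ : Lˣ)) - 1 =
      (algebraMap B L (algebraMap R[X] B P) - (T : L) ^ n) * ((T ^ n)⁻¹ : Lˣ) := by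
    have h5 : (U : L) * ((U⁻¹ : Lˣ) : L) = 1 := Units.mul_inv U
    have h6 : (T : L) ^ n * ((T ^ n)⁻¹ : Lˣ) = 1 := by
      rw [← Units.val_pow_eq_pow_val]; exact Units.mul_inv _
    have h7 : x * (T : L) ^ j = algebraMap B L (algebraMap R[X] B P) * (U : L) := by
      rw [hb, hPu, map_mul, hU]
    linear_combination (((U⁻¹ : Lˣ) : L) * ((T ^ n)⁻¹ : Lˣ)) * h7 + (algebraMap B L (algebraMap R[X] B P) * ((T ^ n)⁻¹ : Lˣ)) * h5 + h6
  rw [h4]
  exact Ideal.mul_mem_right _ _ hP

/-- elements `f ≡ 1` are regular in `L`. -/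
theorem regular_of_sub_mem (ψ : R[X] →ₐ[R] L) (hψ : ψ X * algebraMap B L (algebraMap R[X] B X) = 1)
    {f : R[X]} (hf : f - 1 ∈ (maximalIdeal R).map (C : R →+* R[X])) (hflat : Module.Flat R[X] B) :
    ψ f ∈ nonZeroDivisors L := by
  obtain ⟨c, hmon, -, -⟩ := exists_monic hf
  set P := C (c : R) * f.reverse with hP
  have hreg : IsSMulRegular R[X] P := by
    intro a b hab
    exact hmon.isRegular.left hab
  have hregB : IsSMulRegular B (algebraMap R[X] B P) := hreg.of_flat
  have hflatL : Module.Flat B L := IsLocalization.flat L (Submonoid.powers (algebraMap R[X] B X))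
  have hregL : IsSMulRegular L (algebraMap B L (algebraMap R[X] B P)) := hregB.of_flat
  set t := algebraMap B L (algebraMap R[X] B X) with ht
  have h1 : ∀ q : R[X], algebraMap B L (algebraMap R[X] B q) = aeval t q := by
    intro q
    let φ : R[X] →ₐ[R] L := (IsScalarTower.toAlgHom R B L).comp (IsScalarTower.toAlgHom R R[X] B)
    have : φ = aeval t := by
      apply Polynomial.algHom_ext
      rw [aeval_X]; rfl
    exact congrArg (fun g : R[X] →ₐ[R] L => g q) this
  have h2 : ψ f = aeval (ψ X) f := by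
    have : ψ = aeval (ψ X) := by
      apply Polynomial.algHom_ext
      rw [aeval_X]
    conv_lhs => rw [this]
  have h3 := psi_eq (ψ X) t hψ f
  have hs : IsUnit (ψ X) := IsUnit.of_mul_eq_one _ hψ
  rw [mem_nonZeroDivisors_iff_right]
  intro z hz
  rw [h2, h3] at hz
  have h4 : z * aeval t f.reverse = 0 := by
    have h5 : IsUnit (ψ X ^ f.natDegree) := hs.pow _
    rw [← mul_assoc] at hz
    exact (h5.mul_left_eq_zero).mp hz
  apply hregL
  change algebraMap B L (algebraMap R[X] B P) * z = algebraMap B L (algebraMap R[X] B P) * 0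
  rw [h1, hP, map_mul, mul_zero, mul_assoc, mul_comm _ z, h4, mul_zero]

include hB in
/-- the main construction: an invertible `L`-module is isomorphic to the extension of an invertible ideal of `R[s]`. -/
theorem exists_invIdeal (ψ : R[X] →ₐ[R] L) (hψ : ψ X * algebraMap B L (algebraMap R[X] B X) = 1)
    (N : Type u) [AddCommGroup N] [Module L N] [Module.Invertible L N] :
    ∃ I : Ideal R[X], Module.Invertible R[X] I ∧ Nonempty (N ≃ₗ[L] (I.map ψ.toRingHom : Ideal L)) := by
  obtain ⟨hm1, hm2⟩ := K89.LaurentHens.hens_main (K89.WeierHens.weier hB) hB (algebraMap R[X] B X) rfl (L := L) ψ hψ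
  set mL := (maximalIdeal R).map (algebraMap R L) with hmL
  have hflat : Module.Flat R[X] B := Groth.Agent.Etalg.PairHens2.flat B hB
  have hmC : (maximalIdeal R).map (algebraMap R R[X]) = (maximalIdeal R).map (C : R →+* R[X]) := by
    rw [Polynomial.algebraMap_eq]
  -- a generator at the closed fibre
  obtain ⟨s, hs⟩ := exists_dual (L := L) (N := N)
  have hex : ∃ p ∈ s, p.1 p.2 ∉ mL := by
    by_contra hcon
    push Not at hcon
    apply maxL_ne_top (R := R) (L := L) hB
    rw [Ideal.eq_top_iff_one, ← hs]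
    exact Ideal.sum_mem _ hcon
  obtain ⟨⟨φ, ℓ⟩, -, hφ⟩ := hex
  simp only at hφ
  obtain ⟨y, hy⟩ := exists_inv hB (φ ℓ) hφ
  let J : Ideal L :=
    { carrier := {a | ∀ n : N, ∃ c : L, a • n = c • ℓ}
      add_mem' := fun {a b} ha hb n => by
        obtain ⟨c, hc⟩ := ha n
        obtain ⟨d, hd⟩ := hb n
        exact ⟨c + d, by rw [add_smul, add_smul, hc, hd]⟩
      zero_mem' := fun n => ⟨0, by rw [zero_smul, zero_smul]⟩
      smul_mem' := fun r a ha n => by
        obtain ⟨c, hc⟩ := ha n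
        exact ⟨r * c, by rw [smul_eq_mul, mul_smul, hc, mul_smul]⟩ }
  have hJ : φ ℓ ∈ J := fun n => ⟨φ n, smul_eq_smul φ ℓ n⟩
  have hJtop : J ⊔ mL = ⊤ := by
    rw [Ideal.eq_top_iff_one]
    have h1 : (1 : L) = φ ℓ * y + -(φ ℓ * y - 1) := by ring
    rw [h1]
    exact Submodule.add_mem_sup (Ideal.mul_mem_right _ _ hJ) (neg_mem hy)
  obtain ⟨-, h2⟩ := hm2 J hJtop
  obtain ⟨f, hfJ, μ, hμ, hfμ⟩ := Submodule.mem_sup.mp
    (show (1 : R[X]) ∈ J.comap ψ.toRingHom ⊔ (maximalIdeal R).map (algebraMap R R[X]) by rw [h2]; trivial)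
  have hf1 : f - 1 ∈ (maximalIdeal R).map (C : R →+* R[X]) := by
    rw [← hmC, ← hfμ, sub_add_cancel_left]
    exact neg_mem hμ
  have hfreg : ψ f ∈ nonZeroDivisors L := regular_of_sub_mem ψ hψ hf1 hflat
  obtain ⟨K, K', hfK, hfK', hKK', ⟨e⟩⟩ := exists_ideal ℓ (ψ f) hfreg (fun n => hfJ n)
  have hψm : ∀ a ∈ (maximalIdeal R).map (algebraMap R R[X]), ψ a ∈ mL := by
    intro a ha
    have h3 := Ideal.mem_map_of_mem ψ.toRingHom ha
    rw [Ideal.map_map, show ψ.toRingHom.comp (algebraMap R R[X]) = algebraMap R L from ψ.comp_algebraMap] at h3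
    exact h3
  have htop : ∀ Q : Ideal L, ψ f ∈ Q → Q ⊔ mL = ⊤ := by
    intro Q hQ
    rw [Ideal.eq_top_iff_one]
    have h1 : (1 : L) = ψ f + ψ μ := by rw [← map_add, hfμ, map_one]
    rw [h1]
    exact Submodule.add_mem_sup hQ (hψm μ hμ)
  have htopA : ∀ (Q : Ideal R[X]) (g : R[X]), g ∈ Q → g - 1 ∈ (maximalIdeal R).map (C : R →+* R[X]) →
      Q ⊔ (maximalIdeal R).map (algebraMap R R[X]) = ⊤ := by
    intro Q g hg hg1
    rw [Ideal.eq_top_iff_one, hmC]
    have h1 : (1 : R[X]) = g + -(g - 1) := by ring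
    rw [h1]
    exact Submodule.add_mem_sup hg (neg_mem hg1)
  obtain ⟨hK1, hK2⟩ := hm2 K (htop K hfK)
  obtain ⟨hK'1, hK'2⟩ := hm2 K' (htop K' hfK')
  set I := K.comap ψ.toRingHom with hI
  set I' := K'.comap ψ.toRingHom with hI'
  have hfI : f ∈ I := hfK
  have hfI' : f ∈ I' := hfK'
  have hff : f * f - 1 ∈ (maximalIdeal R).map (C : R →+* R[X]) := by
    have : f * f - 1 = (f + 1) * (f - 1) := by ring
    rw [this]
    exact Ideal.mul_mem_left _ _ hf1
  have hII' : I * I' = Ideal.span {f} := by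
    have h3 := (hm1 (I * I') (htopA _ (f * f) (Ideal.mul_mem_mul hfI hfI') hff)).1
    have h4 := (hm1 (Ideal.span {f}) (htopA _ f (Ideal.mem_span_singleton_self f) hf1)).1
    rw [← h3, ← h4, Ideal.map_mul, hK1, hK'1, hKK', Ideal.map_span, Set.image_singleton]
    rfl
  have hfregA : f ∈ nonZeroDivisors R[X] := by
    have hu : IsUnit (f.coeff 0) := isUnit_of_residue_ne (by
      have h6 := congrArg (fun p : (ResidueField R)[X] => p.coeff 0) (map_eq_one hf1)
      simp only [coeff_map, coeff_one_zero] at h6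
      rw [h6]
      exact one_ne_zero)
    obtain ⟨c, hc⟩ := hu
    have h5 : C ((c⁻¹ : Rˣ) : R) * f ∈ nonZeroDivisors R[X] := by
      apply K89.LaurentProj.mem_nonZeroDivisors_of_coeff
      rw [coeff_C_mul, ← hc, Units.inv_mul]
    rw [mem_nonZeroDivisors_iff_right] at h5 ⊢
    intro z hz
    refine h5 z ?_
    rw [mul_left_comm, hz, mul_zero]
  refine ⟨I, invertible_of_mul I I' f hfregA hII', ?_⟩
  rw [hK1]
  exact ⟨e⟩

include hB in
theorem exists_line (ψ : R[X] →ₐ[R] L) (hψ : ψ X * algebraMap B L (algebraMap R[X] B X) = 1)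
    (N : Type u) [AddCommGroup N] [Module L N] [Module.Invertible L N]
    (L' : Type u) [CommRing L'] [Algebra L L'] [Algebra R[X] L']
    (hL' : ∀ p, algebraMap L L' (ψ p) = algebraMap R[X] L' p) :
    ∃ (M : Type u) (_ : AddCommGroup M) (_ : Module R[X] M), Module.Invertible R[X] M ∧
      Nonempty (L' ⊗[R[X]] M ≃ₗ[L'] L' ⊗[L] N) := by
  obtain ⟨I, hI, ⟨e⟩⟩ := exists_invIdeal hB ψ hψ N
  let _ : Algebra R[X] L := ψ.toRingHom.toAlgebra
  have _ : IsScalarTower R[X] L L' := IsScalarTower.of_algebraMap_eq fun p => (hL' p).symm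
  have hKinv : Module.Invertible L (I.map ψ.toRingHom : Ideal L) := Module.Invertible.congr e
  obtain ⟨e1⟩ := baseChange_ideal (A := R[X]) (L := L) I hI (I.map ψ.toRingHom) rfl hKinv
  refine ⟨I, inferInstance, inferInstance, hI, ⟨?_⟩⟩
  exact (TensorProduct.AlgebraTensorModule.cancelBaseChange R[X] L L' L' I).symm.trans
    (TensorProduct.AlgebraTensorModule.congr (LinearEquiv.refl L' L') (e1.trans e.symm))

end Hens

section Laurent

variable {R : Type u} [CommRing R] [HenselianLocalRing R]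

theorem exists_of_laurent_aux (B : Type u) [CommRing B] [Algebra R B] [Algebra R[X] B]
    [IsScalarTower R R[X] B] (hB : Hens2.IsPairHenselization R[X] (Ideal.span {(X : R[X])}) B)
    (L' : Type u) [CommRing L'] [Algebra R[X] L'] (eL : L' ≃+* LaurentSeries R)
    (heL : ∀ p, eL (algebraMap R[X] L' p) = Polynomial.eval₂RingHom (HahnSeries.C) (HahnSeries.single (-1 : ℤ) (1 : R)) p)
    (M' : Type u) [AddCommGroup M'] [Module L' M'] [Module.Invertible L' M'] :
    ∃ (M : Type u) (_ : AddCommGroup M) (_ : Module R[X] M), Module.Invertible R[X] M ∧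
      Nonempty (M' ≃ₗ[L'] L' ⊗[R[X]] M) := by
  obtain ⟨ψ₀, hψ₀⟩ := K88.HensLaurent.exists_psi hB
  let Ψ₀ : B →ₐ[R[X]] PowerSeries R :=
    { ψ₀ with
      commutes' := fun p => by
        rw [K551.TruncQuot.algebraMap_eq_coe]
        exact congrArg (fun g : R[X] →+* PowerSeries R => g p) hψ₀ }
  have hψ₀C : ∀ p : R[X], ψ₀ (algebraMap R[X] B p) = (p : PowerSeries R) := fun p =>
    congrArg (fun g : R[X] →+* PowerSeries R => g p) hψ₀
  let L := Localization.Away (algebraMap R[X] B X)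
  obtain ⟨Φ, -, hΦ⟩ := K88.HensLaurent.exists_toLaurent hB ψ₀ hψ₀ L
  let _ : Algebra L L' := ((eL.symm : LaurentSeries R →+* L').comp Φ).toAlgebra
  have hLL' : ∀ x : L, algebraMap L L' x = eL.symm (Φ x) := fun _ => rfl
  have hΦX : Φ (algebraMap B L (algebraMap R[X] B X)) = HahnSeries.single (1 : ℤ) (1 : R) := by
    rw [hΦ, hψ₀C, Polynomial.coe_X, HahnSeries.ofPowerSeries_X]
  let t : L := algebraMap B L (algebraMap R[X] B X)
  let s : L := IsLocalization.Away.invSelf (algebraMap R[X] B X)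
  have hst : s * t = 1 := by
    rw [mul_comm]; exact IsLocalization.Away.mul_invSelf _
  let ψ : R[X] →ₐ[R] L := aeval s
  have hψ : ψ X * t = 1 := by
    change aeval s X * t = 1
    rw [aeval_X]; exact hst
  have hL' : ∀ p, algebraMap L L' (ψ p) = algebraMap R[X] L' p := by
    intro p
    apply eL.injective
    rw [heL, hLL', RingEquiv.apply_symm_apply]
    have : Φ.comp ψ.toRingHom = Polynomial.eval₂RingHom (HahnSeries.C) (HahnSeries.single (-1 : ℤ) (1 : R)) := by
      refine Polynomial.ringHom_ext (fun r => ?_) ?_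
      · change Φ (aeval s (C r)) = _
        rw [aeval_C, IsScalarTower.algebraMap_apply R B L, hΦ, IsScalarTower.algebraMap_apply R R[X] B, hψ₀C,
          Polynomial.algebraMap_eq, Polynomial.coe_C, HahnSeries.ofPowerSeries_C]
        simp
      · change Φ (aeval s X) = _
        rw [aeval_X, coe_eval₂RingHom, eval₂_X]
        have h1 : Φ s * HahnSeries.single (1 : ℤ) (1 : R) = 1 := by
          rw [← hΦX, ← map_mul, hst, map_one]
        have h2 : HahnSeries.single (-1 : ℤ) (1 : R) * HahnSeries.single (1 : ℤ) (1 : R) = 1 := by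
          rw [HahnSeries.single_mul_single]; simp
        have h3 : IsUnit (HahnSeries.single (1 : ℤ) (1 : R)) := K88.LaurentBasic.isUnit_single _
        exact h3.mul_right_cancel (h1.trans h2.symm)
    exact congrArg (fun g : R[X] →+* LaurentSeries R => g p) this
  obtain ⟨hinj, hsurj⟩ := Groth.Agent.S19779.result R B hB Ψ₀ L' eL (fun b => by
    rw [hLL', RingEquiv.apply_symm_apply, hΦ]; rfl)
  obtain ⟨N, _, _, hNf, hNp, ⟨eN⟩⟩ := hsurj M'
  obtain ⟨Nd, _, _, hNdf, hNdp, ⟨eNd⟩⟩ := hsurj (Module.Dual L' M')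
  have e1 : L' ⊗[L] (N ⊗[L] Nd) ≃ₗ[L'] L' ⊗[L] L :=
    (TensorProduct.AlgebraTensorModule.distribBaseChange L L' N Nd).trans
      ((TensorProduct.congr eN eNd).trans
        ((TensorProduct.comm L' M' (Module.Dual L' M')).trans
          ((Module.Invertible.linearEquiv L' M').trans (TensorProduct.AlgebraTensorModule.rid L L' L').symm)))
  obtain ⟨e2⟩ := hinj (N ⊗[L] Nd) L ⟨e1⟩
  have hNinv : Module.Invertible L N := Module.Invertible.left e2
  obtain ⟨M, _, _, hM, ⟨e3⟩⟩ := exists_line hB ψ hψ N L' hL'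
  exact ⟨M, inferInstance, inferInstance, hM, ⟨eN.symm.trans e3.symm⟩⟩

theorem exists_of_laurent
    (L' : Type u) [CommRing L'] [Algebra R[X] L'] (eL : L' ≃+* LaurentSeries R)
    (heL : ∀ p, eL (algebraMap R[X] L' p) = Polynomial.eval₂RingHom (HahnSeries.C) (HahnSeries.single (-1 : ℤ) (1 : R)) p)
    (M' : Type u) [AddCommGroup M'] [Module L' M'] [Module.Invertible L' M'] :
    ∃ (M : Type u) (_ : AddCommGroup M) (_ : Module R[X] M), Module.Invertible R[X] M ∧
      Nonempty (M' ≃ₗ[L'] L' ⊗[R[X]] M) := by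
  obtain ⟨B, _, _, hB⟩ := Groth.Agent.S2051.result R[X] (Ideal.span {(X : R[X])})
  let _ : Algebra R B := ((algebraMap R[X] B).comp (algebraMap R R[X])).toAlgebra
  have _ : IsScalarTower R R[X] B := IsScalarTower.of_algebraMap_eq (fun _ => rfl)
  exact exists_of_laurent_aux B hB L' eL heL M'

end Laurent

end K89.LineHens
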