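import Groth.Agent.Sga7.H598.Conduct
import Groth.Agent.Sga7.H598.PicPoly

/-!
# Traverso's theorem without Noetherian hypotheses

`exists_generator`: `A` seminormal, `P` an invertible `A[X]`-module whose reduction modulo `X` is trivialized by `ψ`.
Then `P` has a generator `e` with `ψ e = 1`.  (The Noetherian case is in `Sga7.H598.PicPoly`.)
-/

set_option autoImplicit false

open Polynomial TensorProduct

namespace K89.Seminormal

open Groth.Agent.Sga7.H598.SNDef Groth.Agent.Sga7.H598.Kron Groth.Agent.Sga7.H598.Conduct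
  Groth.Agent.Sga7.H598.PicPoly

section Int

variable {R B : Type*} [CommRing R] [CommRing B] [Algebra R B]

/-- integrality can be checked modulo all primes. -/
theorem isIntegral_of_forall_prime (x : B)
    (h : ∀ q : Ideal B, q.IsPrime → IsIntegral R (Ideal.Quotient.mk q x)) : IsIntegral R x := by
  by_contra hx
  let S : Submonoid B :=
    { carrier := {y | ∃ P : R[X], P.Monic ∧ aeval x P = y}
      one_mem' := ⟨1, monic_one, map_one _⟩
      mul_mem' := by
        rintro _ _ ⟨P, hP, rfl⟩ ⟨Q, hQ, rfl⟩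
        exact ⟨P * Q, hP.mul hQ, map_mul _ _ _⟩ }
  have hS : Disjoint ((⊥ : Ideal B) : Set B) (S : Set B) := by
    rw [Set.disjoint_left]
    rintro y hy ⟨P, hP, hPy⟩
    rw [SetLike.mem_coe, Ideal.mem_bot] at hy
    exact hx ⟨P, hP, by rw [← aeval_def, hPy, hy]⟩
  obtain ⟨q, hq, -, hqS⟩ := Ideal.exists_le_prime_disjoint _ S hS
  obtain ⟨P, hP, hPx⟩ := h q hq
  rw [← aeval_def] at hPx
  have h1 : aeval (Ideal.Quotient.mk q x) P = Ideal.Quotient.mk q (aeval x P) :=
    Polynomial.aeval_algHom_apply (Ideal.Quotient.mkₐ R q) x P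
  rw [h1, Ideal.Quotient.eq_zero_iff_mem] at hPx
  exact (Set.disjoint_left.mp hqS) hPx ⟨P, hP, rfl⟩

/-- Kronecker's theorem for the factors of a rank one matrix. -/
theorem isIntegral_coeff' {ι : Type*} (f g : ι → B[X]) (s : Finset ι)
    (hfg : ∀ i j m, IsIntegral R ((f i * g j).coeff m)) (hf0 : ∀ i, IsIntegral R ((f i).coeff 0))
    (h1 : ∑ i ∈ s, (f i).coeff 0 * (g i).coeff 0 = 1) (i : ι) (m : ℕ) :
    IsIntegral R ((f i).coeff m) := by
  refine isIntegral_of_forall_prime _ fun q hq => ?_
  let K := FractionRing (B ⧸ q)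
  let π : B →+* K := (algebraMap (B ⧸ q) K).comp (Ideal.Quotient.mk q)
  let πₐ : B →ₐ[R] K := (IsScalarTower.toAlgHom R (B ⧸ q) K).comp (Ideal.Quotient.mkₐ R q)
  have hπ : ∀ b, πₐ b = π b := fun _ => rfl
  have h2 := isIntegral_coeff (A := R) (K := K) (fun i => (f i).map π) (fun i => (g i).map π) s (fun i j m => by
      rw [← Polynomial.map_mul, coeff_map, ← hπ]
      exact (hfg i j m).map πₐ) (fun i => by rw [coeff_map, ← hπ]; exact (hf0 i).map πₐ) (by
      have h3 := congrArg π h1
      rw [map_sum, map_one] at h3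
      rw [← h3]
      refine Finset.sum_congr rfl fun i _ => ?_
      rw [coeff_map, coeff_map, map_mul]) i m
  rw [coeff_map] at h2
  exact (isIntegral_algHom_iff (IsScalarTower.toAlgHom R (B ⧸ q) K) (IsFractionRing.injective (B ⧸ q) K)).mp h2

end Int

section Cond

variable {R B : Type*} [CommRing R] [CommRing B] [Algebra R B]

theorem isReduced_fiber' [IsReduced B] (hinj : Function.Injective (algebraMap R B))
    (hR : SN R) (p : Ideal R) (hp : p ∈ ((cond R B).comap (algebraMap R B)).minimalPrimes) [p.IsPrime] :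
    IsReduced (p.ResidueField ⊗[R] B) := by
  have hrad := isRadical_cond hinj hR
  have hmin := exists_mul_mem_of_minimal (hrad.comap (algebraMap R B)) hp
  have hpp : p.IsPrime := ‹_›
  -- elements of `p B` multiplied by some `t'` are in the conductor
  have hpB : ∀ x ∈ p.map (algebraMap R B), ∃ t' ∉ p, algebraMap R B t' * x ∈ cond R B := by
    intro x hx
    rw [Ideal.map] at hx
    induction hx using Submodule.span_induction with
    | mem y hy =>
      obtain ⟨r, hr, rfl⟩ := hy
      obtain ⟨t, ht, htr⟩ := hmin r hr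
      refine ⟨t, ht, ?_⟩
      rw [← map_mul]
      exact htr
    | zero => exact ⟨1, fun h => hpp.ne_top ((Ideal.eq_top_iff_one _).mpr h), by rw [mul_zero]; exact zero_mem _⟩
    | add y z _ _ hy hz =>
      obtain ⟨t, ht, hty⟩ := hy
      obtain ⟨t', ht', htz⟩ := hz
      refine ⟨t * t', Ideal.IsPrime.mul_notMem hpp ht ht', ?_⟩
      have e : algebraMap R B (t * t') * (y + z) =
          algebraMap R B t' * (algebraMap R B t * y) + algebraMap R B t * (algebraMap R B t' * z) := by
        rw [map_mul]; ring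
      rw [e]
      exact add_mem (Ideal.mul_mem_left _ _ hty) (Ideal.mul_mem_left _ _ htz)
    | smul a y _ hy =>
      obtain ⟨t, ht, hty⟩ := hy
      exact ⟨t, ht, by rw [smul_eq_mul, mul_left_comm]; exact Ideal.mul_mem_left _ _ hty⟩
  -- scalars outside `p` are invertible on the fibre
  have hinv : ∀ r ∉ p, ∀ x : p.ResidueField ⊗[R] B, r • x = 0 → x = 0 := by
    intro r hr x hx
    have hr' : algebraMap R p.ResidueField r ≠ 0 := by
      rwa [Ne, Ideal.algebraMap_residueField_eq_zero]
    rw [← algebraMap_smul p.ResidueField r x] at hx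
    exact (smul_eq_zero.mp hx).resolve_left hr'
  rw [isReduced_iff_pow_one_lt 2 one_lt_two]
  intro x hx
  obtain ⟨r, hr, s, hs⟩ := Ideal.Fiber.exists_smul_eq_one_tmul p x
  apply hinv r hr
  rw [hs]
  have h1 : (1 : p.ResidueField) ⊗ₜ[R] (s ^ 2) = 0 := by
    have : (1 : p.ResidueField) ⊗ₜ[R] (s ^ 2) = ((1 : p.ResidueField) ⊗ₜ[R] s) ^ 2 := by
      rw [Algebra.TensorProduct.tmul_pow, one_pow]
    rw [this, ← hs, smul_pow, hx, smul_zero]
  obtain ⟨t, ht, htm⟩ := exists_of_tmul_eq_zero p _ h1
  obtain ⟨t', ht', htm'⟩ := hpB _ htm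
  have h2 : algebraMap R B (t' * t) * s ∈ cond R B := by
    refine hrad ⟨2, ?_⟩
    have e : (algebraMap R B (t' * t) * s) ^ 2 = algebraMap R B (t' * t) * (algebraMap R B t' * t • s ^ 2) := by
      rw [Algebra.smul_def, map_mul]; ring
    rw [e]
    exact Ideal.mul_mem_left _ _ htm'
  obtain ⟨r', hr', hr's⟩ := exists_of_mem_cond h2
  have h3 : (t' * t) • ((1 : p.ResidueField) ⊗ₜ[R] s) = 0 := by
    rw [← TensorProduct.tmul_smul, Algebra.smul_def, ← hr's, Algebra.algebraMap_eq_smul_one,
      ← TensorProduct.smul_tmul, Algebra.smul_def, mul_one,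
      (Ideal.algebraMap_residueField_eq_zero).mpr (hp.le hr'), TensorProduct.zero_tmul]
  exact hinv _ (Ideal.IsPrime.mul_notMem ‹_› ht' ht) _ h3

end Cond

section Main

variable {R B : Type*} [CommRing R] [CommRing B] [Algebra R B]

theorem surjective_of_finite' [Module.Finite R B] [IsReduced B]
    (hinj : Function.Injective (algebraMap R B)) (hR : SN R) {ι : Type*} (s : Finset ι)
    (f g : ι → B[X]) (m : ι → ι → R[X]) (hm : ∀ i j, f i * g j = (m i j).map (algebraMap R B))
    (f0 g0 : ι → R) (hf0 : ∀ i, (f i).coeff 0 = algebraMap R B (f0 i))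
    (hg0 : ∀ i, (g i).coeff 0 = algebraMap R B (g0 i)) (h1 : ∑ i ∈ s, f i * g i = 1)
    (hgen : Algebra.adjoin R (coeffs s f g) = ⊤) : Function.Surjective (algebraMap R B) := by
  by_contra hns
  -- the conductor is a proper ideal
  have hne : (cond R B).comap (algebraMap R B) ≠ ⊤ := by
    intro htop
    apply hns
    intro b
    have h2 : (1 : R) ∈ (cond R B).comap (algebraMap R B) := htop ▸ Submodule.mem_top
    rw [Ideal.mem_comap, map_one] at h2
    obtain ⟨r, hr⟩ := h2 b
    exact ⟨r, by rw [hr, one_mul]⟩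
  obtain ⟨p, hp⟩ := Ideal.nonempty_minimalPrimes hne
  have hpp : p.IsPrime := hp.isPrime
  have hred := isReduced_fiber' hinj hR p hp
  -- the polynomials in the fibre
  let D := p.ResidueField ⊗[R] B
  let ψ : B →+* D := (Algebra.TensorProduct.includeRight : B →ₐ[R] D).toRingHom
  have hψ : ψ.comp (algebraMap R B) = (algebraMap p.ResidueField D).comp (algebraMap R p.ResidueField) := by
    ext r
    change ψ (algebraMap R B r) = algebraMap p.ResidueField D (algebraMap R p.ResidueField r)
    rw [← IsScalarTower.algebraMap_apply]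
    exact (Algebra.TensorProduct.includeRight : B →ₐ[R] D).commutes r
  have key : ∀ (f g : ι → B[X]) (m : ι → ι → R[X]) (f0 g0 : ι → R)
      (_ : ∀ i j, f i * g j = (m i j).map (algebraMap R B))
      (_ : ∀ i, (f i).coeff 0 = algebraMap R B (f0 i)) (_ : ∀ i, (g i).coeff 0 = algebraMap R B (g0 i))
      (_ : ∑ i ∈ s, f i * g i = 1), ∀ i ∈ s, ∃ f' : p.ResidueField[X],
        (f i).map ψ = f'.map (algebraMap p.ResidueField D) := by
    intro f g m f0 g0 hm hf0 hg0 h1
    refine field_case s (fun i => (f i).map ψ) (fun i => (g i).map ψ)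
      (fun i j => (m i j).map (algebraMap R p.ResidueField)) ?_ (fun i => algebraMap R p.ResidueField (f0 i))
      (fun i => algebraMap R p.ResidueField (g0 i)) ?_ ?_ ?_
    · intro i j
      rw [← Polynomial.map_mul, hm, Polynomial.map_map, Polynomial.map_map, hψ]
    · intro i
      rw [coeff_map, hf0]
      exact RingHom.congr_fun hψ _
    · intro i
      rw [coeff_map, hg0]
      exact RingHom.congr_fun hψ _
    · simp_rw [← Polynomial.map_mul]
      rw [← Polynomial.map_sum, h1, Polynomial.map_one]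
  have hf := key f g m f0 g0 hm hf0 hg0 h1
  have hg := key g f (fun i j => m j i) g0 f0 (fun i j => by rw [mul_comm, hm]) hg0 hf0 (by
    rw [← h1]; exact Finset.sum_congr rfl fun i _ => mul_comm _ _)
  -- so all elements of `B` come from the residue field
  have hall : ∀ b : B, ∃ c : p.ResidueField, (1 : p.ResidueField) ⊗ₜ[R] b = c ⊗ₜ[R] (1 : B) := by
    intro b
    let T : Subalgebra R B := ((Algebra.ofId p.ResidueField D).range.restrictScalars R).comap
      (Algebra.TensorProduct.includeRight : B →ₐ[R] D)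
    have hT : ⊤ ≤ T := by
      rw [← hgen, Algebra.adjoin_le_iff]
      rintro c ⟨i, hi, n, hc | hc⟩
      · obtain ⟨f', hf'⟩ := hf i hi
        refine ⟨f'.coeff n, ?_⟩
        have := congrArg (fun q : D[X] => q.coeff n) hf'
        simp only [coeff_map] at this
        rw [hc]
        exact this.symm
      · obtain ⟨g', hg'⟩ := hg i hi
        refine ⟨g'.coeff n, ?_⟩
        have := congrArg (fun q : D[X] => q.coeff n) hg'
        simp only [coeff_map] at this
        rw [hc]
        exact this.symm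
    obtain ⟨c, hc⟩ := hT (Algebra.mem_top : b ∈ ⊤)
    exact ⟨c, hc.symm⟩
  have hsub := subsingleton_fiber_quot p hall
  -- contradiction with the support
  have hsup : (⟨p, hpp⟩ : PrimeSpectrum R) ∈ Module.support R (B ⧸ LinearMap.range (Algebra.linearMap R B)) := by
    rw [Module.mem_support_iff_of_finite]
    intro r hr
    refine hp.le ?_
    rw [Ideal.mem_comap, mem_cond]
    intro t
    rw [Module.mem_annihilator] at hr
    have h2 := hr (Submodule.mkQ _ t)
    rw [← map_smul, Submodule.mkQ_apply, Submodule.Quotient.mk_eq_zero] at h2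
    obtain ⟨c, hc⟩ := h2
    exact ⟨c, by rw [← Algebra.smul_def, ← hc]; rfl⟩
  rw [Module.mem_support_iff_nontrivial_residueField_tensorProduct] at hsup
  exact not_nontrivial _ hsup

theorem coeff_mem_range' [IsReduced B]
    (hinj : Function.Injective (algebraMap R B)) (hR : SN R) {ι : Type*} [Fintype ι]
    (f g : ι → B[X]) (m : ι → ι → R[X]) (hm : ∀ i j, f i * g j = (m i j).map (algebraMap R B))
    (f0 g0 : ι → R) (hf0 : ∀ i, (f i).coeff 0 = algebraMap R B (f0 i))
    (hg0 : ∀ i, (g i).coeff 0 = algebraMap R B (g0 i)) (h1 : ∑ i, f i * g i = 1) :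
    ∀ i n, (f i).coeff n ∈ (algebraMap R B).range ∧ (g i).coeff n ∈ (algebraMap R B).range := by
  classical
  have hc10 : ∑ i, (f i).coeff 0 * (g i).coeff 0 = 1 := by
    have := congrArg (fun a : B[X] => a.coeff 0) h1
    simpa only [finsetSum_coeff, mul_coeff_zero, coeff_one_zero] using this
  have hfi : ∀ i n, IsIntegral R ((f i).coeff n) := by
    intro i k
    refine isIntegral_coeff' f g Finset.univ (fun i j m => ?_) (fun i => ?_) hc10 i k
    · rw [hm, coeff_map]; exact isIntegral_algebraMap
    · rw [hf0]; exact isIntegral_algebraMap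
  have hgi : ∀ i n, IsIntegral R ((g i).coeff n) := by
    intro i k
    refine isIntegral_coeff' g f Finset.univ (fun i j m => ?_) (fun i => ?_) ?_ i k
    · rw [mul_comm, hm, coeff_map]; exact isIntegral_algebraMap
    · rw [hg0]; exact isIntegral_algebraMap
    · rw [← hc10]; exact Finset.sum_congr rfl fun i _ => mul_comm _ _
  let C := Algebra.adjoin R (coeffs Finset.univ f g)
  have hC : Module.Finite R C := Algebra.finite_adjoin_of_finite_of_isIntegral (finite_coeffs _ f g) (by
    rintro c ⟨i, -, n, hc | hc⟩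
    · rw [hc]; exact hfi i n
    · rw [hc]; exact hgi i n)
  have hCinj : Function.Injective (algebraMap C B) := Subtype.val_injective
  have hRC : Function.Injective (algebraMap R C) := by
    have h := hinj
    rw [IsScalarTower.algebraMap_eq R C B, RingHom.coe_comp] at h
    exact Function.Injective.of_comp h
  have hCred : IsReduced C := isReduced_of_injective _ hCinj
  have hfC : ∀ i, ∃ F : C[X], F.map (algebraMap C B) = f i := by
    intro i
    rw [← Polynomial.mem_lifts, Polynomial.lifts_iff_coeff_lifts]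
    exact fun n => ⟨⟨(f i).coeff n, Algebra.subset_adjoin ⟨i, Finset.mem_univ i, n, Or.inl rfl⟩⟩, rfl⟩
  have hgC : ∀ i, ∃ G : C[X], G.map (algebraMap C B) = g i := by
    intro i
    rw [← Polynomial.mem_lifts, Polynomial.lifts_iff_coeff_lifts]
    exact fun n => ⟨⟨(g i).coeff n, Algebra.subset_adjoin ⟨i, Finset.mem_univ i, n, Or.inr rfl⟩⟩, rfl⟩
  choose F hF using hfC
  choose G hG using hgC
  have hmapinj : Function.Injective (Polynomial.map (algebraMap C B)) := Polynomial.map_injective _ hCinj
  have hsurj : Function.Surjective (algebraMap R C) := by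
    refine surjective_of_finite' hRC hR Finset.univ F G m ?_ f0 g0 ?_ ?_ ?_ ?_
    · intro i j
      apply hmapinj
      rw [Polynomial.map_mul, hF, hG, hm, Polynomial.map_map, ← IsScalarTower.algebraMap_eq]
    · intro i
      apply hCinj
      rw [← coeff_map, hF, hf0, ← IsScalarTower.algebraMap_apply]
    · intro i
      apply hCinj
      rw [← coeff_map, hG, hg0, ← IsScalarTower.algebraMap_apply]
    · apply hmapinj
      rw [Polynomial.map_sum, Polynomial.map_one, ← h1]
      exact Finset.sum_congr rfl fun i _ => by rw [Polynomial.map_mul, hF, hG]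
    · rw [eq_top_iff]
      have hval : (Algebra.adjoin R (coeffs Finset.univ F G)).map C.val = C := by
        rw [AlgHom.map_adjoin]
        congr 1
        ext c
        constructor
        · rintro ⟨d, ⟨i, hi, n, hd | hd⟩, rfl⟩
          · refine ⟨i, hi, n, Or.inl ?_⟩
            rw [hd, ← hF i, coeff_map]; rfl
          · refine ⟨i, hi, n, Or.inr ?_⟩
            rw [hd, ← hG i, coeff_map]; rfl
        · rintro ⟨i, hi, n, hc | hc⟩
          · refine ⟨(F i).coeff n, ⟨i, hi, n, Or.inl rfl⟩, ?_⟩
            rw [hc, ← hF i, coeff_map]; rfl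
          · refine ⟨(G i).coeff n, ⟨i, hi, n, Or.inr rfl⟩, ?_⟩
            rw [hc, ← hG i, coeff_map]; rfl
      rintro ⟨x, hx⟩ -
      rw [← hval] at hx
      obtain ⟨y, hy, hyx⟩ := hx
      have : y = ⟨x, by rw [← hyx]; exact y.2⟩ := Subtype.ext hyx
      rw [← this]
      exact hy
  intro i n
  constructor
  · obtain ⟨r, hr⟩ := hsurj ((F i).coeff n)
    refine ⟨r, ?_⟩
    rw [IsScalarTower.algebraMap_apply R C B, hr, ← coeff_map, hF]
  · obtain ⟨r, hr⟩ := hsurj ((G i).coeff n)
    refine ⟨r, ?_⟩
    rw [IsScalarTower.algebraMap_apply R C B, hr, ← coeff_map, hG]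

end Main

section Gen

variable {A : Type*} [CommRing A]

theorem natDegree_le_of_factor {K : Type*} [Field K] {n : ℕ} (F G : Fin n → K[X]) (h1 : ∑ i, F i * G i = 1) (D : ℕ)
    (hD : ∀ i j, (F i * G j).natDegree ≤ D) (i : Fin n) : (F i).natDegree ≤ D := by
  obtain ⟨j, -, hj⟩ := Finset.exists_ne_zero_of_sum_ne_zero (by rw [h1]; exact one_ne_zero :
    ∑ i, F i * G i ≠ 0)
  have hG : G j ≠ 0 := right_ne_zero_of_mul hj
  by_cases hF : F i = 0
  · rw [hF, natDegree_zero]; exact Nat.zero_le _
  · have h2 := hD i j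
    rw [natDegree_mul hF hG] at h2
    omega

/-- assembling polynomials over a product from polynomials of bounded degree. -/
theorem exists_pi {Q : Type*} (K : Q → Type*) [∀ q, CommRing (K q)] (D : ℕ) (F : ∀ q, (K q)[X])
    (hF : ∀ q, (F q).natDegree ≤ D) : ∃ f : (∀ q, K q)[X], ∀ k q, f.coeff k q = (F q).coeff k := by
  refine ⟨∑ k ∈ Finset.range (D + 1), C (fun q => (F q).coeff k) * X ^ k, fun k q => ?_⟩
  rw [finsetSum_coeff]
  simp only [coeff_C_mul_X_pow]
  rw [Finset.sum_ite_eq]
  split_ifs with h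
  · rfl
  · rw [Finset.mem_range, not_lt] at h
    rw [coeff_eq_zero_of_natDegree_lt (lt_of_le_of_lt (hF q) (by omega))]
    rfl

/-- Overring version. -/
theorem exists_mem' (hA : SN A) {Q : Type*} (K : Q → Type*)
    [∀ q, Field (K q)] [∀ q, Algebra A (K q)] (hinj : Function.Injective (algebraMap A (∀ q, K q)))
    {P : Type*} [AddCommGroup P] [Module A[X] P] [Module.Invertible A[X] P] {n : ℕ}
    (e : Fin n → P) (e' : Fin n → (P →ₗ[A[X]] A[X])) (hee : ∀ p : P, ∑ i, e' i p • e i = p)
    (f0 g0 : Fin n → A) (hm0 : ∀ i j, (e' j (e i)).coeff 0 = f0 i * g0 j) (h10 : ∑ i, f0 i * g0 i = 1) :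
    ∃ f g : Fin n → A[X], (∀ i j, f i * g j = e' j (e i)) ∧ ∑ i, f i * g i = 1 ∧
      (∀ i, (f i).coeff 0 = f0 i) ∧ (∀ i, (g i).coeff 0 = g0 i) := by
  classical
  have h1 : ∀ q : Q, ∃ f' g' : Fin n → (K q)[X], (∀ i j, f' i * g' j = (e' j (e i)).map (algebraMap A (K q))) ∧
      ∑ i, f' i * g' i = 1 ∧ (∀ i, (f' i).coeff 0 = algebraMap A (K q) (f0 i)) ∧
      (∀ i, (g' i).coeff 0 = algebraMap A (K q) (g0 i)) := by
    intro q
    obtain ⟨f, g, h1, h2⟩ := exists_factor (K := K q) e e' hee
    exact exists_normalized (fun i j => e' j (e i)) f0 g0 hm0 h10 f g h1 h2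
  choose F G hFG hFG1 hF0 hG0 using h1
  -- degree bound
  let D : ℕ := Finset.univ.sup fun p : Fin n × Fin n => (e' p.2 (e p.1)).natDegree
  have hD : ∀ i j, (e' j (e i)).natDegree ≤ D := fun i j =>
    Finset.le_sup (f := fun p : Fin n × Fin n => (e' p.2 (e p.1)).natDegree) (Finset.mem_univ (i, j))
  have hFD : ∀ q i, (F q i).natDegree ≤ D := fun q i =>
    natDegree_le_of_factor (F q) (G q) (hFG1 q) D (fun i j => by
      rw [hFG]; exact natDegree_map_le.trans (hD i j)) i
  have hGD : ∀ q i, (G q i).natDegree ≤ D := fun q i =>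
    natDegree_le_of_factor (G q) (F q) (by
      rw [← hFG1 q]; exact Finset.sum_congr rfl fun i _ => mul_comm _ _) D (fun i j => by
      rw [mul_comm, hFG]; exact natDegree_map_le.trans (hD j i)) i
  choose f hfc using fun i => exists_pi K D (fun q => F q i) (fun q => hFD q i)
  choose g hgc using fun i => exists_pi K D (fun q => G q i) (fun q => hGD q i)
  have hfq : ∀ i q, (f i).map (Pi.evalRingHom K q) = F q i := by
    intro i q
    ext k
    rw [coeff_map]
    exact hfc i k q
  have hgq : ∀ i q, (g i).map (Pi.evalRingHom K q) = G q i := by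
    intro i q
    ext k
    rw [coeff_map]
    exact hgc i k q
  have hext : ∀ a b : (∀ q, K q)[X], (∀ q, a.map (Pi.evalRingHom K q) = b.map (Pi.evalRingHom K q)) → a = b := by
    intro a b h
    ext k : 1
    funext q
    have h2 := congrArg (fun p : (K q)[X] => p.coeff k) (h q)
    simp only [coeff_map] at h2
    exact h2
  have hcomp : ∀ q, (Pi.evalRingHom K q).comp (algebraMap A (∀ q, K q)) = algebraMap A (K q) := fun q => rfl
  have hm : ∀ i j, f i * g j = (e' j (e i)).map (algebraMap A (∀ q, K q)) := by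
    intro i j
    refine hext _ _ fun q => ?_
    rw [Polynomial.map_mul, hfq, hgq, hFG, Polynomial.map_map, hcomp]
  have hsum : ∑ i, f i * g i = 1 := by
    refine hext _ _ fun q => ?_
    rw [Polynomial.map_sum, Polynomial.map_one, ← hFG1 q]
    exact Finset.sum_congr rfl fun i _ => by rw [Polynomial.map_mul, hfq, hgq]
  have hf0 : ∀ i, (f i).coeff 0 = algebraMap A (∀ q, K q) (f0 i) := by
    intro i
    funext q
    rw [hfc, hF0]; rfl
  have hg0 : ∀ i, (g i).coeff 0 = algebraMap A (∀ q, K q) (g0 i) := by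
    intro i
    funext q
    rw [hgc, hG0]; rfl
  have hmem := coeff_mem_range' hinj hA f g (fun i j => e' j (e i)) hm f0 g0 hf0 hg0 hsum
  have hf : ∀ i, ∃ f' : A[X], f'.map (algebraMap A (∀ q, K q)) = f i := by
    intro i
    rw [← Polynomial.mem_lifts, Polynomial.lifts_iff_coeff_lifts]
    exact fun k => (hmem i k).1
  have hg : ∀ i, ∃ g' : A[X], g'.map (algebraMap A (∀ q, K q)) = g i := by
    intro i
    rw [← Polynomial.mem_lifts, Polynomial.lifts_iff_coeff_lifts]
    exact fun k => (hmem i k).2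
  choose f' hf' using hf
  choose g' hg' using hg
  have hmi : Function.Injective (Polynomial.map (algebraMap A (∀ q, K q))) := Polynomial.map_injective _ hinj
  refine ⟨f', g', fun i j => hmi ?_, hmi ?_, fun i => hinj ?_, fun i => hinj ?_⟩
  · rw [Polynomial.map_mul, hf', hg', hm]
  · rw [Polynomial.map_sum, Polynomial.map_one, ← hsum]
    exact Finset.sum_congr rfl fun i _ => by rw [Polynomial.map_mul, hf', hg']
  · rw [← coeff_map, hf', hf0]
  · rw [← coeff_map, hg', hg0]

/-- **Traverso's theorem** without Noetherian hypotheses. -/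
theorem exists_generator (hA : SN A) {P : Type*} [AddCommGroup P] [Module A[X] P]
    [Module.Invertible A[X] P] (ψ : P →+ A) (hψ : ∀ (a : A[X]) (p : P), ψ (a • p) = a.coeff 0 * ψ p)
    (p₀ : P) (hp₀ : ψ p₀ = 1) :
    ∃ e : P, ψ e = 1 ∧ Function.Bijective (LinearMap.toSpanSingleton A[X] P e) := by
  obtain ⟨n, F, G, -, -, hFG⟩ := Module.Finite.exists_comp_eq_id_of_projective A[X] P
  let e : Fin n → P := fun i => F (Pi.single i 1)
  let e' : Fin n → (P →ₗ[A[X]] A[X]) := fun i => LinearMap.proj i ∘ₗ G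
  have hee : ∀ p : P, ∑ i, e' i p • e i = p := by
    intro p
    have h1 : G p = ∑ i, e' i p • (Pi.single i 1 : Fin n → A[X]) := by
      funext j
      simp [e', Finset.sum_apply, Pi.single_apply]
    have h2 : F (G p) = p := LinearMap.congr_fun hFG p
    rw [h1, map_sum] at h2
    rw [← h2]
    refine Finset.sum_congr rfl fun i _ => ?_
    rw [map_smul, h2]
  let f0 : Fin n → A := fun i => ψ (e i)
  let g0 : Fin n → A := fun j => (e' j p₀).coeff 0
  have hm0 : ∀ i j, (e' j (e i)).coeff 0 = f0 i * g0 j := by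
    intro i j
    have h1 : (e' j (e i)) • p₀ = (e' j p₀) • e i := by
      have h := Module.Invertible.tmul_comm (R := A[X]) (m₁ := e i) (m₂ := p₀)
      have h2 := congrArg (TensorProduct.lift ((LinearMap.lsmul A[X] P) ∘ₗ e' j)) h
      simpa using h2
    have h2 := congrArg ψ h1
    rw [hψ, hψ, hp₀, mul_one] at h2
    rw [h2, mul_comm]
  have h10 : ∑ i, f0 i * g0 i = 1 := by
    rw [← hp₀]
    conv_rhs => rw [← hee p₀, map_sum]
    refine Finset.sum_congr rfl fun i _ => ?_
    rw [hψ, mul_comm]
  -- the residue fields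
  have hred := hA.isReduced
  have hinj : Function.Injective (algebraMap A (∀ q : PrimeSpectrum A, q.asIdeal.ResidueField)) := by
    rw [injective_iff_map_eq_zero]
    intro a ha
    have h1 : a ∈ nilradical A := by
      rw [nilradical_eq_sInf, Ideal.mem_sInf]
      intro p hp
      have hp' : p.IsPrime := hp
      have := congrFun ha ⟨p, hp'⟩
      exact Ideal.algebraMap_residueField_eq_zero.mp this
    rw [nilradical_eq_zero] at h1
    exact h1
  obtain ⟨f, g, hfg, h1, hf0, hg0⟩ := exists_mem' hA (fun q : PrimeSpectrum A => q.asIdeal.ResidueField) hinj e e' hee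
    f0 g0 hm0 h10
  -- the generator
  let ε : P := ∑ i, g i • e i
  let ε' : P →ₗ[A[X]] A[X] := ∑ i, f i • e' i
  have he : ∀ j, e j = f j • ε := by
    intro j
    rw [Finset.smul_sum]
    conv_lhs => rw [← hee (e j)]
    refine Finset.sum_congr rfl fun i _ => ?_
    rw [smul_smul, hfg]
  have hεε : ε' ε = 1 := by
    have : ∀ i ∈ Finset.univ, (f i • e' i) ε = f i * g i := by
      intro i _
      rw [LinearMap.smul_apply, smul_eq_mul]
      congr 1
      simp only [ε, map_sum, map_smul, smul_eq_mul]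
      have h2 : ∀ j ∈ Finset.univ, g j * e' i (e j) = (f j * g j) * g i := by
        intro j _
        rw [← hfg]; ring
      rw [Finset.sum_congr rfl h2, ← Finset.sum_mul, h1, one_mul]
    simp only [ε', LinearMap.sum_apply]
    rw [Finset.sum_congr rfl this, h1]
  refine ⟨ε, ?_, ?_, ?_⟩
  · simp only [ε, map_sum, hψ]
    rw [← h10]
    refine Finset.sum_congr rfl fun i _ => ?_
    rw [hg0, mul_comm]
  · intro a b hab
    have h2 := congrArg ε' hab
    simp only [LinearMap.toSpanSingleton_apply, map_smul, hεε, smul_eq_mul, mul_one] at h2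
    exact h2
  · intro p
    refine ⟨∑ i, e' i p * f i, ?_⟩
    rw [LinearMap.toSpanSingleton_apply, Finset.sum_smul]
    conv_rhs => rw [← hee p]
    refine Finset.sum_congr rfl fun i _ => ?_
    rw [mul_smul, ← he]

/-- over a seminormal local ring, invertible `A[X]`-modules are free. -/
theorem free_of_isLocalRing [IsLocalRing A] (hA : SN A) (P : Type*) [AddCommGroup P] [Module A[X] P]
    [Module.Invertible A[X] P] : Module.Free A[X] P := by
  -- reduction modulo `X`
  let _ : Algebra A[X] A := (constantCoeff (R := A)).toAlgebra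
  have halg : ∀ a : A[X], algebraMap A[X] A a = a.coeff 0 := fun a => rfl
  obtain ⟨φ⟩ := (Module.Invertible.free_iff_linearEquiv (R := A) (M := A ⊗[A[X]] P)).mp
    Module.free_of_flat_of_isLocalRing
  let ψ : P →+ A := φ.toLinearMap.toAddMonoidHom.comp (TensorProduct.mk A[X] A P 1).toAddMonoidHom
  have hψdef : ∀ p, ψ p = φ (1 ⊗ₜ p) := fun _ => rfl
  have hψ : ∀ (a : A[X]) (p : P), ψ (a • p) = a.coeff 0 * ψ p := by
    intro a p
    rw [hψdef, hψdef, ← TensorProduct.smul_tmul, ← halg, Algebra.smul_def, mul_one, ← smul_eq_mul,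
      ← map_smul, TensorProduct.smul_tmul', smul_eq_mul, mul_one]
  have hsurj : ∃ p₀, ψ p₀ = 1 := by
    have h1 : ∀ z : A ⊗[A[X]] P, ∃ p : P, 1 ⊗ₜ p = z := by
      intro z
      induction z using TensorProduct.induction_on with
      | zero => exact ⟨0, TensorProduct.tmul_zero _ _⟩
      | tmul a p =>
        refine ⟨C a • p, ?_⟩
        rw [← TensorProduct.smul_tmul, Algebra.smul_def, halg, coeff_C_zero, mul_one]
      | add x y hx hy =>
        obtain ⟨p, rfl⟩ := hx
        obtain ⟨p', rfl⟩ := hy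
        exact ⟨p + p', TensorProduct.tmul_add _ _ _⟩
    obtain ⟨p, hp⟩ := h1 (φ.symm 1)
    exact ⟨p, by rw [hψdef, hp, LinearEquiv.apply_symm_apply]⟩
  obtain ⟨p₀, hp₀⟩ := hsurj
  obtain ⟨e, -, he⟩ := exists_generator hA ψ hψ p₀ hp₀
  exact Module.Free.of_equiv (LinearEquiv.ofBijective _ he)

end Gen

end K89.Seminormal
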