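import Groth.Agent.CAlg.K89.LineHens
import Groth.Agent.CAlg.K89.Seminormal

/-!
# `Pic R((t)) = 0` for a seminormal henselian local ring `R`
-/

set_option autoImplicit false
universe u

open Polynomial IsLocalRing
open scoped TensorProduct

namespace K89.SnLaurent

theorem free_laurent {R : Type u} [CommRing R] [HenselianLocalRing R] (hR : Groth.Agent.Sga7.H598.SNDef.SN R)
    (L' : Type u) [CommRing L'] (eL : L' ≃+* LaurentSeries R)
    (M' : Type u) [AddCommGroup M'] [Module L' M'] [Module.Invertible L' M'] : Module.Free L' M' := by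
  let _ : Algebra R[X] L' := ((eL.symm : LaurentSeries R →+* L').comp
    (Polynomial.eval₂RingHom (HahnSeries.C) (HahnSeries.single (-1 : ℤ) (1 : R)))).toAlgebra
  obtain ⟨M, _, _, hM, ⟨e⟩⟩ := K89.LineHens.exists_of_laurent L' eL (fun p => eL.apply_symm_apply _) M'
  have h1 : Module.Free R[X] M := K89.Seminormal.free_of_isLocalRing hR M
  exact Module.Free.of_equiv e.symm

end K89.SnLaurent
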