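import Groth.Agent.CalgB.NagataFP2
import Groth.Agent.S0563
import Mathlib.RingTheory.Valuation.ValuationRing
import Mathlib.RingTheory.Flat.TorsionFree
import Mathlib.RingTheory.Localization.AtPrime.Basic
import Mathlib.CategoryTheory.Abelian.Projective.Dimension
import Mathlib.Algebra.Category.ModuleCat.Abelian
import Mathlib.Algebra.Category.ModuleCat.Projective
import Mathlib.Algebra.Homology.ShortComplex.ModuleCat
import Mathlib.LinearAlgebra.TensorProduct.Quotient
import Mathlib.LinearAlgebra.Dual.Lemmas
import Mathlib.RingTheory.LocalRing.Module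

/-!
# Projective dimension over essentially finite type algebras over a valuation ring

* `mem_smul_of_mem`: `K ∩ I F = I K` when `F/K` is torsion free over the valuation ring `V` and `I` is extended
  from `V`.
* `pd_le_of_fibre`: for a local ring `R` essentially of finite type over a valuation ring `V`, a proper ideal
  `I = pR` extended from `V`, and a finite `V`-flat `R`-module `M`: `pd_R M ≤ pd_{R/I} M/IM`.
-/

set_option autoImplicit false
universe u

open CategoryTheory

namespace K89.ValPd

section Smul

variable {V R F M : Type*} [CommRing V] [IsDomain V] [ValuationRing V] [CommRing R] [Algebra V R]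
  [AddCommGroup F] [Module R F] [Module V F] [IsScalarTower V R F]
  [AddCommGroup M] [Module R M] [Module V M] [IsScalarTower V R M]

theorem exists_smul_of_mem (p : Ideal V) (x : F)
    (hx : x ∈ (p.map (algebraMap V R)) • (⊤ : Submodule R F)) : ∃ c ∈ p, ∃ f : F, x = c • f := by
  let S : Submodule R F :=
    { carrier := {x | ∃ c ∈ p, ∃ f : F, x = c • f}
      zero_mem' := ⟨0, p.zero_mem, 0, by simp⟩
      add_mem' := by
        rintro _ _ ⟨c, hc, f, rfl⟩ ⟨d, hd, g, rfl⟩
        obtain ⟨e, he | he⟩ := ValuationRing.cond c d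
        · refine ⟨c, hc, f + e • g, ?_⟩
          rw [← he, smul_add, mul_smul]
        · refine ⟨d, hd, e • f + g, ?_⟩
          rw [← he, smul_add, mul_smul]
      smul_mem' := by
        rintro r _ ⟨c, hc, f, rfl⟩
        exact ⟨c, hc, r • f, by rw [← algebraMap_smul R c, ← algebraMap_smul R c, smul_comm]⟩ }
  have hS : (p.map (algebraMap V R)) • (⊤ : Submodule R F) ≤ S := by
    rw [Submodule.smul_le]
    intro r hr f _
    induction hr using Submodule.span_induction with
    | mem r hr =>
      obtain ⟨c, hc, rfl⟩ := hr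
      exact ⟨c, hc, f, by rw [algebraMap_smul]⟩
    | zero => rw [zero_smul]; exact S.zero_mem
    | add a b _ _ ha hb => rw [add_smul]; exact S.add_mem ha hb
    | smul a b _ hb => rw [smul_eq_mul, mul_smul]; exact S.smul_mem a hb
  exact hS hx

/-- `K ∩ I F = I K` for `K` the kernel of a map to a `V`-torsion free module. -/
theorem mem_smul_ker (p : Ideal V) (f : F →ₗ[R] M) [Module.IsTorsionFree V M]
    (x : LinearMap.ker f) (hx : (x : F) ∈ (p.map (algebraMap V R)) • (⊤ : Submodule R F)) :
    x ∈ (p.map (algebraMap V R)) • (⊤ : Submodule R (LinearMap.ker f)) := by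
  obtain ⟨c, hc, y, hy⟩ := exists_smul_of_mem p (x : F) hx
  rcases eq_or_ne c 0 with rfl | hc0
  · have : x = 0 := Subtype.ext (by rw [hy, zero_smul]; rfl)
    rw [this]; exact zero_mem _
  · have h1 : c • f y = 0 := by
      have h2 := x.2
      rw [LinearMap.mem_ker, hy, ← algebraMap_smul R c, map_smul, algebraMap_smul] at h2
      exact h2
    have h3 : f y = 0 := by
      rcases smul_eq_zero.mp h1 with h | h
      · exact absurd h hc0
      · exact h
    have h4 : x = algebraMap V R c • (⟨y, h3⟩ : LinearMap.ker f) :=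
      Subtype.ext (by rw [hy, ← algebraMap_smul R c]; rfl)
    rw [h4]
    exact Submodule.smul_mem_smul (Ideal.mem_map_of_mem _ hc) trivial

end Smul

section Quot

variable {R : Type u} [CommRing R] (I : Ideal R)

/-- `M ↦ M/IM` on maps. -/
noncomputable def qmap {M N : Type u} [AddCommGroup M] [Module R M] [AddCommGroup N] [Module R N]
    (f : M →ₗ[R] N) :
    (M ⧸ I • (⊤ : Submodule R M)) →ₗ[R ⧸ I] (N ⧸ I • (⊤ : Submodule R N)) :=
  LinearMap.extendScalarsOfSurjective (R := R) Ideal.Quotient.mk_surjective
    (Submodule.mapQ _ _ f (by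
      rw [Submodule.smul_le]
      intro r hr x _
      rw [Submodule.mem_comap, map_smul]
      exact Submodule.smul_mem_smul hr trivial))

theorem qmap_mk {M N : Type u} [AddCommGroup M] [Module R M] [AddCommGroup N] [Module R N]
    (f : M →ₗ[R] N) (x : M) :
    qmap I f (Submodule.Quotient.mk x) = Submodule.Quotient.mk (f x) := rfl

theorem projective_quot {M : Type u} [AddCommGroup M] [Module R M] [Module.Projective R M] :
    Module.Projective (R ⧸ I) (M ⧸ I • (⊤ : Submodule R M)) := by
  have e : TensorProduct R (R ⧸ I) M ≃ₗ[R ⧸ I] (M ⧸ I • (⊤ : Submodule R M)) :=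
    LinearEquiv.extendScalarsOfSurjective (R := R) Ideal.Quotient.mk_surjective
      (TensorProduct.quotTensorEquivQuotSMul M I)
  exact Module.Projective.of_equiv e

theorem finite_quot {M : Type u} [AddCommGroup M] [Module R M] [Module.Finite R M] :
    Module.Finite (R ⧸ I) (M ⧸ I • (⊤ : Submodule R M)) :=
  Module.Finite.of_restrictScalars_finite R (R ⧸ I) _

theorem qmap_surjective {M N : Type u} [AddCommGroup M] [Module R M] [AddCommGroup N] [Module R N]
    (f : M →ₗ[R] N) (hf : Function.Surjective f) : Function.Surjective (qmap I f) := by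
  intro y
  obtain ⟨y, rfl⟩ := Submodule.Quotient.mk_surjective _ y
  obtain ⟨x, rfl⟩ := hf y
  exact ⟨Submodule.Quotient.mk x, rfl⟩

theorem qmap_exact {M N : Type u} [AddCommGroup M] [Module R M] [AddCommGroup N] [Module R N]
    (f : M →ₗ[R] N) (hf : Function.Surjective f) (x : M ⧸ I • (⊤ : Submodule R M)) (hx : qmap I f x = 0) :
    ∃ y, qmap I (LinearMap.ker f).subtype y = x := by
  obtain ⟨x, rfl⟩ := Submodule.Quotient.mk_surjective _ x
  rw [qmap_mk, Submodule.Quotient.mk_eq_zero] at hx
  have h1 : I • (⊤ : Submodule R N) = (I • (⊤ : Submodule R M)).map f := by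
    rw [Submodule.map_smul'', Submodule.map_top, LinearMap.range_eq_top.mpr hf]
  rw [h1] at hx
  obtain ⟨z, hz, hzx⟩ := hx
  have h2 : f (x - z) = 0 := by rw [map_sub, hzx, sub_self]
  refine ⟨Submodule.Quotient.mk ⟨x - z, h2⟩, ?_⟩
  rw [qmap_mk, Submodule.Quotient.eq]
  change x - z - x ∈ _
  rw [sub_sub_cancel_left]
  exact Submodule.neg_mem _ hz

theorem qmap_comp_ker {M N : Type u} [AddCommGroup M] [Module R M] [AddCommGroup N] [Module R N]
    (f : M →ₗ[R] N) (x : LinearMap.ker f ⧸ I • (⊤ : Submodule R (LinearMap.ker f))) :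
    qmap I f (qmap I (LinearMap.ker f).subtype x) = 0 := by
  obtain ⟨x, rfl⟩ := Submodule.Quotient.mk_surjective _ x
  have : f x = 0 := x.2
  rw [qmap_mk, qmap_mk, Submodule.subtype_apply, this, Submodule.Quotient.mk_zero]

theorem pd_of_equiv {M N : Type u} [AddCommGroup M] [Module R M] [AddCommGroup N] [Module R N]
    (e : M ≃ₗ[R] N) (n : ℕ) (_ : HasProjectiveDimensionLE (ModuleCat.of R M) n) :
    HasProjectiveDimensionLE (ModuleCat.of R N) n :=
  hasProjectiveDimensionLT_of_iso e.toModuleIso _

/-- the short exact sequence of a surjection. -/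
noncomputable def kerSeq {M N : Type u} [AddCommGroup M] [Module R M] [AddCommGroup N] [Module R N]
    (f : M →ₗ[R] N) : ShortComplex (ModuleCat.{u} R) :=
  ShortComplex.mk (ModuleCat.ofHom (LinearMap.ker f).subtype) (ModuleCat.ofHom f) (by ext x; exact x.2)

theorem kerSeq_shortExact {M N : Type u} [AddCommGroup M] [Module R M] [AddCommGroup N] [Module R N]
    (f : M →ₗ[R] N) (hf : Function.Surjective f) : (kerSeq f).ShortExact := by
  refine { exact := ?_, mono_f := ?_, epi_g := ?_ }
  · rw [ShortComplex.moduleCat_exact_iff]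
    intro x hx
    exact ⟨⟨x, hx⟩, rfl⟩
  · rw [ModuleCat.mono_iff_injective]
    exact (LinearMap.ker f).injective_subtype
  · rw [ModuleCat.epi_iff_surjective]
    exact hf

/-- the quotient sequence. -/
noncomputable def quotSeq {M N : Type u} [AddCommGroup M] [Module R M] [AddCommGroup N] [Module R N]
    (f : M →ₗ[R] N) : ShortComplex (ModuleCat.{u} (R ⧸ I)) :=
  ShortComplex.mk (ModuleCat.ofHom (qmap I (LinearMap.ker f).subtype)) (ModuleCat.ofHom (qmap I f))
    (ModuleCat.hom_ext (LinearMap.ext (qmap_comp_ker I f)))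

theorem quotSeq_shortExact {M N : Type u} [AddCommGroup M] [Module R M] [AddCommGroup N] [Module R N]
    (f : M →ₗ[R] N) (hf : Function.Surjective f)
    (h : Function.Injective (qmap I (LinearMap.ker f).subtype)) : (quotSeq I f).ShortExact := by
  refine { exact := ?_, mono_f := ?_, epi_g := ?_ }
  · rw [ShortComplex.moduleCat_exact_iff]
    intro x hx
    exact qmap_exact I f hf x hx
  · rw [ModuleCat.mono_iff_injective]
    exact h
  · rw [ModuleCat.epi_iff_surjective]
    exact qmap_surjective I f hf

end Quot

section Main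

variable {V R : Type u} [CommRing V] [IsDomain V] [ValuationRing V] [CommRing R] [IsLocalRing R]
  [Algebra V R] [Algebra.EssFiniteType V R]

theorem free_of_fibre (p : Ideal V) (hp : p.map (algebraMap V R) ≤ IsLocalRing.maximalIdeal R)
    (M : Type u) [AddCommGroup M] [Module R M] [Module V M] [IsScalarTower V R M] [Module.Finite R M]
    [Module.Flat V M]
    (h : Module.Projective (R ⧸ p.map (algebraMap V R)) (M ⧸ (p.map (algebraMap V R)) • (⊤ : Submodule R M))) :
    Module.Free R M := by
  set I := p.map (algebraMap V R) with hI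
  have hne : I ≠ ⊤ := fun h => (IsLocalRing.maximalIdeal.isMaximal R).ne_top (top_le_iff.mp (h ▸ hp))
  have : Nontrivial (R ⧸ I) := Ideal.Quotient.nontrivial_iff.mpr hne
  have : IsLocalRing (R ⧸ I) := IsLocalRing.of_surjective' (Ideal.Quotient.mk I) Ideal.Quotient.mk_surjective
  have : Module.Finite (R ⧸ I) (M ⧸ I • (⊤ : Submodule R M)) := finite_quot I
  have : Module.Free (R ⧸ I) (M ⧸ I • (⊤ : Submodule R M)) := Module.free_of_flat_of_isLocalRing
  let ι := Module.Free.ChooseBasisIndex (R ⧸ I) (M ⧸ I • (⊤ : Submodule R M))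
  let b : Module.Basis ι (R ⧸ I) (M ⧸ I • (⊤ : Submodule R M)) := Module.Free.chooseBasis _ _
  choose m hm using fun i => Submodule.Quotient.mk_surjective (I • (⊤ : Submodule R M)) (b i)
  let f : (ι → R) →ₗ[R] M := Fintype.linearCombination R m
  have hbar : ∀ x : ι → R, (Submodule.Quotient.mk (f x) : M ⧸ I • (⊤ : Submodule R M)) =
      ∑ i, (Ideal.Quotient.mk I (x i)) • b i := by
    intro x
    simp only [f, Fintype.linearCombination_apply, ← hm]
    rw [← Submodule.mkQ_apply, map_sum]
    rfl
  have hjac : I ≤ (⊥ : Ideal R).jacobson := by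
    rw [IsLocalRing.jacobson_eq_maximalIdeal _ bot_ne_top]
    exact hp
  have hsurj : Function.Surjective f := by
    rw [← LinearMap.range_eq_top, eq_top_iff]
    apply Submodule.le_of_le_smul_of_le_jacobson_bot (I := I) Module.Finite.fg_top hjac
    intro y _
    obtain ⟨c, hc⟩ := (Submodule.mem_span_range_iff_exists_fun (R ⧸ I)).mp
      (show (Submodule.Quotient.mk y : M ⧸ I • (⊤ : Submodule R M)) ∈ Submodule.span (R ⧸ I) (Set.range b) by
        rw [b.span_eq]; trivial)
    choose d hd using fun i => Ideal.Quotient.mk_surjective (c i)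
    have h1 : (Submodule.Quotient.mk (f d) : M ⧸ I • (⊤ : Submodule R M)) = Submodule.Quotient.mk y := by
      rw [hbar, ← hc]
      exact Finset.sum_congr rfl fun i _ => by rw [hd]
    rw [eq_comm, Submodule.Quotient.eq] at h1
    rw [Submodule.mem_sup]
    exact ⟨f d, ⟨d, rfl⟩, y - f d, h1, by abel⟩
  have hfp : Module.FinitePresentation R M :=
    Groth.Agent.CalgB.NagataFP.finitePresentation_of_flat_essFiniteType (A := V)
  have hkfg : (LinearMap.ker f).FG := Module.FinitePresentation.fg_ker f hsurj
  have hker : LinearMap.ker f = ⊥ := by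
    have h1 : (⊤ : Submodule R (LinearMap.ker f)) ≤ I • (⊤ : Submodule R (LinearMap.ker f)) := by
      intro x _
      refine mem_smul_ker p f x ?_
      have h2 : f x = 0 := x.2
      have h3 := hbar x
      rw [h2, Submodule.Quotient.mk_zero] at h3
      have h4 := fun i => (Fintype.linearIndependent_iff.mp b.linearIndependent) _ h3.symm i
      rw [← hI]
      rw [← Finset.univ_sum_single (x : ι → R)]
      refine Submodule.sum_mem _ fun i _ => ?_
      have h5 : (Pi.single i ((x : ι → R) i) : ι → R) = (x : ι → R) i • Pi.single i 1 := by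
        ext j
        rcases eq_or_ne j i with rfl | hj
        · simp
        · simp [Pi.single_eq_of_ne hj]
      rw [h5]
      exact Submodule.smul_mem_smul (Ideal.Quotient.eq_zero_iff_mem.mp (h4 i)) trivial
    have h2 : (⊤ : Submodule R (LinearMap.ker f)).FG := (Submodule.fg_top _).mpr hkfg
    have h3 := Submodule.eq_bot_of_le_smul_of_le_jacobson_bot I _ h2 h1 hjac
    rw [← Submodule.subsingleton_iff_eq_bot]
    exact (Submodule.subsingleton_iff R).mp (subsingleton_of_bot_eq_top h3.symm)
  have e : (ι → R) ≃ₗ[R] M := LinearEquiv.ofBijective f ⟨LinearMap.ker_eq_bot.mp hker, hsurj⟩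
  exact Module.Free.of_equiv e

/-- `pd_R M ≤ pd_{R/I} M/IM` for `I = pR` and `M` finite and `V`-flat. -/
theorem pd_le_of_fibre (p : Ideal V) (hp : p.map (algebraMap V R) ≤ IsLocalRing.maximalIdeal R)
    [Module.Flat V R] (k : ℕ) :
    ∀ (M : Type u) [AddCommGroup M] [Module R M] [Module V M] [IsScalarTower V R M] [Module.Finite R M]
    [Module.Flat V M] (_ : HasProjectiveDimensionLE (ModuleCat.of (R ⧸ p.map (algebraMap V R))
      (M ⧸ (p.map (algebraMap V R)) • (⊤ : Submodule R M))) k),
    HasProjectiveDimensionLE (ModuleCat.of R M) k := by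
  set I := p.map (algebraMap V R) with hI
  induction k with
  | zero =>
    intro M _ _ _ _ _ _ h
    rw [← projective_iff_hasProjectiveDimensionLE_zero] at h ⊢
    have h' : Module.Projective (R ⧸ I) (M ⧸ I • (⊤ : Submodule R M)) :=
      (IsProjective.iff_projective _).mpr h
    have := free_of_fibre p hp M h'
    exact (IsProjective.iff_projective _).mp (inferInstance : Module.Projective R M)
  | succ k ih =>
    intro M _ _ _ _ _ _ h
    obtain ⟨r, f, hf⟩ := Module.Finite.exists_fin' R M
    have hfp : Module.FinitePresentation R M :=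
      Groth.Agent.CalgB.NagataFP.finitePresentation_of_flat_essFiniteType (A := V)
    have hkfg : (LinearMap.ker f).FG := Module.FinitePresentation.fg_ker f hf
    have : Module.Finite R (LinearMap.ker f) := Module.Finite.iff_fg.mpr hkfg
    have : Module.Flat V (Fin r → R) :=
      Module.Flat.trans V R (Fin r → R)
    have : Module.Flat V (LinearMap.ker f) := 
      Groth.Agent.CalgB.NagataFP.flat_of_injective ((LinearMap.ker f).subtype.restrictScalars V)
        (LinearMap.ker f).injective_subtype
    have hS := kerSeq_shortExact f hf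
    have hS' := quotSeq_shortExact I f hf (by
      rw [injective_iff_map_eq_zero]
      intro x hx
      obtain ⟨x, rfl⟩ := Submodule.Quotient.mk_surjective _ x
      rw [qmap_mk, Submodule.Quotient.mk_eq_zero] at hx
      rw [Submodule.Quotient.mk_eq_zero]
      exact mem_smul_ker p f x hx)
    have hp2 : Projective (kerSeq f).X₂ := (IsProjective.iff_projective _).mp
      (inferInstance : Module.Projective R (Fin r → R))
    have hp2' : Projective (quotSeq I f).X₂ := (IsProjective.iff_projective _).mp
      (projective_quot I : Module.Projective (R ⧸ I) ((Fin r → R) ⧸ I • (⊤ : Submodule R (Fin r → R))))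
    have h1 : HasProjectiveDimensionLT (quotSeq I f).X₁ (k + 1) :=
      (hS'.hasProjectiveDimensionLT_X₃_iff k hp2').mp h
    have h2 : HasProjectiveDimensionLT (kerSeq f).X₁ (k + 1) := ih (LinearMap.ker f) h1
    exact (hS.hasProjectiveDimensionLT_X₃_iff k hp2).mpr h2

/-- If the fibre ring `R/pR` is regular local of dimension `n` then every finite `V`-flat module has projective
dimension at most `n`. -/
theorem pd_le_of_flat (p : Ideal V) (hp : p.map (algebraMap V R) ≤ IsLocalRing.maximalIdeal R)
    [Module.Flat V R] (n : ℕ) (hreg : IsRegularLocalRing (R ⧸ p.map (algebraMap V R)))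
    (hn : ringKrullDim (R ⧸ p.map (algebraMap V R)) = n)
    (M : Type u) [AddCommGroup M] [Module R M] [Module V M] [IsScalarTower V R M] [Module.Finite R M]
    [Module.Flat V M] : HasProjectiveDimensionLE (ModuleCat.of R M) n :=
  pd_le_of_fibre p hp n M (Groth.Agent.S0563.result _ n hn _)

/-- The kernel of a map from a finite free module onto a finitely presented module. -/
theorem pd_le_succ (p : Ideal V) (hp : p.map (algebraMap V R) ≤ IsLocalRing.maximalIdeal R)
    [Module.Flat V R] (n : ℕ) (hreg : IsRegularLocalRing (R ⧸ p.map (algebraMap V R)))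
    (hn : ringKrullDim (R ⧸ p.map (algebraMap V R)) = n)
    (M : Type u) [AddCommGroup M] [Module R M] [Module.FinitePresentation R M] :
    HasProjectiveDimensionLE (ModuleCat.of R M) (n + 1) := by
  obtain ⟨r, f, hf⟩ := Module.Finite.exists_fin' R M
  have hkfg : (LinearMap.ker f).FG := Module.FinitePresentation.fg_ker f hf
  have : Module.Finite R (LinearMap.ker f) := Module.Finite.iff_fg.mpr hkfg
  have : Module.Flat V (Fin r → R) :=
    Module.Flat.trans V R (Fin r → R)
  have : Module.Flat V (LinearMap.ker f) := 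
    Groth.Agent.CalgB.NagataFP.flat_of_injective ((LinearMap.ker f).subtype.restrictScalars V)
      (LinearMap.ker f).injective_subtype
  have hS := kerSeq_shortExact f hf
  have hp2 : Projective (kerSeq f).X₂ := (IsProjective.iff_projective _).mp
    (inferInstance : Module.Projective R (Fin r → R))
  exact (hS.hasProjectiveDimensionLT_X₃_iff n hp2).mpr (pd_le_of_flat p hp n hreg hn (LinearMap.ker f))

omit [IsLocalRing R] in
theorem finite_ker [Module.Flat V R] {F G : Type u} [AddCommGroup F] [Module R F] [AddCommGroup G] [Module R G]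
    [Module V F] [IsScalarTower V R F] [Module V G] [IsScalarTower V R G]
    [Module.Finite R F] [Module.Flat R F] [Module.Flat R G] (φ : F →ₗ[R] G) :
    Module.Finite R (LinearMap.range φ) ∧ Module.Flat V (LinearMap.range φ) ∧
      Module.Finite R (LinearMap.ker φ) ∧ Module.Flat V (LinearMap.ker φ) := by
  have h1 : Module.Finite R (LinearMap.range φ) := inferInstance
  have : Module.Flat V G := Module.Flat.trans V R G
  have : Module.Flat V F := Module.Flat.trans V R F
  have h2 : Module.Flat V (LinearMap.range φ) :=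
    Groth.Agent.CalgB.NagataFP.flat_of_injective ((LinearMap.range φ).subtype.restrictScalars V)
      (LinearMap.range φ).injective_subtype
  have h3 : Module.Flat V (LinearMap.ker φ) :=
    Groth.Agent.CalgB.NagataFP.flat_of_injective ((LinearMap.ker φ).subtype.restrictScalars V)
      (LinearMap.ker φ).injective_subtype
  have h4 : Module.FinitePresentation R (LinearMap.range φ) :=
    Groth.Agent.CalgB.NagataFP.finitePresentation_of_flat_essFiniteType (A := V)
  have h5 := Module.FinitePresentation.fg_ker φ.rangeRestrict φ.surjective_rangeRestrict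
  rw [LinearMap.ker_rangeRestrict] at h5
  exact ⟨h1, h2, Module.Finite.iff_fg.mpr h5, h3⟩

omit [IsLocalRing R] [Algebra.EssFiniteType V R] [ValuationRing V] [IsDomain V] in
theorem exists_dual_equiv_ker (N : Type u) [AddCommGroup N] [Module R N] [Module.FinitePresentation R N] :
    ∃ (a b : ℕ) (φ : Module.Dual R (Fin a → R) →ₗ[R] Module.Dual R (Fin b → R)),
      Nonempty (Module.Dual R N ≃ₗ[R] LinearMap.ker φ) := by
  obtain ⟨a, π, hπ⟩ := Module.Finite.exists_fin' R N
  have hk : (LinearMap.ker π).FG := Module.FinitePresentation.fg_ker π hπ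
  have : Module.Finite R (LinearMap.ker π) := Module.Finite.iff_fg.mpr hk
  obtain ⟨b, σ, hσ⟩ := Module.Finite.exists_fin' R (LinearMap.ker π)
  let τ : (Fin b → R) →ₗ[R] (Fin a → R) := (LinearMap.ker π).subtype ∘ₗ σ
  have hτ : LinearMap.range τ = LinearMap.ker π := by
    rw [LinearMap.range_comp, LinearMap.range_eq_top.mpr hσ, Submodule.map_top, Submodule.range_subtype]
  refine ⟨a, b, τ.dualMap, ⟨?_⟩⟩
  have e1 : ((Fin a → R) ⧸ LinearMap.ker π) ≃ₗ[R] N := π.quotKerEquivOfSurjective hπ
  have e2 := (LinearMap.ker π).dualQuotEquivDualAnnihilator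
  have e3 : (LinearMap.ker π).dualAnnihilator = LinearMap.ker τ.dualMap := by
    rw [LinearMap.ker_dualMap_eq_dualAnnihilator_range, hτ]
  exact (e1.dualMap.trans e2).trans (LinearEquiv.ofEq _ _ e3)

theorem pd_ker (p : Ideal V) (hp : p.map (algebraMap V R) ≤ IsLocalRing.maximalIdeal R)
    [Module.Flat V R] (n : ℕ) (hreg : IsRegularLocalRing (R ⧸ p.map (algebraMap V R)))
    (hn : ringKrullDim (R ⧸ p.map (algebraMap V R)) = n)
    {F G : Type u} [AddCommGroup F] [Module R F] [AddCommGroup G] [Module R G]
    [Module V F] [IsScalarTower V R F] [Module V G] [IsScalarTower V R G]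
    [Module.Finite R F] [Module.Projective R F] [Module.Flat R G] (ψ : F →ₗ[R] G) :
    HasProjectiveDimensionLE (ModuleCat.of R (LinearMap.ker ψ)) (n - 1) := by
  obtain ⟨g1, g2, -, -⟩ := finite_ker (V := V) ψ
  have hX3 : HasProjectiveDimensionLE (ModuleCat.of R (LinearMap.range ψ)) n :=
    pd_le_of_flat p hp n hreg hn (LinearMap.range ψ)
  let ρ : F →ₗ[R] LinearMap.range ψ := ψ.rangeRestrict
  have hS := kerSeq_shortExact (R := R) (M := F) (N := LinearMap.range ψ) ρ ψ.surjective_rangeRestrict
  have hp2 : Projective (kerSeq (R := R) (M := F) (N := LinearMap.range ψ) ρ).X₂ :=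
    (IsProjective.iff_projective _).mp (inferInstance : Module.Projective R F)
  have h3 : HasProjectiveDimensionLT (kerSeq (R := R) (M := F) (N := LinearMap.range ψ) ρ).X₃ (n + 1) := hX3
  have h1 : HasProjectiveDimensionLE (ModuleCat.of R (LinearMap.ker ρ)) (n - 1) := by
    rcases n with _ | n
    · have h2 : HasProjectiveDimensionLT (kerSeq (R := R) (M := F) (N := LinearMap.range ψ) ρ).X₂ 1 :=
        inferInstance
      have h3' : HasProjectiveDimensionLT (kerSeq (R := R) (M := F) (N := LinearMap.range ψ) ρ).X₃ 2 :=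
        inferInstance
      exact hS.hasProjectiveDimensionLT_X₁ 1 h2 h3'
    · have h2 : HasProjectiveDimensionLT (kerSeq (R := R) (M := F) (N := LinearMap.range ψ) ρ).X₂ (n + 1) :=
        hasProjectiveDimensionLT_of_ge _ 1 (n + 1) (by omega)
      exact hS.hasProjectiveDimensionLT_X₁ (n + 1) h2 h3
  have e3 : LinearMap.ker ρ ≃ₗ[R] LinearMap.ker ψ := LinearEquiv.ofEq _ _ (LinearMap.ker_rangeRestrict ψ)
  exact hasProjectiveDimensionLT_of_iso (LinearEquiv.toModuleIso (R := R) (X₁ := LinearMap.ker ρ)
    (X₂ := LinearMap.ker ψ) e3) _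

/-- A reflexive module has projective dimension at most `n - 1`. -/
theorem pd_le_pred (p : Ideal V) (hp : p.map (algebraMap V R) ≤ IsLocalRing.maximalIdeal R)
    [Module.Flat V R] (n : ℕ) (hreg : IsRegularLocalRing (R ⧸ p.map (algebraMap V R)))
    (hn : ringKrullDim (R ⧸ p.map (algebraMap V R)) = n)
    (M : Type u) [AddCommGroup M] [Module R M] [Module.FinitePresentation R M] [Module.IsReflexive R M] :
    HasProjectiveDimensionLE (ModuleCat.of R M) (n - 1) := by
  obtain ⟨a, b, φ, ⟨e⟩⟩ := exists_dual_equiv_ker (R := R) M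
  obtain ⟨-, -, h3, h4⟩ := finite_ker (V := V) φ
  have h5 : Module.FinitePresentation R (LinearMap.ker φ) :=
    Groth.Agent.CalgB.NagataFP.finitePresentation_of_flat_essFiniteType (A := V) (B := R)
      (M := LinearMap.ker φ)
  have h6 : Module.FinitePresentation R (Module.Dual R M) := Module.FinitePresentation.of_equiv (R := R)
    (M := LinearMap.ker φ) (N := Module.Dual R M) e.symm
  obtain ⟨c, d, ψ, ⟨e'⟩⟩ := exists_dual_equiv_ker (R := R) (Module.Dual R M)
  have e'' : LinearMap.ker ψ ≃ₗ[R] M := ((Module.evalEquiv R M).trans e').symm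
  have h1 := pd_ker p hp n hreg hn ψ
  exact @pd_of_equiv R _ (LinearMap.ker ψ) M _ _ _ _ e'' _ h1

end Main

end K89.ValPd
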