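import Groth.Agent.Sga3A.FibTors1
import Groth.Agent.CalgC.HenselFactor
import Mathlib.RingTheory.Polynomial.Basic
import Mathlib.Algebra.Polynomial.Lifts
import Mathlib.Algebra.Polynomial.Reverse
import Mathlib.RingTheory.AdjoinRoot
import Mathlib.RingTheory.Polynomial.Quotient

/-!
# Weierstrass preparation for polynomials over a henselian local ring

`exists_weier`: for a henselian local ring `R`, a polynomial `h = X^n u - g` with `u(0) = 1` and `g ∈ 𝔪[X]` divides `w P`
with `P` monic of degree `n`, `P ≡ X^n` modulo `𝔪`, and `w(0)` a unit.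
-/

set_option autoImplicit false
universe u

open Polynomial IsLocalRing

namespace K89.WeierPoly

section Local

variable {R : Type u} [CommRing R] [IsLocalRing R]

theorem mem_iff_map (g : R[X]) : g ∈ (maximalIdeal R).map (C : R →+* R[X]) ↔ g.map (residue R) = 0 := by
  rw [Ideal.mem_map_C_iff, Polynomial.ext_iff]
  simp only [coeff_map, coeff_zero, residue_eq_zero_iff]

theorem isUnit_of_residue_ne {x : R} (h : residue R x ≠ 0) : IsUnit x := by
  rwa [residue_ne_zero_iff_isUnit] at h

end Local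

theorem finite_of_monic {R Q : Type*} [CommRing R] [CommRing Q] [Algebra R Q] (φ : R[X] →ₐ[R] Q)
    (hs : Function.Surjective φ) (H : R[X]) (hH : H.Monic) (hφ : φ H = 0) : Module.Finite R Q := by
  have h1 : Module.Finite R (R[X] ⧸ Ideal.span {H}) := hH.finite_quotient
  have h2 : ∀ a ∈ Ideal.span {H}, φ a = 0 := by
    intro a ha
    obtain ⟨b, rfl⟩ := Ideal.mem_span_singleton.mp ha
    rw [map_mul, hφ, zero_mul]
  refine Module.Finite.of_surjective (Ideal.Quotient.liftₐ (Ideal.span {H}) φ h2).toLinearMap ?_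
  intro x
  obtain ⟨y, rfl⟩ := hs x
  exact ⟨Ideal.Quotient.mk _ y, rfl⟩

theorem exists_monic_of_finite {R Q : Type*} [CommRing R] [IsLocalRing R] [CommRing Q] [Algebra R Q]
    [Module.Finite R Q] (π : R[X] →ₐ[R] Q) (hπs : Function.Surjective π) (H h : R[X]) (c : R) (hHmon : H.Monic)
    (hHh : H - C c * h ∈ (maximalIdeal R).map (C : R →+* R[X])) (hπh : π h = 0) :
    ∃ P1 : R[X], P1.Monic ∧ P1.natDegree = H.natDegree ∧ π P1 = 0 := by
  set N := H.natDegree with hHdeg
  have hπm : ∀ a ∈ (maximalIdeal R).map (C : R →+* R[X]), π a ∈ maximalIdeal R • (⊤ : Submodule R Q) := by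
    intro a ha
    rw [← Polynomial.sum_C_mul_X_pow_eq a, Polynomial.sum, map_sum]
    refine Submodule.sum_mem _ fun i _ => ?_
    rw [← smul_eq_C_mul, map_smul]
    exact Submodule.smul_mem_smul ((Ideal.mem_map_C_iff.mp ha) i) trivial
  have hNak : (⊤ : Submodule R Q) ≤ (degreeLT R N).map π.toLinearMap := by
    apply Submodule.le_of_le_smul_of_le_jacobson_bot (I := maximalIdeal R) Module.Finite.fg_top
      (IsLocalRing.jacobson_eq_maximalIdeal (⊥ : Ideal R) bot_ne_top).ge
    intro z _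
    obtain ⟨q, rfl⟩ := hπs z
    rw [← modByMonic_add_div q H, map_add]
    refine Submodule.add_mem_sup ?_ ?_
    · refine ⟨q %ₘ H, ?_, rfl⟩
      rw [SetLike.mem_coe, mem_degreeLT]
      have := degree_modByMonic_lt q hHmon
      rw [degree_eq_natDegree hHmon.ne_zero, ← hHdeg] at this
      exact this
    · have h1 : H * (q /ₘ H) = (H - C c * h) * (q /ₘ H) + (C c * (q /ₘ H)) * h := by ring
      rw [h1, map_add, map_mul π (C c * (q /ₘ H)) h, hπh, mul_zero, add_zero]
      exact hπm _ (Ideal.mul_mem_right _ _ hHh)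
  obtain ⟨r, hr, hrX⟩ := hNak (show π (X ^ N) ∈ (⊤ : Submodule R Q) from trivial)
  rw [SetLike.mem_coe, mem_degreeLT] at hr
  refine ⟨X ^ N - r, monic_X_pow_sub hr, ?_, ?_⟩
  · have : Nontrivial R := inferInstance
    apply natDegree_eq_of_degree_eq_some
    rw [sub_eq_add_neg, degree_add_eq_left_of_degree_lt]
    · exact degree_X_pow N
    · rw [degree_neg, degree_X_pow]; exact hr
  · rw [map_sub, sub_eq_zero]
    exact hrX.symm

variable {R : Type u} [CommRing R] [HenselianLocalRing R]

theorem exists_weier (n : ℕ) (u g : R[X]) (hu : u.coeff 0 = 1)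
    (hg : g ∈ (maximalIdeal R).map (C : R →+* R[X])) :
    ∃ P w : R[X], P.Monic ∧ P.natDegree = n ∧ (∀ i, i < n → P.coeff i ∈ maximalIdeal R) ∧
      IsUnit (w.coeff 0) ∧ (X ^ n * u - g) ∣ w * P := by
  classical
  set h := X ^ n * u - g with hh
  have hgr : g.map (residue R) = 0 := (mem_iff_map g).mp hg
  have hhr : h.map (residue R) = X ^ n * u.map (residue R) := by
    rw [hh, Polynomial.map_sub, hgr, sub_zero, Polynomial.map_mul, Polynomial.map_pow, map_X]
  have hu0 : (u.map (residue R)).coeff 0 = 1 := by rw [coeff_map, hu, map_one]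
  have hur : u.map (residue R) ≠ 0 := fun h0 => by rw [h0, coeff_zero] at hu0; exact zero_ne_one hu0
  have hhr0 : h.map (residue R) ≠ 0 := by rw [hhr]; exact mul_ne_zero (pow_ne_zero _ X_ne_zero) hur
  set c := (h.map (residue R)).leadingCoeff with hc
  have hc0 : c ≠ 0 := leadingCoeff_ne_zero.mpr hhr0
  obtain ⟨c', hc'⟩ := residue_surjective (R := R) c⁻¹
  have hmonr : (C c⁻¹ * h.map (residue R)).Monic := by
    rw [Monic, leadingCoeff_mul, leadingCoeff_C, ← hc, inv_mul_cancel₀ hc0]
  set N := (C c⁻¹ * h.map (residue R)).natDegree with hN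
  obtain ⟨H, hH, hHdeg, hHmon⟩ := lifts_and_natDegree_eq_and_monic (f := residue R)
    (map_surjective (residue R) residue_surjective (C c⁻¹ * h.map (residue R))) hmonr
  rw [← hN] at hHdeg
  have hHh : H - C c' * h ∈ (maximalIdeal R).map (C : R →+* R[X]) := by
    rw [mem_iff_map, Polynomial.map_sub, hH, Polynomial.map_mul, map_C, hc', sub_self]
  let Cq := R[X] ⧸ Ideal.span {h}
  have hmC : (maximalIdeal R).map (algebraMap R Cq) =
      ((maximalIdeal R).map (C : R →+* R[X])).map (Ideal.Quotient.mk (Ideal.span {h})) := by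
    rw [Ideal.map_map]; rfl
  -- finiteness of the closed fibre
  have hfin : Module.Finite R (Cq ⧸ (maximalIdeal R).map (algebraMap R Cq)) := by
    let φ : R[X] →ₐ[R] (Cq ⧸ (maximalIdeal R).map (algebraMap R Cq)) :=
      (Ideal.Quotient.mkₐ R _).comp (Ideal.Quotient.mkₐ R (Ideal.span {h}))
    refine finite_of_monic (Q := Cq ⧸ (maximalIdeal R).map (algebraMap R Cq)) φ ?_ H hHmon ?_
    · intro x
      obtain ⟨y, rfl⟩ := Ideal.Quotient.mk_surjective x
      obtain ⟨z, rfl⟩ := Ideal.Quotient.mk_surjective y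
      exact ⟨z, rfl⟩
    · have h2 : H = (H - C c' * h) + C c' * h := by ring
      change Ideal.Quotient.mk _ (Ideal.Quotient.mk _ H) = 0
      rw [h2, map_add, map_mul (Ideal.Quotient.mk (Ideal.span {h})),
        Ideal.Quotient.eq_zero_iff_mem.mpr (Ideal.mem_span_singleton_self h), mul_zero, add_zero,
        Ideal.Quotient.eq_zero_iff_mem, hmC]
      exact Ideal.mem_map_of_mem _ hHh
  obtain ⟨e, he, hfe, htop⟩ := Groth.Agent.Sga3A.FibTors1.exists_split hfin
  have he1 : 1 - e ∈ (maximalIdeal R).map (algebraMap R Cq) := by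
    have h1 : (1 : Cq) ∈ (maximalIdeal R).map (algebraMap R Cq) ⊔ Ideal.span {e} := by rw [htop]; trivial
    obtain ⟨a, ha, b, hb, hab⟩ := Submodule.mem_sup.mp h1
    obtain ⟨d, rfl⟩ := Ideal.mem_span_singleton.mp hb
    have h2 : 1 - e = (1 - e) * a := by
      have h3 : (1 - e) * (a + e * d) = 1 - e := by rw [hab, mul_one]
      have h4 : (1 - e) * e = 0 := by rw [sub_mul, one_mul, he.eq, sub_self]
      linear_combination -h3 + d * h4
    rw [h2]
    exact Ideal.mul_mem_left _ _ ha
  let C1 := Cq ⧸ Ideal.span ({1 - e} : Set Cq)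
  let π : R[X] →ₐ[R] C1 := (Ideal.Quotient.mkₐ R _).comp (Ideal.Quotient.mkₐ R (Ideal.span {h}))
  have hπs : Function.Surjective π := by
    intro x
    obtain ⟨y, rfl⟩ := Ideal.Quotient.mk_surjective x
    obtain ⟨z, rfl⟩ := Ideal.Quotient.mk_surjective y
    exact ⟨z, rfl⟩
  have hπh : π h = 0 := by
    change Ideal.Quotient.mk _ (Ideal.Quotient.mk _ h) = 0
    rw [Ideal.Quotient.eq_zero_iff_mem.mpr (Ideal.mem_span_singleton_self h), map_zero]
  obtain ⟨P1, hP1mon, hP1deg, hπP1⟩ := exists_monic_of_finite (Q := C1) π hπs H h c' hHmon hHh hπh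
  rw [hHdeg] at hP1deg
  have hP1mem : Ideal.Quotient.mk (Ideal.span {h}) P1 ∈ Ideal.span ({1 - e} : Set Cq) :=
    Ideal.Quotient.eq_zero_iff_mem.mp hπP1
  obtain ⟨z, hz⟩ := Ideal.mem_span_singleton.mp hP1mem
  -- the reduction of `P1`
  have hP1r : P1.map (residue R) = C c⁻¹ * h.map (residue R) := by
    have h1 : Ideal.Quotient.mk (Ideal.span {h}) P1 ∈
        ((maximalIdeal R).map (C : R →+* R[X])).map (Ideal.Quotient.mk (Ideal.span {h})) := by
      rw [← hmC, hz]
      exact Ideal.mul_mem_right _ _ he1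
    obtain ⟨μ, hμ, hμ'⟩ := (Ideal.mem_map_iff_of_surjective _ Ideal.Quotient.mk_surjective).mp h1
    rw [Ideal.Quotient.eq, Ideal.mem_span_singleton] at hμ'
    obtain ⟨a, ha⟩ := hμ'
    have h2 : P1.map (residue R) = h.map (residue R) * (-a).map (residue R) := by
      have h3 : P1 = μ + h * (-a) := by linear_combination (-1 : R[X]) * ha
      rw [h3, Polynomial.map_add, (mem_iff_map μ).mp hμ, zero_add, Polynomial.map_mul]
    have h3 : C c⁻¹ * h.map (residue R) ∣ P1.map (residue R) := by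
      rw [h2]
      refine ⟨C c * (-a).map (residue R), ?_⟩
      have : (C c⁻¹ * C c : (ResidueField R)[X]) = 1 := by rw [← C_mul, inv_mul_cancel₀ hc0, C_1]
      linear_combination (-(h.map (residue R) * (-a).map (residue R))) * this
    refine (eq_of_monic_of_dvd_of_natDegree_le hmonr (hP1mon.map _) h3 ?_)
    rw [hP1mon.natDegree_map, hP1deg]
  have hP1r' : P1.map (residue R) = X ^ n * (C c⁻¹ * u.map (residue R)) := by
    rw [hP1r, hhr]; ring
  have hQmon : (C c⁻¹ * u.map (residue R)).Monic := by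
    have h1 : (X ^ n * (C c⁻¹ * u.map (residue R))).Monic := by rw [← hP1r']; exact hP1mon.map _
    exact (monic_X_pow n).of_mul_monic_left h1
  have hcop : IsCoprime (X ^ n : (ResidueField R)[X]) (C c⁻¹ * u.map (residue R)) := by
    refine IsCoprime.pow_left ?_
    refine (prime_X (R := ResidueField R)).irreducible.coprime_iff_not_dvd.mpr ?_
    rw [X_dvd_iff, mul_coeff_zero, coeff_C_zero, hu0, mul_one]
    exact inv_ne_zero hc0
  obtain ⟨P, Q, hPmon, hQmon', hPQ, hPr, hQr⟩ := Groth.Agent.CalgC.HenselFactor.exists_factor P1 hP1mon _ _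
    (monic_X_pow n) hQmon hcop hP1r'
  -- lift of `e`
  have h1e : (1 - e) ∈ ((maximalIdeal R).map (C : R →+* R[X])).map (Ideal.Quotient.mk (Ideal.span {h})) := by
    rw [← hmC]; exact he1
  obtain ⟨μ, hμ, hμ'⟩ := (Ideal.mem_map_iff_of_surjective _ Ideal.Quotient.mk_surjective).mp h1e
  refine ⟨P, (1 - μ) * Q, hPmon, ?_, ?_, ?_, ?_⟩
  · rw [← hPmon.natDegree_map (residue R), hPr, natDegree_X_pow]
  · intro i hi
    rw [← residue_eq_zero_iff, ← coeff_map, hPr, coeff_X_pow, if_neg (by omega)]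
  · apply isUnit_of_residue_ne
    rw [mul_coeff_zero, map_mul, coeff_sub, coeff_one_zero, map_sub, map_one,
      (residue_eq_zero_iff _).mpr ((Ideal.mem_map_C_iff.mp hμ) 0), sub_zero, one_mul, ← coeff_map, hQr,
      mul_coeff_zero, coeff_C_zero, hu0, mul_one]
    exact inv_ne_zero hc0
  · rw [← Ideal.mem_span_singleton, ← Ideal.Quotient.eq_zero_iff_mem, mul_assoc, mul_comm Q P, ← hPQ, map_mul,
      map_sub, map_one, hμ', hz]
    have h4 : (1 - (1 - e)) * ((1 - e) * z) = 0 := by
      have h5 : e * (1 - e) = 0 := by rw [mul_sub, mul_one, he.eq, sub_self]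
      linear_combination z * h5
    exact h4

end K89.WeierPoly
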